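import Mathlib
import Cfsg.Prelude.Def_OddOrderChar
import Cfsg.Agent.H4.IrrCount

set_option autoImplicit false

namespace Cfsg.Agent.H32

open Cfsg.Agent.H4

section Signed

variable {X : Type*} [Group X]

/-- A function that is an irreducible character up to sign is `ε • μ` with `ε = ±1` real and
`μ` irreducible. -/
theorem signed_irr {α : X → ℂ} (h : Cfsg.IsIrrCharacter X α ∨ Cfsg.IsIrrCharacter X (-α)) :
    ∃ (ε : ℝ) (μ : Cfsg.IrrCharacter X), (ε = 1 ∨ ε = -1) ∧ α = (ε : ℂ) • (μ : X → ℂ) := by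
  rcases h with h | h
  · exact ⟨1, ⟨α, h⟩, Or.inl rfl, by simp⟩
  · exact ⟨-1, ⟨-α, h⟩, Or.inr rfl, by simp⟩

/-- The degree of an irreducible character, as a real number. -/
noncomputable def irrDeg (μ : Cfsg.IrrCharacter X) : ℝ := ((μ : X → ℂ) 1).re

theorem irrDeg_spec (μ : Cfsg.IrrCharacter X) :
    (μ : X → ℂ) 1 = ((irrDeg μ : ℝ) : ℂ) ∧ 0 < irrDeg μ := by
  obtain ⟨n, hn, h⟩ := irr_one_eq_natCast μ
  unfold irrDeg
  rw [h]
  refine ⟨by simp, ?_⟩
  simp only [Complex.natCast_re]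
  exact_mod_cast hn

open Classical in
/-- Inner product of two signed irreducible characters. -/
theorem classInner_signed [Fintype X] (e₁ e₂ : ℝ) (M N : Cfsg.IrrCharacter X) :
    Cfsg.classInner ((e₁ : ℂ) • (M : X → ℂ)) ((e₂ : ℂ) • (N : X → ℂ)) =
      ((e₁ * e₂ * (if M = N then 1 else 0) : ℝ) : ℂ) := by
  rw [classInner_smul_left, classInner_smul_right, irr_inner, Complex.conj_ofReal]
  split_ifs <;> push_cast <;> ring

end Signed

end Cfsg.Agent.H32
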