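import Mathlib
import Cfsg.Prelude.Def_OddOrderChar
import Cfsg.Agent.H4.Chars
import Cfsg.Agent.H4.IrrCount

set_option autoImplicit false

namespace Cfsg.Agent.H32

open Cfsg Cfsg.Agent.H4

section IntSq

variable {ι : Type*} [Fintype ι]

theorem int_sq_eq_one {n : ℤ} (h : n ^ 2 = 1) : n = 1 ∨ n = -1 := by
  have h' : (n - 1) * (n + 1) = 0 := by ring_nf; linarith
  rcases mul_eq_zero.mp h' with h | h
  · left; linarith
  · right; linarith

theorem int_sq_sum_one [DecidableEq ι] (n : ι → ℤ) (h : ∑ i, n i ^ 2 = 1) :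
    ∃ i₀, (n i₀ = 1 ∨ n i₀ = -1) ∧ ∀ i, i ≠ i₀ → n i = 0 := by
  have hex : ∃ i₀, n i₀ ≠ 0 := by
    by_contra hne
    push Not at hne
    simp [hne] at h
  obtain ⟨i₀, hi₀⟩ := hex
  have hsplit : n i₀ ^ 2 + ∑ i ∈ Finset.univ.erase i₀, n i ^ 2 = ∑ i, n i ^ 2 :=
    Finset.add_sum_erase Finset.univ (fun i => n i ^ 2) (Finset.mem_univ i₀)
  have hnn : 0 ≤ ∑ i ∈ Finset.univ.erase i₀, n i ^ 2 :=
    Finset.sum_nonneg (fun i _ => sq_nonneg _)
  have hpos : 0 < n i₀ ^ 2 := by positivity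
  have h2 : n i₀ ^ 2 = 1 := by linarith
  have h3 : ∑ i ∈ Finset.univ.erase i₀, n i ^ 2 = 0 := by linarith
  refine ⟨i₀, int_sq_eq_one h2, ?_⟩
  intro i hi
  have := (Finset.sum_eq_zero_iff_of_nonneg (fun i _ => sq_nonneg (n i))).mp h3 i
    (Finset.mem_erase.mpr ⟨hi, Finset.mem_univ _⟩)
  exact pow_eq_zero_iff two_ne_zero |>.mp this

theorem int_sq_sum_two [DecidableEq ι] (n : ι → ℤ) (h : ∑ i, n i ^ 2 = 2) :
    ∃ i₁ i₂, i₁ ≠ i₂ ∧ (n i₁ = 1 ∨ n i₁ = -1) ∧ (n i₂ = 1 ∨ n i₂ = -1) ∧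
      ∀ i, i ≠ i₁ → i ≠ i₂ → n i = 0 := by
  have hex : ∃ i₁, n i₁ ≠ 0 := by
    by_contra hne
    push Not at hne
    simp [hne] at h
  obtain ⟨i₁, hi₁⟩ := hex
  have hsplit : n i₁ ^ 2 + ∑ i ∈ Finset.univ.erase i₁, n i ^ 2 = ∑ i, n i ^ 2 :=
    Finset.add_sum_erase Finset.univ (fun i => n i ^ 2) (Finset.mem_univ i₁)
  have hnn : 0 ≤ ∑ i ∈ Finset.univ.erase i₁, n i ^ 2 :=
    Finset.sum_nonneg (fun i _ => sq_nonneg _)
  have hpos : 0 < n i₁ ^ 2 := by positivity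
  have hle : n i₁ ^ 2 ≤ 2 := by linarith
  have h1 : n i₁ ^ 2 = 1 := by
    have hu : n i₁ ≤ 1 := by nlinarith
    have hl : -1 ≤ n i₁ := by nlinarith
    have h0 : n i₁ ≠ 0 := hi₁
    have : n i₁ = 1 ∨ n i₁ = -1 := by omega
    rcases this with h | h <;> rw [h] <;> norm_num
  have h2 : ∑ i, (Function.update n i₁ 0 i) ^ 2 = 1 := by
    rw [← Finset.add_sum_erase Finset.univ _ (Finset.mem_univ i₁)]
    have e : ∑ i ∈ Finset.univ.erase i₁, (Function.update n i₁ 0 i) ^ 2 =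
        ∑ i ∈ Finset.univ.erase i₁, n i ^ 2 := by
      apply Finset.sum_congr rfl
      intro i hi
      rw [Function.update_of_ne (Finset.ne_of_mem_erase hi)]
    rw [e, Function.update_self]
    linarith
  obtain ⟨i₂, hi₂, hrest⟩ := int_sq_sum_one _ h2
  have hne : i₂ ≠ i₁ := by
    rintro rfl
    rw [Function.update_self] at hi₂
    rcases hi₂ with h | h <;> norm_num at h
  refine ⟨i₁, i₂, hne.symm, int_sq_eq_one h1, ?_, ?_⟩
  · rwa [Function.update_of_ne hne] at hi₂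
  · intro i h1 h2
    have := hrest i h2
    rwa [Function.update_of_ne h1] at this

end IntSq

section Virtual

variable {G : Type*} [Group G] [Fintype G]

/-- A character is a generalized character. -/
theorem isGeneralizedCharacter_of_isCharacter {χ : G → ℂ} (h : IsCharacter G χ) :
    IsGeneralizedCharacter G χ :=
  ⟨χ, 0, h, isCharacter_zero, by simp⟩

theorem isGeneralizedCharacter_neg {χ : G → ℂ} (h : IsGeneralizedCharacter G χ) :
    IsGeneralizedCharacter G (-χ) := by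
  obtain ⟨a, b, ha, hb, rfl⟩ := h
  exact ⟨b, a, hb, ha, by simp⟩

theorem isGeneralizedCharacter_add {χ ψ : G → ℂ} (h : IsGeneralizedCharacter G χ)
    (h' : IsGeneralizedCharacter G ψ) : IsGeneralizedCharacter G (χ + ψ) := by
  obtain ⟨a, b, ha, hb, rfl⟩ := h
  obtain ⟨c, d, hc, hd, rfl⟩ := h'
  exact ⟨a + c, b + d, isCharacter_add ha hc, isCharacter_add hb hd, by abel⟩

theorem isGeneralizedCharacter_sub {χ ψ : G → ℂ} (h : IsGeneralizedCharacter G χ)
    (h' : IsGeneralizedCharacter G ψ) : IsGeneralizedCharacter G (χ - ψ) := by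
  rw [sub_eq_add_neg]
  exact isGeneralizedCharacter_add h (isGeneralizedCharacter_neg h')

/-- The integer coefficients of a virtual character. -/
theorem genChar_coeff {Θ : G → ℂ} (hΘ : IsGeneralizedCharacter G Θ) :
    ∃ n : IrrCharacter G → ℤ,
      Θ = ∑ᶠ χ : IrrCharacter G, ((n χ : ℤ) : ℂ) • (χ : G → ℂ) := by
  obtain ⟨χ, ψ, hχ, hψ, rfl⟩ := hΘ
  obtain ⟨m₁, rfl⟩ := isCharacter_iff.mp hχ
  obtain ⟨m₂, rfl⟩ := isCharacter_iff.mp hψ
  refine ⟨fun χ => (m₁ χ : ℤ) - (m₂ χ : ℤ), ?_⟩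
  letI := fintypeIrr G
  rw [finsum_irr_eq_sum, finsum_irr_eq_sum, finsum_irr_eq_sum, ← Finset.sum_sub_distrib]
  apply Finset.sum_congr rfl
  intro χ _
  push_cast
  rw [sub_smul]

/-- Parseval for combinations of irreducible characters. -/
theorem classInner_finsum_finsum (c d : IrrCharacter G → ℂ) :
    classInner (∑ᶠ χ : IrrCharacter G, c χ • (χ : G → ℂ))
      (∑ᶠ χ : IrrCharacter G, d χ • (χ : G → ℂ)) =
      ∑ᶠ χ : IrrCharacter G, c χ * (starRingEnd ℂ) (d χ) := by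
  classical
  letI := fintypeIrr G
  rw [finsum_irr_eq_sum (fun χ => d χ • (χ : G → ℂ)), classInner_sum_right,
    finsum_irr_eq_sum (fun χ => c χ * (starRingEnd ℂ) (d χ))]
  apply Finset.sum_congr rfl
  intro χ _
  rw [classInner_smul_right, classInner_finsum_irr, mul_comm]

/-- The coefficient of an irreducible character in a virtual character is the inner
product. -/
theorem genChar_coeff_eq (n : IrrCharacter G → ℤ) (μ : IrrCharacter G) :
    classInner (∑ᶠ χ : IrrCharacter G, ((n χ : ℤ) : ℂ) • (χ : G → ℂ)) μ.1 = ((n μ : ℤ) : ℂ) :=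
  classInner_finsum_irr _ μ

/-- A virtual character of norm `2` is `±μ₁ ± μ₂` with `μ₁ ≠ μ₂` irreducible. -/
theorem genChar_norm_two {Θ : G → ℂ} (hΘ : IsGeneralizedCharacter G Θ)
    (h2 : classInner Θ Θ = 2) :
    ∃ (μ₁ μ₂ : IrrCharacter G) (ε₁ ε₂ : ℤ), μ₁ ≠ μ₂ ∧ (ε₁ = 1 ∨ ε₁ = -1) ∧
      (ε₂ = 1 ∨ ε₂ = -1) ∧
      Θ = ((ε₁ : ℤ) : ℂ) • (μ₁ : G → ℂ) + ((ε₂ : ℤ) : ℂ) • (μ₂ : G → ℂ) := by
  classical
  letI := fintypeIrr G
  obtain ⟨n, hn⟩ := genChar_coeff hΘ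
  have hsum : ∑ χ : IrrCharacter G, n χ ^ 2 = 2 := by
    have h3 := h2
    rw [hn, classInner_finsum_finsum, finsum_irr_eq_sum] at h3
    have h4 : ((∑ χ : IrrCharacter G, n χ ^ 2 : ℤ) : ℂ) = 2 := by
      rw [← h3]
      push_cast
      apply Finset.sum_congr rfl
      intro χ _
      rw [map_intCast, sq]
    exact_mod_cast h4
  obtain ⟨μ₁, μ₂, hne, h1, h2', hrest⟩ := int_sq_sum_two n hsum
  refine ⟨μ₁, μ₂, n μ₁, n μ₂, hne, h1, h2', ?_⟩
  rw [hn, finsum_irr_eq_sum, ← Finset.add_sum_erase _ _ (Finset.mem_univ μ₁),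
    ← Finset.add_sum_erase _ _ (Finset.mem_erase.mpr ⟨hne.symm, Finset.mem_univ μ₂⟩),
    Finset.sum_eq_zero, add_zero]
  intro χ hχ
  rw [Finset.mem_erase, Finset.mem_erase] at hχ
  rw [hrest χ hχ.2.1 hχ.1]
  simp

/-- A virtual character of norm `2` vanishing at `1` is a difference of two distinct irreducible
characters of the same degree. -/
theorem genChar_norm_two_vanish {Θ : G → ℂ} (hΘ : IsGeneralizedCharacter G Θ)
    (h2 : classInner Θ Θ = 2) (h0 : Θ 1 = 0) :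
    ∃ μ₁ μ₂ : IrrCharacter G, μ₁ ≠ μ₂ ∧ Θ = (μ₁ : G → ℂ) - (μ₂ : G → ℂ) ∧
      (μ₁ : G → ℂ) 1 = (μ₂ : G → ℂ) 1 := by
  obtain ⟨μ₁, μ₂, ε₁, ε₂, hne, h1, h2', rfl⟩ := genChar_norm_two hΘ h2
  obtain ⟨d₁, hd₁, e₁⟩ := irr_one_eq_natCast μ₁
  obtain ⟨d₂, hd₂, e₂⟩ := irr_one_eq_natCast μ₂
  simp only [Pi.add_apply, Pi.smul_apply, smul_eq_mul, e₁, e₂] at h0
  have h0' : ε₁ * (d₁ : ℤ) + ε₂ * (d₂ : ℤ) = 0 := by exact_mod_cast h0
  rcases h1 with rfl | rfl <;> rcases h2' with rfl | rfl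
  · exfalso; omega
  · refine ⟨μ₁, μ₂, hne, ?_, ?_⟩
    · ext g
      simp only [Pi.add_apply, Pi.smul_apply, Pi.sub_apply, smul_eq_mul]
      push_cast
      ring
    · rw [e₁, e₂]
      have : d₁ = d₂ := by omega
      rw [this]
  · refine ⟨μ₂, μ₁, hne.symm, ?_, ?_⟩
    · ext g
      simp only [Pi.add_apply, Pi.smul_apply, Pi.sub_apply, smul_eq_mul]
      push_cast
      ring
    · rw [e₁, e₂]
      have : d₁ = d₂ := by omega
      rw [this]
  · exfalso; omega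

/-- A virtual character of norm `1` is `±μ` with `μ` irreducible. -/
theorem genChar_norm_one {Θ : G → ℂ} (hΘ : IsGeneralizedCharacter G Θ)
    (h1 : classInner Θ Θ = 1) :
    ∃ (μ : IrrCharacter G) (ε : ℤ), (ε = 1 ∨ ε = -1) ∧ Θ = ((ε : ℤ) : ℂ) • (μ : G → ℂ) := by
  classical
  letI := fintypeIrr G
  obtain ⟨n, hn⟩ := genChar_coeff hΘ
  have hsum : ∑ χ : IrrCharacter G, n χ ^ 2 = 1 := by
    have h3 := h1
    rw [hn, classInner_finsum_finsum, finsum_irr_eq_sum] at h3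
    have h4 : ((∑ χ : IrrCharacter G, n χ ^ 2 : ℤ) : ℂ) = 1 := by
      rw [← h3]
      push_cast
      apply Finset.sum_congr rfl
      intro χ _
      rw [map_intCast, sq]
    exact_mod_cast h4
  obtain ⟨μ, hμ, hrest⟩ := int_sq_sum_one n hsum
  refine ⟨μ, n μ, hμ, ?_⟩
  rw [hn, finsum_irr_eq_sum, ← Finset.add_sum_erase _ _ (Finset.mem_univ μ),
    Finset.sum_eq_zero, add_zero]
  intro χ hχ
  rw [Finset.mem_erase] at hχ
  rw [hrest χ hχ.1]
  simp

/-- The inner product of two virtual characters is an integer. -/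
theorem genChar_inner_int {Θ Θ' : G → ℂ} (h : IsGeneralizedCharacter G Θ)
    (h' : IsGeneralizedCharacter G Θ') : ∃ k : ℤ, classInner Θ Θ' = k := by
  classical
  letI := fintypeIrr G
  obtain ⟨n, rfl⟩ := genChar_coeff h
  obtain ⟨n', rfl⟩ := genChar_coeff h'
  refine ⟨∑ χ : IrrCharacter G, n χ * n' χ, ?_⟩
  rw [classInner_finsum_finsum, finsum_irr_eq_sum]
  push_cast
  apply Finset.sum_congr rfl
  intro χ _
  rw [map_intCast]

/-- Complex conjugation and the inner product. -/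
theorem classInner_conjFun_left (a b : G → ℂ) :
    classInner (conjFun a) b = (starRingEnd ℂ) (classInner a (conjFun b)) := by
  unfold classInner conjFun
  rw [map_mul, map_sum, map_inv₀, Complex.conj_natCast]
  congr 1
  apply Finset.sum_congr rfl
  intro g _
  rw [map_mul, Complex.conj_conj]

theorem conjFun_conjFun {X : Type*} (a : X → ℂ) : conjFun (conjFun a) = a := by
  funext x
  simp [conjFun]

end Virtual

end Cfsg.Agent.H32
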