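import Mathlib
import Cfsg.Prelude.Def_OddOrderChar
import Cfsg.Agent.H32.Virtual
import Cfsg.Agent.H32.Signed

set_option autoImplicit false

namespace Cfsg.Agent.H32

open Cfsg Cfsg.Agent.H4

section Basics

variable {G : Type*} [Group G] [Fintype G]

theorem zsmul_fun_eq_smul {X : Type*} (n : ℤ) (f : X → ℂ) : n • f = ((n : ℤ) : ℂ) • f := by
  ext x
  simp

theorem classInner_zero_right (f : G → ℂ) : classInner f 0 = 0 := by
  simp [classInner]

theorem classInner_zsmul_left (n : ℤ) (f h : G → ℂ) :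
    classInner (n • f) h = (n : ℂ) * classInner f h := by
  rw [zsmul_fun_eq_smul, classInner_smul_left]

theorem classInner_zsmul_right (n : ℤ) (f h : G → ℂ) :
    classInner f (n • h) = (n : ℂ) * classInner f h := by
  rw [zsmul_fun_eq_smul, classInner_smul_right, map_intCast]

/-- `⟨f, f⟩` is a nonnegative real number. -/
theorem classInner_self_eq (f : G → ℂ) :
    classInner f f = (((Nat.card G : ℝ)⁻¹ * ∑ g : G, ‖f g‖ ^ 2 : ℝ) : ℂ) := by
  unfold classInner
  push_cast
  congr 1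
  apply Finset.sum_congr rfl
  intro g _
  rw [Complex.mul_conj, Complex.normSq_eq_norm_sq]
  push_cast
  rfl

theorem classInner_self_re_nonneg (f : G → ℂ) : 0 ≤ (classInner f f).re := by
  rw [classInner_self_eq, Complex.ofReal_re]
  apply mul_nonneg
  · exact inv_nonneg.mpr (Nat.cast_nonneg _)
  · exact Finset.sum_nonneg (fun g _ => sq_nonneg _)

theorem classInner_self_im (f : G → ℂ) : (classInner f f).im = 0 := by
  rw [classInner_self_eq, Complex.ofReal_im]

theorem classInner_self_eq_zero {f : G → ℂ} (h : classInner f f = 0) : f = 0 := by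
  rw [classInner_self_eq] at h
  have h1 : (Nat.card G : ℝ)⁻¹ * ∑ g : G, ‖f g‖ ^ 2 = 0 := by exact_mod_cast h
  have hN : (Nat.card G : ℝ)⁻¹ ≠ 0 := by
    have : 0 < Nat.card G := Nat.card_pos
    have : (0 : ℝ) < Nat.card G := by exact_mod_cast this
    exact (inv_pos.mpr this).ne'
  have h2 : ∑ g : G, ‖f g‖ ^ 2 = 0 := by
    rcases mul_eq_zero.mp h1 with h | h
    · exact absurd h hN
    · exact h
  have h3 := (Finset.sum_eq_zero_iff_of_nonneg (fun g _ => sq_nonneg (‖f g‖))).mp h2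
  funext g
  have := h3 g (Finset.mem_univ g)
  have h4 : ‖f g‖ = 0 := by
    exact pow_eq_zero_iff two_ne_zero |>.mp this
  simpa using h4

theorem isGeneralizedCharacter_zero : IsGeneralizedCharacter G (0 : G → ℂ) :=
  isGeneralizedCharacter_of_isCharacter isCharacter_zero

theorem isGeneralizedCharacter_zsmul (a : ℤ) {Θ : G → ℂ} (h : IsGeneralizedCharacter G Θ) :
    IsGeneralizedCharacter G (a • Θ) := by
  obtain ⟨χ, ψ, hχ, hψ, rfl⟩ := h
  obtain ⟨n, hn | hn⟩ := Int.eq_nat_or_neg a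
  · refine ⟨(n : ℂ) • χ, (n : ℂ) • ψ, isCharacter_nsmul n hχ, isCharacter_nsmul n hψ, ?_⟩
    rw [hn, zsmul_fun_eq_smul, smul_sub]
    simp
  · refine ⟨(n : ℂ) • ψ, (n : ℂ) • χ, isCharacter_nsmul n hψ, isCharacter_nsmul n hχ, ?_⟩
    rw [hn, zsmul_fun_eq_smul, smul_sub]
    ext g
    simp
    ring

theorem isGeneralizedCharacter_sum {ι : Type*} (s : Finset ι) (f : ι → G → ℂ)
    (hf : ∀ i ∈ s, IsGeneralizedCharacter G (f i)) : IsGeneralizedCharacter G (∑ i ∈ s, f i) := by
  classical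
  induction s using Finset.induction_on with
  | empty => simpa using isGeneralizedCharacter_zero
  | insert a s ha ih =>
    rw [Finset.sum_insert ha]
    exact isGeneralizedCharacter_add (hf a (Finset.mem_insert_self a s))
      (ih (fun i hi => hf i (Finset.mem_insert_of_mem hi)))

end Basics

section ZSpan

variable {X : Type*}

theorem zspanOn_zero (S : Set (X → ℂ)) (A : Set X) : (0 : X → ℂ) ∈ zspanOn S A :=
  ⟨Submodule.zero_mem _, fun _ _ => rfl⟩

theorem zspanOn_add {S : Set (X → ℂ)} {A : Set X} {f g : X → ℂ} (hf : f ∈ zspanOn S A)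
    (hg : g ∈ zspanOn S A) : f + g ∈ zspanOn S A :=
  ⟨Submodule.add_mem _ hf.1 hg.1, fun x hx => by rw [Pi.add_apply, hf.2 x hx, hg.2 x hx, add_zero]⟩

theorem zspanOn_sub {S : Set (X → ℂ)} {A : Set X} {f g : X → ℂ} (hf : f ∈ zspanOn S A)
    (hg : g ∈ zspanOn S A) : f - g ∈ zspanOn S A :=
  ⟨Submodule.sub_mem _ hf.1 hg.1, fun x hx => by rw [Pi.sub_apply, hf.2 x hx, hg.2 x hx, sub_zero]⟩

theorem zspanOn_zsmul {S : Set (X → ℂ)} {A : Set X} {f : X → ℂ} (n : ℤ) (hf : f ∈ zspanOn S A) :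
    n • f ∈ zspanOn S A :=
  ⟨Submodule.smul_mem _ _ hf.1, fun x hx => by rw [Pi.smul_apply, hf.2 x hx, smul_zero]⟩

theorem zspanOn_mono {S S' : Set (X → ℂ)} {A : Set X} (h : S ⊆ S') {f : X → ℂ}
    (hf : f ∈ zspanOn S A) : f ∈ zspanOn S' A :=
  ⟨Submodule.span_mono h hf.1, hf.2⟩

theorem zspan_mono {S S' : Set (X → ℂ)} (h : S ⊆ S') {f : X → ℂ}
    (hf : f ∈ zspan S) : f ∈ zspan S' :=
  Submodule.span_mono h hf

theorem mem_zspanOn_compl_one [One X] {S : Set (X → ℂ)} {f : X → ℂ} (hf : f ∈ zspan S)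
    (h1 : f 1 = 0) : f ∈ zspanOn S {1}ᶜ := by
  refine ⟨hf, fun x hx => ?_⟩
  have : x = 1 := by simpa using hx
  rw [this, h1]

theorem zspanOn_compl_one_apply [One X] {S : Set (X → ℂ)} {f : X → ℂ}
    (hf : f ∈ zspanOn S {1}ᶜ) : f 1 = 0 :=
  hf.2 1 (by simp)

end ZSpan

section CoherenceT

variable {L : Type*} [Group L] [Fintype L] {G : Type*} [Group G] [Fintype G]

/-- A pairwise orthogonal set of functions with nonzero norms is finite. -/
theorem finite_of_orthogonal (S : Set (L → ℂ))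
    (horth : ∀ χ ∈ S, ∀ ψ ∈ S, χ ≠ ψ → classInner χ ψ = 0)
    (hnz : ∀ χ ∈ S, classInner χ χ ≠ 0) : S.Finite := by
  classical
  have hli : LinearIndependent ℂ (fun χ : S => (χ : L → ℂ)) := by
    rw [linearIndependent_iff']
    intro s g hg i hi
    have h1 : classInner (∑ j ∈ s, g j • (j : L → ℂ)) (i : L → ℂ) = 0 := by
      rw [hg, classInner_zero_left]
    rw [classInner_sum_left, Finset.sum_eq_single i] at h1
    · rw [classInner_smul_left] at h1
      rcases mul_eq_zero.mp h1 with h | h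
      · exact h
      · exact absurd h (hnz i i.2)
    · intro j _ hji
      rw [classInner_smul_left, horth j j.2 i i.2 (fun h => hji (Subtype.ext h)), mul_zero]
    · intro h
      exact absurd hi h
  have : Finite S := hli.finite_of_isNoetherian
  exact Set.toFinite S

/-- The coherence criterion: to extend `τ` from the integer combinations of `S` vanishing at `1`
to all integer combinations, it suffices to give the images `T χ` of the members of `S`, virtual
characters with the right inner products, compatible with `τ` on the differences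
`d ψ • χ₀ - d χ₀ • ψ`. -/
theorem coherence_of_T (S : Set (L → ℂ)) (τ : (L → ℂ) → (G → ℂ))
    (hτ : IsLinearIsometryOn (zspanOn S {1}ᶜ) τ)
    (horth : ∀ χ ∈ S, ∀ ψ ∈ S, χ ≠ ψ → classInner χ ψ = 0)
    (hnz : ∀ χ ∈ S, classInner χ χ ≠ 0)
    (d : (L → ℂ) → ℤ) (hd : ∀ χ ∈ S, χ 1 = ((d χ : ℤ) : ℂ))
    (χ₀ : L → ℂ) (hχ₀ : χ₀ ∈ S) (hd₀ : d χ₀ ≠ 0)
    (T : (L → ℂ) → (G → ℂ))
    (hT1 : ∀ χ ∈ S, IsGeneralizedCharacter G (T χ))
    (hT2 : ∀ χ ∈ S, ∀ ψ ∈ S, classInner (T χ) (T ψ) = classInner χ ψ)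
    (hT3 : ∀ ψ ∈ S, τ (d ψ • χ₀ - d χ₀ • ψ) = d ψ • T χ₀ - d χ₀ • T ψ) :
    ∃ τ₁ : (L → ℂ) → (G → ℂ), IsLinearIsometryOn (zspan S) τ₁ ∧
      ∀ α ∈ zspanOn S {1}ᶜ, τ₁ α = τ α := by
  classical
  obtain ⟨hadd, hsmul, hinner, hvirt⟩ := hτ
  have hfin := finite_of_orthogonal S horth hnz
  have hmemSf : ∀ χ, χ ∈ hfin.toFinset ↔ χ ∈ S := fun χ => hfin.mem_toFinset
  set τ₁ : (L → ℂ) → (G → ℂ) :=
    fun f => ∑ χ ∈ hfin.toFinset, (classInner f χ / classInner χ χ) • T χ with hτ₁
  have h_add : ∀ f g, τ₁ (f + g) = τ₁ f + τ₁ g := by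
    intro f g
    simp only [hτ₁]
    rw [← Finset.sum_add_distrib]
    apply Finset.sum_congr rfl
    intro χ _
    rw [classInner_add_left, add_div, add_smul]
  have h_smul : ∀ (n : ℤ) f, τ₁ (n • f) = n • τ₁ f := by
    intro n f
    simp only [hτ₁]
    rw [Finset.smul_sum]
    apply Finset.sum_congr rfl
    intro χ _
    rw [classInner_zsmul_left, zsmul_fun_eq_smul, smul_smul, mul_div_assoc]
  have h_gen : ∀ χ ∈ S, τ₁ χ = T χ := by
    intro χ hχ
    simp only [hτ₁]
    rw [Finset.sum_eq_single χ]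
    · rw [div_self (hnz χ hχ), one_smul]
    · intro ψ hψ hne
      rw [horth χ hχ ψ ((hmemSf ψ).mp hψ) (Ne.symm hne), zero_div, zero_smul]
    · intro h
      exact absurd ((hmemSf χ).mpr hχ) h
  have h_zero : τ₁ 0 = 0 := by
    have := h_smul 0 0
    simpa using this
  refine ⟨τ₁, ⟨fun α _ β _ => h_add α β, fun α _ n => h_smul n α, ?_, ?_⟩, ?_⟩
  · -- isometry
    intro f hf g hg
    have hf' : f ∈ Submodule.span ℤ S := hf
    have hg' : g ∈ Submodule.span ℤ S := hg
    clear hf hg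
    induction hf' using Submodule.span_induction with
    | mem χ hχ =>
      induction hg' using Submodule.span_induction with
      | mem ψ hψ =>
        rw [h_gen χ hχ, h_gen ψ hψ]
        exact hT2 χ hχ ψ hψ
      | zero => rw [h_zero, classInner_zero_right, classInner_zero_right]
      | add x y _ _ ihx ihy =>
        rw [h_add, classInner_add_right, classInner_add_right, ihx, ihy]
      | smul a x _ ih =>
        rw [h_smul, classInner_zsmul_right, classInner_zsmul_right, ih]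
    | zero => rw [h_zero, classInner_zero_left, classInner_zero_left]
    | add x y _ _ ihx ihy =>
      rw [h_add, classInner_add_left, classInner_add_left, ihx, ihy]
    | smul a x _ ih =>
      rw [h_smul, classInner_zsmul_left, classInner_zsmul_left, ih]
  · -- values
    intro f hf
    have hf' : f ∈ Submodule.span ℤ S := hf
    clear hf
    induction hf' using Submodule.span_induction with
    | mem χ hχ =>
      rw [h_gen χ hχ]
      exact hT1 χ hχ
    | zero =>
      rw [h_zero]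
      exact isGeneralizedCharacter_zero
    | add x y _ _ ihx ihy =>
      rw [h_add]
      exact isGeneralizedCharacter_add ihx ihy
    | smul a x _ ih =>
      rw [h_smul]
      exact isGeneralizedCharacter_zsmul a ih
  · -- agreement
    intro f hf
    obtain ⟨hf1, hf2⟩ := hf
    have hf0 : f 1 = 0 := hf2 1 (by simp)
    have hτ0 : τ 0 = 0 := by
      have := hsmul 0 (zspanOn_zero S {1}ᶜ) 0
      simpa using this
    have key : ∀ f ∈ Submodule.span ℤ S, ∃ k : ℤ, f 1 = ((k : ℤ) : ℂ) ∧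
        (d χ₀ • f - k • χ₀ ∈ zspanOn S {1}ᶜ) ∧
        τ (d χ₀ • f - k • χ₀) = d χ₀ • τ₁ f - k • T χ₀ := by
      intro f hf
      induction hf using Submodule.span_induction with
      | mem ψ hψ =>
        have hmem : d ψ • χ₀ - d χ₀ • ψ ∈ zspanOn S {1}ᶜ := by
          apply mem_zspanOn_compl_one
          · exact Submodule.sub_mem _ (Submodule.smul_mem _ _ (Submodule.subset_span hχ₀))
              (Submodule.smul_mem _ _ (Submodule.subset_span hψ))
          · rw [Pi.sub_apply, Pi.smul_apply, Pi.smul_apply, hd ψ hψ, hd χ₀ hχ₀, zsmul_eq_mul,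
              zsmul_eq_mul]
            ring
        have e1 : (-1 : ℤ) • (d ψ • χ₀ - d χ₀ • ψ) = d χ₀ • ψ - d ψ • χ₀ := by
          rw [neg_smul, one_smul, neg_sub]
        have e2 : (-1 : ℤ) • (d ψ • T χ₀ - d χ₀ • T ψ) = d χ₀ • T ψ - d ψ • T χ₀ := by
          rw [neg_smul, one_smul, neg_sub]
        refine ⟨d ψ, hd ψ hψ, ?_, ?_⟩
        · rw [← e1]
          exact zspanOn_zsmul _ hmem
        · rw [h_gen ψ hψ, ← e1, hsmul _ hmem (-1), hT3 ψ hψ, e2]
      | zero =>
        refine ⟨0, by simp, ?_, ?_⟩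
        · rw [smul_zero, zero_smul, sub_zero]
          exact zspanOn_zero S {1}ᶜ
        · rw [smul_zero, zero_smul, sub_zero, hτ0, h_zero, smul_zero, zero_smul, sub_zero]
      | add x y _ _ ihx ihy =>
        obtain ⟨k, hk1, hk2, hk3⟩ := ihx
        obtain ⟨l, hl1, hl2, hl3⟩ := ihy
        have e : d χ₀ • (x + y) - (k + l) • χ₀ =
            (d χ₀ • x - k • χ₀) + (d χ₀ • y - l • χ₀) := by
          rw [smul_add, add_smul]
          abel
        refine ⟨k + l, ?_, ?_, ?_⟩
        · rw [Pi.add_apply, hk1, hl1]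
          push_cast
          rfl
        · rw [e]
          exact zspanOn_add hk2 hl2
        · rw [e, hadd _ hk2 _ hl2, hk3, hl3, h_add, smul_add, add_smul]
          abel
      | smul a x _ ih =>
        obtain ⟨k, hk1, hk2, hk3⟩ := ih
        have e : d χ₀ • (a • x) - (a * k) • χ₀ = a • (d χ₀ • x - k • χ₀) := by
          rw [smul_sub, smul_comm a (d χ₀) x, mul_smul]
        refine ⟨a * k, ?_, ?_, ?_⟩
        · rw [Pi.smul_apply, hk1, zsmul_eq_mul]
          push_cast
          rfl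
        · rw [e]
          exact zspanOn_zsmul a hk2
        · rw [e, hsmul _ hk2 a, hk3, h_smul, smul_sub, smul_comm a (d χ₀) (τ₁ x), mul_smul]
    obtain ⟨k, hk1, hk2, hk3⟩ := key f hf1
    have hk0 : k = 0 := by
      rw [hf0] at hk1
      exact_mod_cast hk1.symm
    subst hk0
    rw [zero_smul, sub_zero, zero_smul, sub_zero, hsmul f ⟨hf1, hf2⟩ (d χ₀)] at hk3
    funext x
    have h5 := congrFun hk3 x
    rw [Pi.smul_apply, Pi.smul_apply, zsmul_eq_mul, zsmul_eq_mul] at h5
    have hd0 : ((d χ₀ : ℤ) : ℂ) ≠ 0 := by exact_mod_cast hd₀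
    exact (mul_left_cancel₀ hd0 h5).symm

/-- Restriction of a linear isometry to a smaller set. -/
theorem isLinearIsometryOn_mono {E E' : Set (L → ℂ)} {τ : (L → ℂ) → (G → ℂ)}
    (h : IsLinearIsometryOn E τ) (hE : E' ⊆ E) : IsLinearIsometryOn E' τ :=
  ⟨fun α hα β hβ => h.1 α (hE hα) β (hE hβ), fun α hα n => h.2.1 α (hE hα) n,
   fun α hα β hβ => h.2.2.1 α (hE hα) β (hE hβ), fun α hα => h.2.2.2 α (hE hα)⟩

/-- Linearity of a linear isometry on a combination `m • f - m' • g`. -/
theorem linIso_zsmul_sub {E : Set (L → ℂ)} {τ : (L → ℂ) → (G → ℂ)}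
    (h : IsLinearIsometryOn E τ) {f g : L → ℂ} (hf : f ∈ E) (hg : g ∈ E) (m m' : ℤ)
    (hmf : m • f ∈ E) (hmg : (-m') • g ∈ E) : τ (m • f - m' • g) = m • τ f - m' • τ g := by
  have e : m • f - m' • g = m • f + (-m') • g := by rw [neg_smul, sub_eq_add_neg]
  rw [e, h.1 _ hmf _ hmg, h.2.1 f hf m, h.2.1 g hg (-m'), neg_smul, sub_eq_add_neg]

/-- Linearity on `zspan`. -/
theorem linIso_zspan_sub {S : Set (L → ℂ)} {τ : (L → ℂ) → (G → ℂ)}
    (h : IsLinearIsometryOn (zspan S) τ) {f g : L → ℂ} (hf : f ∈ zspan S) (hg : g ∈ zspan S)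
    (m m' : ℤ) : τ (m • f - m' • g) = m • τ f - m' • τ g :=
  linIso_zsmul_sub h hf hg m m' (Submodule.smul_mem _ _ hf) (Submodule.smul_mem _ _ hg)

/-- Linearity on `zspanOn`. -/
theorem linIso_zspanOn_sub {S : Set (L → ℂ)} {A : Set L} {τ : (L → ℂ) → (G → ℂ)}
    (h : IsLinearIsometryOn (zspanOn S A) τ) {f g : L → ℂ} (hf : f ∈ zspanOn S A)
    (hg : g ∈ zspanOn S A) (m m' : ℤ) : τ (m • f - m' • g) = m • τ f - m' • τ g :=
  linIso_zsmul_sub h hf hg m m' (zspanOn_zsmul _ hf) (zspanOn_zsmul _ hg)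

theorem zsmul_fun_cancel {X : Type*} {n : ℤ} (hn : n ≠ 0) {f g : X → ℂ} (h : n • f = n • g) :
    f = g := by
  funext x
  have h5 := congrFun h x
  rw [Pi.smul_apply, Pi.smul_apply, zsmul_eq_mul, zsmul_eq_mul] at h5
  have hd0 : ((n : ℤ) : ℂ) ≠ 0 := by exact_mod_cast hn
  exact mul_left_cancel₀ hd0 h5

end CoherenceT

section Degrees

variable {G : Type*} [Group G]

/-- The degree of a function at `1`, as an integer (meaningful for characters). -/
noncomputable def degInt (ξ : G → ℂ) : ℤ := Int.floor (ξ 1).re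

theorem degInt_irr {ξ : G → ℂ} (h : IsIrrCharacter G ξ) :
    ξ 1 = ((degInt ξ : ℤ) : ℂ) ∧ 0 < degInt ξ := by
  obtain ⟨n, hn, e⟩ := irr_one_eq_natCast (⟨ξ, h⟩ : IrrCharacter G)
  have e' : ξ 1 = (n : ℂ) := e
  have h1 : degInt ξ = (n : ℤ) := by
    unfold degInt
    rw [e']
    simp
  rw [h1]
  exact ⟨by rw [e']; simp, by exact_mod_cast hn⟩

/-- A virtual character of norm one is an irreducible character up to sign. -/
theorem signed_of_norm_one [Fintype G] {Θ : G → ℂ} (hΘ : IsGeneralizedCharacter G Θ)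
    (h1 : classInner Θ Θ = 1) : IsIrrCharacter G Θ ∨ IsIrrCharacter G (-Θ) := by
  obtain ⟨μ, ε, hε, rfl⟩ := genChar_norm_one hΘ h1
  rcases hε with rfl | rfl
  · left
    have : (((1 : ℤ) : ℂ)) • (μ : G → ℂ) = (μ : G → ℂ) := by simp
    rw [this]
    exact μ.2
  · right
    have : -((((-1 : ℤ) : ℂ)) • (μ : G → ℂ)) = (μ : G → ℂ) := by simp
    rw [this]
    exact μ.2

/-- A weighted version of the four-orthogonality lemma: if `α ⟂ β`, `γ ⟂ δ` are irreducible up
to sign, `s α - t β` and `u γ - v δ` vanish at `1` and are orthogonal (with positive weights), then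
all four cross inner products vanish. -/
theorem weighted_orth [Fintype G] (α β γ δ : G → ℂ)
    (hα : IsIrrCharacter G α ∨ IsIrrCharacter G (-α))
    (hβ : IsIrrCharacter G β ∨ IsIrrCharacter G (-β))
    (hγ : IsIrrCharacter G γ ∨ IsIrrCharacter G (-γ))
    (hδ : IsIrrCharacter G δ ∨ IsIrrCharacter G (-δ))
    (s t u v : ℝ) (hs : 0 < s) (ht : 0 < t) (hu : 0 < u) (hv : 0 < v)
    (hab : classInner α β = 0) (hcd : classInner γ δ = 0)
    (hmix : classInner ((s : ℂ) • α - (t : ℂ) • β) ((u : ℂ) • γ - (v : ℂ) • δ) = 0)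
    (h1 : (s : ℂ) * α 1 = (t : ℂ) * β 1) (h2 : (u : ℂ) * γ 1 = (v : ℂ) * δ 1) :
    classInner α γ = 0 ∧ classInner α δ = 0 ∧ classInner β γ = 0 ∧ classInner β δ = 0 := by
  classical
  obtain ⟨ea, A, hea, rfl⟩ := signed_irr hα
  obtain ⟨eb, B, heb, rfl⟩ := signed_irr hβ
  obtain ⟨ec, C, hec, rfl⟩ := signed_irr hγ
  obtain ⟨ed, D, hed, rfl⟩ := signed_irr hδ
  obtain ⟨hA1, hposA⟩ := irrDeg_spec A
  obtain ⟨hB1, hposB⟩ := irrDeg_spec B
  obtain ⟨hC1, hposC⟩ := irrDeg_spec C
  obtain ⟨hD1, hposD⟩ := irrDeg_spec D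
  rw [classInner_signed] at hab hcd
  have hAB : A ≠ B := by
    intro h
    rw [if_pos h] at hab
    have h0 : ea * eb * 1 = 0 := by exact_mod_cast hab
    rcases hea with rfl | rfl <;> rcases heb with rfl | rfl <;> norm_num at h0
  have hCD : C ≠ D := by
    intro h
    rw [if_pos h] at hcd
    have h0 : ec * ed * 1 = 0 := by exact_mod_cast hcd
    rcases hec with rfl | rfl <;> rcases hed with rfl | rfl <;> norm_num at h0
  have h1R : s * (ea * irrDeg A) = t * (eb * irrDeg B) := by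
    have : (s : ℂ) * ((ea : ℂ) * ((irrDeg A : ℝ) : ℂ)) =
        (t : ℂ) * ((eb : ℂ) * ((irrDeg B : ℝ) : ℂ)) := by
      rw [← hA1, ← hB1]; exact h1
    exact_mod_cast this
  have h2R : u * (ec * irrDeg C) = v * (ed * irrDeg D) := by
    have : (u : ℂ) * ((ec : ℂ) * ((irrDeg C : ℝ) : ℂ)) =
        (v : ℂ) * ((ed : ℂ) * ((irrDeg D : ℝ) : ℂ)) := by
      rw [← hC1, ← hD1]; exact h2
    exact_mod_cast this
  have hsA : 0 < s * irrDeg A := mul_pos hs hposA
  have htB : 0 < t * irrDeg B := mul_pos ht hposB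
  have huC : 0 < u * irrDeg C := mul_pos hu hposC
  have hvD : 0 < v * irrDeg D := mul_pos hv hposD
  have hab' : ea = eb := by
    rcases hea with rfl | rfl <;> rcases heb with rfl | rfl
    · rfl
    · exfalso; nlinarith
    · exfalso; nlinarith
    · rfl
  have hcd' : ec = ed := by
    rcases hec with rfl | rfl <;> rcases hed with rfl | rfl
    · rfl
    · exfalso; nlinarith
    · exfalso; nlinarith
    · rfl
  subst hab' hcd'
  have hmixR : ea * ec * (s * u * (if A = C then 1 else 0) - s * v * (if A = D then 1 else 0)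
      - t * u * (if B = C then 1 else 0) + t * v * (if B = D then 1 else 0)) = 0 := by
    have gen : ∀ (a b c d : G → ℂ) (s t u v : ℝ),
        classInner ((s : ℂ) • a - (t : ℂ) • b) ((u : ℂ) • c - (v : ℂ) • d) =
          (s : ℂ) * (u : ℂ) * classInner a c - (s : ℂ) * (v : ℂ) * classInner a d
            - (t : ℂ) * (u : ℂ) * classInner b c + (t : ℂ) * (v : ℂ) * classInner b d := by
      intro a b c d s t u v
      simp only [classInner_sub_left, classInner_sub_right, classInner_smul_left,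
        classInner_smul_right, Complex.conj_ofReal]
      ring
    rw [gen, classInner_signed, classInner_signed, classInner_signed, classInner_signed] at hmix
    apply Complex.ofReal_injective
    rw [Complex.ofReal_zero, ← hmix]
    push_cast
    ring
  have hee : ea * ec ≠ 0 := by
    rcases hea with rfl | rfl <;> rcases hec with rfl | rfl <;> norm_num
  have hbr : s * u * (if A = C then 1 else 0) - s * v * (if A = D then 1 else 0)
      - t * u * (if B = C then 1 else 0) + t * v * (if B = D then 1 else 0) = (0 : ℝ) := by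
    rcases mul_eq_zero.mp hmixR with h | h
    · exact absurd h hee
    · exact h
  have hsu : 0 < s * u := mul_pos hs hu
  have hsv : 0 < s * v := mul_pos hs hv
  have htu : 0 < t * u := mul_pos ht hu
  have htv : 0 < t * v := mul_pos ht hv
  have hAC : A ≠ C := by
    intro h
    subst h
    rw [if_pos rfl, if_neg hCD, if_neg hAB.symm] at hbr
    by_cases hBD : B = D
    · rw [if_pos hBD] at hbr; linarith
    · rw [if_neg hBD] at hbr; linarith
  have hAD : A ≠ D := by
    intro h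
    subst h
    rw [if_neg hAC, if_pos rfl, if_neg hAB.symm] at hbr
    by_cases hBC : B = C
    · rw [if_pos hBC] at hbr; linarith
    · rw [if_neg hBC] at hbr; linarith
  have hBC : B ≠ C := by
    intro h
    subst h
    rw [if_neg hAC, if_neg hAD, if_pos rfl, if_neg hCD] at hbr
    linarith
  have hBD : B ≠ D := by
    intro h
    subst h
    rw [if_neg hAC, if_neg hAD, if_neg hBC, if_pos rfl] at hbr
    linarith
  refine ⟨?_, ?_, ?_, ?_⟩
  · rw [classInner_signed, if_neg hAC]; simp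
  · rw [classInner_signed, if_neg hAD]; simp
  · rw [classInner_signed, if_neg hBC]; simp
  · rw [classInner_signed, if_neg hBD]; simp

/-- The degree of a character is a natural number, nonzero unless the character vanishes. -/
theorem isCharacter_one_natCast {χ : G → ℂ} (h : IsCharacter G χ) :
    ∃ n : ℕ, χ 1 = (n : ℂ) ∧ (n = 0 → χ = 0) := by
  obtain ⟨n, ρ, rfl⟩ := h
  refine ⟨n, ?_, ?_⟩
  · rw [Representation.char_one]
    simp
  · intro hn
    subst hn
    exact character_of_subsingleton ρ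

theorem degInt_character {χ : G → ℂ} (h : IsCharacter G χ) (h0 : χ ≠ 0) :
    χ 1 = ((degInt χ : ℤ) : ℂ) ∧ 0 < degInt χ := by
  obtain ⟨n, e, hn⟩ := isCharacter_one_natCast h
  have h1 : degInt χ = (n : ℤ) := by
    unfold degInt
    rw [e]
    simp
  rw [h1]
  refine ⟨by rw [e]; simp, ?_⟩
  have : n ≠ 0 := fun hc => h0 (hn hc)
  omega

end Degrees

section Proj

variable {G : Type*} [Group G] [Fintype G]

theorem zspan_subset_zspanOn {X : Type*} {S T : Set (X → ℂ)} {A : Set X}
    (h : T ⊆ zspanOn S A) : zspan T ⊆ zspanOn S A := by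
  intro f hf
  have hf' : f ∈ Submodule.span ℤ T := hf
  clear hf
  induction hf' using Submodule.span_induction with
  | mem x hx => exact h hx
  | zero => exact zspanOn_zero S A
  | add x y _ _ ihx ihy => exact zspanOn_add ihx ihy
  | smul a x _ ih => exact zspanOn_zsmul a ih

/-- Subtracting the projections onto a finite orthogonal family. -/
theorem classInner_proj {ι : Type*} (s : Finset ι) (e : ι → G → ℂ) (c : ι → ℂ) (X : G → ℂ)
    (horth : ∀ i ∈ s, ∀ j ∈ s, i ≠ j → classInner (e i) (e j) = 0)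
    (hc : ∀ i ∈ s, classInner X (e i) = c i * classInner (e i) (e i)) :
    (∀ j ∈ s, classInner (X - ∑ i ∈ s, c i • e i) (e j) = 0) ∧
    classInner (X - ∑ i ∈ s, c i • e i) (X - ∑ i ∈ s, c i • e i) =
      classInner X X - ∑ i ∈ s, c i * (starRingEnd ℂ) (c i) *
        (starRingEnd ℂ) (classInner (e i) (e i)) := by
  have h1 : ∀ j ∈ s, classInner (X - ∑ i ∈ s, c i • e i) (e j) = 0 := by
    intro j hj
    rw [classInner_sub_left, classInner_sum_left, Finset.sum_eq_single j, classInner_smul_left,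
      hc j hj, sub_self]
    · intro i hi hne
      rw [classInner_smul_left, horth i hi j hj hne, mul_zero]
    · intro h
      exact absurd hj h
  refine ⟨h1, ?_⟩
  have h2 : classInner (X - ∑ i ∈ s, c i • e i) (∑ i ∈ s, c i • e i) = 0 := by
    rw [classInner_sum_right]
    apply Finset.sum_eq_zero
    intro i hi
    rw [classInner_smul_right, h1 i hi, mul_zero]
  rw [classInner_sub_right, h2, sub_zero, classInner_sub_left, classInner_sum_left]
  congr 1
  apply Finset.sum_congr rfl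
  intro i hi
  rw [classInner_smul_left, ← classInner_conj_symm (e i) X, hc i hi, map_mul]
  ring

/-- Subtracting the projections onto a finite orthonormal family, integer coefficients. -/
theorem classInner_proj_int (R : Finset (G → ℂ)) (hR1 : ∀ α ∈ R, classInner α α = 1)
    (hR0 : ∀ α ∈ R, ∀ β ∈ R, α ≠ β → classInner α β = 0) (X : G → ℂ) (c : (G → ℂ) → ℤ)
    (hc : ∀ α ∈ R, classInner X α = ((c α : ℤ) : ℂ)) :
    (∀ β ∈ R, classInner (X - ∑ α ∈ R, c α • α) β = 0) ∧
    classInner (X - ∑ α ∈ R, c α • α) (X - ∑ α ∈ R, c α • α) =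
      classInner X X - ((∑ α ∈ R, c α ^ 2 : ℤ) : ℂ) := by
  have h := classInner_proj R (fun α => α) (fun α => ((c α : ℤ) : ℂ)) X hR0
    (fun α hα => by rw [hc α hα, hR1 α hα, mul_one])
  have e : ∑ α ∈ R, c α • α = ∑ α ∈ R, ((c α : ℤ) : ℂ) • α :=
    Finset.sum_congr rfl (fun α _ => zsmul_fun_eq_smul _ _)
  rw [e]
  refine ⟨h.1, ?_⟩
  rw [h.2]
  congr 1
  push_cast
  apply Finset.sum_congr rfl
  intro α hα
  rw [hR1 α hα, map_intCast, map_one]
  ring

/-- If the coefficients `c α = ⟨X, α⟩` of `X` along an orthonormal family of virtual characters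
sum to at least `⟨X, X⟩`, then `X` is the sum of those `α` with `c α = 1` (and the other
coefficients vanish). -/
theorem zero_one_of_sum_ge (R : Finset (G → ℂ)) (hR1 : ∀ α ∈ R, classInner α α = 1)
    (hR0 : ∀ α ∈ R, ∀ β ∈ R, α ≠ β → classInner α β = 0) (X : G → ℂ) (c : (G → ℂ) → ℤ)
    (hc : ∀ α ∈ R, classInner X α = ((c α : ℤ) : ℂ)) (N : ℤ)
    (hXX : classInner X X = ((N : ℤ) : ℂ)) (hsum : N ≤ ∑ α ∈ R, c α) :
    X = ∑ α ∈ R, c α • α ∧ (∀ α ∈ R, c α = 0 ∨ c α = 1) ∧ ∑ α ∈ R, c α = N ∧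
      ∑ α ∈ R, c α ^ 2 = N := by
  obtain ⟨-, h2⟩ := classInner_proj_int R hR1 hR0 X c hc
  have h3 : 0 ≤ N - ∑ α ∈ R, c α ^ 2 := by
    have h := classInner_self_re_nonneg (X - ∑ α ∈ R, c α • α)
    rw [h2, hXX, ← Int.cast_sub, Complex.intCast_re] at h
    exact_mod_cast h
  have h4 : ∑ α ∈ R, c α ≤ ∑ α ∈ R, c α ^ 2 :=
    Finset.sum_le_sum (fun α _ => Int.le_self_sq (c α))
  have h5 : ∑ α ∈ R, c α ^ 2 = N := by omega
  have h6 : ∑ α ∈ R, c α = N := by omega
  have h7 : ∑ α ∈ R, (c α ^ 2 - c α) = 0 := by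
    rw [Finset.sum_sub_distrib]
    omega
  have h8 : ∀ α ∈ R, c α ^ 2 - c α = 0 :=
    (Finset.sum_eq_zero_iff_of_nonneg
      (fun α _ => sub_nonneg.mpr (Int.le_self_sq (c α)))).mp h7
  refine ⟨?_, ?_, h6, h5⟩
  · have h9 : X - ∑ α ∈ R, c α • α = 0 := by
      apply classInner_self_eq_zero
      rw [h2, hXX, h5, sub_self]
    exact sub_eq_zero.mp h9
  · intro α hα
    have h9 := h8 α hα
    have h10 : c α * (c α - 1) = 0 := by ring_nf; ring_nf at h9; linarith
    rcases mul_eq_zero.mp h10 with h | h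
    · left; exact h
    · right; omega

end Proj

end Cfsg.Agent.H32
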