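import Mathlib
import Cfsg.Prelude.Def_OddOrderChar
import Cfsg.Agent.H32.Coherence

set_option autoImplicit false

namespace Cfsg.Agent.H32

open Cfsg Cfsg.Agent.H4

section Orth

variable {G : Type*} [Group G] [Fintype G]

/-- Inner product of an integer combination of an orthonormal family with a member. -/
theorem orth_sum_inner (R : Finset (G → ℂ)) (hR1 : ∀ α ∈ R, classInner α α = 1)
    (hR0 : ∀ α ∈ R, ∀ β ∈ R, α ≠ β → classInner α β = 0) (c : (G → ℂ) → ℤ) {β : G → ℂ}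
    (hβ : β ∈ R) : classInner (∑ α ∈ R, c α • α) β = ((c β : ℤ) : ℂ) := by
  rw [classInner_sum_left, Finset.sum_eq_single β]
  · rw [classInner_zsmul_left, hR1 β hβ, mul_one]
  · intro α hα hne
    rw [classInner_zsmul_left, hR0 α hα β hβ hne, mul_zero]
  · intro h
    exact absurd hβ h

/-- Inner product of the sum of a subfamily of an orthonormal family with a member. -/
theorem orth_sum_inner_one (R R₁ : Finset (G → ℂ)) (hR₁ : R₁ ⊆ R)
    (hR1 : ∀ α ∈ R, classInner α α = 1)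
    (hR0 : ∀ α ∈ R, ∀ β ∈ R, α ≠ β → classInner α β = 0) {β : G → ℂ}
    (hβ : β ∈ R) : classInner (∑ α ∈ R₁, α) β = if β ∈ R₁ then 1 else 0 := by
  classical
  rw [classInner_sum_left]
  by_cases h : β ∈ R₁
  · rw [if_pos h, Finset.sum_eq_single β]
    · exact hR1 β hβ
    · intro α hα hne
      exact hR0 α (hR₁ hα) β hβ hne
    · intro h'
      exact absurd h h'
  · rw [if_neg h]
    apply Finset.sum_eq_zero
    intro α hα
    exact hR0 α (hR₁ hα) β hβ (fun e => h (e ▸ hα))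

/-- Inner product of two integer combinations of an orthonormal family. -/
theorem orth_sum_sum (R : Finset (G → ℂ)) (hR1 : ∀ α ∈ R, classInner α α = 1)
    (hR0 : ∀ α ∈ R, ∀ β ∈ R, α ≠ β → classInner α β = 0) (c c' : (G → ℂ) → ℤ) :
    classInner (∑ α ∈ R, c α • α) (∑ α ∈ R, c' α • α) = ((∑ α ∈ R, c α * c' α : ℤ) : ℂ) := by
  rw [classInner_sum_right]
  push_cast
  apply Finset.sum_congr rfl
  intro β hβ
  rw [classInner_zsmul_right, orth_sum_inner R hR1 hR0 c hβ]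
  ring

/-- Two mutually orthogonal orthonormal families: if the coefficients of `X` along the first sum
to at least `N₁`, those along the second to at most `-N₂`, and `⟨X, X⟩ = N₁ + N₂`, then `X` lies in
the span of the two families, with coefficients `0, 1` resp. `0, -1`. -/
theorem two_family (R₁ R₂ : Finset (G → ℂ)) (h11 : ∀ α ∈ R₁, classInner α α = 1)
    (h10 : ∀ α ∈ R₁, ∀ β ∈ R₁, α ≠ β → classInner α β = 0)
    (h21 : ∀ α ∈ R₂, classInner α α = 1)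
    (h20 : ∀ α ∈ R₂, ∀ β ∈ R₂, α ≠ β → classInner α β = 0)
    (h12 : ∀ α ∈ R₁, ∀ β ∈ R₂, classInner α β = 0)
    (X : G → ℂ) (a b : (G → ℂ) → ℤ) (ha : ∀ α ∈ R₁, classInner X α = ((a α : ℤ) : ℂ))
    (hb : ∀ β ∈ R₂, classInner X β = ((b β : ℤ) : ℂ))
    (N₁ N₂ : ℤ) (hXX : classInner X X = ((N₁ + N₂ : ℤ) : ℂ)) (h1 : N₁ ≤ ∑ α ∈ R₁, a α)
    (h2 : N₂ ≤ - ∑ β ∈ R₂, b β) :
    X = ∑ α ∈ R₁, a α • α + ∑ β ∈ R₂, b β • β ∧ ∑ α ∈ R₁, a α = N₁ ∧
      ∑ α ∈ R₁, a α ^ 2 = N₁ ∧ ∑ β ∈ R₂, b β = - N₂ ∧ ∑ β ∈ R₂, b β ^ 2 = N₂ := by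
  obtain ⟨-, hY2⟩ := classInner_proj_int R₁ h11 h10 X a ha
  have hYb : ∀ β ∈ R₂, classInner (X - ∑ α ∈ R₁, a α • α) β = ((b β : ℤ) : ℂ) := by
    intro β hβ
    rw [classInner_sub_left, hb β hβ, classInner_sum_left, Finset.sum_eq_zero, sub_zero]
    intro α hα
    rw [classInner_zsmul_left, h12 α hα β hβ, mul_zero]
  obtain ⟨-, hZ2⟩ := classInner_proj_int R₂ h21 h20 (X - ∑ α ∈ R₁, a α • α) b hYb
  have h3 : 0 ≤ N₁ + N₂ - ∑ α ∈ R₁, a α ^ 2 - ∑ β ∈ R₂, b β ^ 2 := by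
    have h := classInner_self_re_nonneg (X - ∑ α ∈ R₁, a α • α - ∑ β ∈ R₂, b β • β)
    rw [hZ2, hY2, hXX, ← Int.cast_sub, ← Int.cast_sub, Complex.intCast_re] at h
    exact_mod_cast h
  have h4 : ∑ α ∈ R₁, a α ≤ ∑ α ∈ R₁, a α ^ 2 :=
    Finset.sum_le_sum (fun α _ => Int.le_self_sq (a α))
  have h5 : - ∑ β ∈ R₂, b β ≤ ∑ β ∈ R₂, b β ^ 2 := by
    rw [← Finset.sum_neg_distrib]
    apply Finset.sum_le_sum
    intro β _
    have := Int.le_self_sq (- b β)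
    rw [neg_sq] at this
    exact this
  refine ⟨?_, by omega, by omega, by omega, by omega⟩
  have h9 : X - ∑ α ∈ R₁, a α • α - ∑ β ∈ R₂, b β • β = 0 := by
    apply classInner_self_eq_zero
    rw [hZ2, hY2, hXX]
    have : N₁ + N₂ - ∑ α ∈ R₁, a α ^ 2 - ∑ β ∈ R₂, b β ^ 2 = 0 := by omega
    have h' : (((N₁ + N₂ - ∑ α ∈ R₁, a α ^ 2 - ∑ β ∈ R₂, b β ^ 2 : ℤ)) : ℂ) = 0 := by
      rw [this]; simp
    rw [← h']
    push_cast
    ring
  have := sub_eq_zero.mp h9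
  rw [sub_eq_iff_eq_add] at this
  rw [this]
  abel

end Orth

section CohSys

variable {L : Type*} [Group L] [Fintype L] {G : Type*} [Group G] [Fintype G]
  {S : Set (L → ℂ)} {τ : (L → ℂ) → (G → ℂ)} {R : (L → ℂ) → Finset (G → ℂ)}

theorem classInner_conjFun_conjFun (a b : L → ℂ) :
    classInner (conjFun a) (conjFun b) = (starRingEnd ℂ) (classInner a b) := by
  rw [classInner_conjFun_left, conjFun_conjFun]

theorem cs_ne_zero (hS : IsCoherenceSystem S τ R) {χ : L → ℂ} (hχ : χ ∈ S) : χ ≠ 0 := by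
  intro h
  apply hS.conj_ne χ hχ
  rw [h]
  funext x
  simp [conjFun]

/-- The squared norm of a member of a coherence system is a positive natural number. -/
theorem cs_norm (hS : IsCoherenceSystem S τ R) {χ : L → ℂ} (hχ : χ ∈ S) :
    ∃ n : ℕ, classInner χ χ = (n : ℂ) ∧ 0 < n := by
  obtain ⟨n, hn⟩ := classInner_isCharacter_nat (hS.isCharacter χ hχ) (hS.isCharacter χ hχ)
  refine ⟨n, hn, ?_⟩
  rcases Nat.eq_zero_or_pos n with h | h
  · exfalso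
    apply cs_ne_zero hS hχ
    apply classInner_self_eq_zero
    rw [hn, h]
    simp
  · exact h

/-- The degree of a member of a coherence system is a positive natural number. -/
theorem cs_deg (hS : IsCoherenceSystem S τ R) {χ : L → ℂ} (hχ : χ ∈ S) :
    ∃ n : ℕ, χ 1 = (n : ℂ) ∧ 0 < n := by
  obtain ⟨n, e, hn⟩ := isCharacter_one_natCast (hS.isCharacter χ hχ)
  refine ⟨n, e, ?_⟩
  rcases Nat.eq_zero_or_pos n with h | h
  · exact absurd (hn h) (cs_ne_zero hS hχ)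
  · exact h

theorem cs_conj_one (hS : IsCoherenceSystem S τ R) {χ : L → ℂ} (hχ : χ ∈ S) :
    conjFun χ 1 = χ 1 := by
  obtain ⟨n, e, -⟩ := cs_deg hS hχ
  simp [conjFun, e]

theorem cs_conj_norm (hS : IsCoherenceSystem S τ R) {χ : L → ℂ} (hχ : χ ∈ S) :
    classInner (conjFun χ) (conjFun χ) = classInner χ χ := by
  obtain ⟨n, e, -⟩ := cs_norm hS hχ
  rw [classInner_conjFun_conjFun, e]
  simp

theorem cs_mem_zspan {χ : L → ℂ} (hχ : χ ∈ S) : χ ∈ zspan S := Submodule.subset_span hχ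

theorem cs_sub_conj_mem (hS : IsCoherenceSystem S τ R) {χ : L → ℂ} (hχ : χ ∈ S) :
    χ - conjFun χ ∈ zspanOn S {1}ᶜ := by
  apply mem_zspanOn_compl_one
  · exact Submodule.sub_mem _ (cs_mem_zspan hχ) (cs_mem_zspan (hS.conj_mem χ hχ))
  · rw [Pi.sub_apply, cs_conj_one hS hχ, sub_self]

theorem cs_sub_mem {χ ψ : L → ℂ} (hχ : χ ∈ S) (hψ : ψ ∈ S) (h : χ 1 = ψ 1) :
    χ - ψ ∈ zspanOn S {1}ᶜ := by
  apply mem_zspanOn_compl_one
  · exact Submodule.sub_mem _ (cs_mem_zspan hχ) (cs_mem_zspan hψ)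
  · rw [Pi.sub_apply, h, sub_self]

theorem cs_orth_one (hS : IsCoherenceSystem S τ R) {χ : L → ℂ} (hχ : χ ∈ S) :
    ∀ α ∈ R χ, classInner α α = 1 := by
  intro α hα
  have := hS.orthonormal χ hχ α hα α hα
  simpa using this

theorem cs_orth_zero (hS : IsCoherenceSystem S τ R) {χ : L → ℂ} (hχ : χ ∈ S) :
    ∀ α ∈ R χ, ∀ β ∈ R χ, α ≠ β → classInner α β = 0 := by
  intro α hα β hβ hne
  have := hS.orthonormal χ hχ α hα β hβ
  simpa [hne] using this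

theorem cs_conj_ne' (hS : IsCoherenceSystem S τ R) {χ : L → ℂ} (hχ : χ ∈ S) :
    χ ≠ conjFun χ := fun h => hS.conj_ne χ hχ h.symm

theorem cs_inner_conj (hS : IsCoherenceSystem S τ R) {χ : L → ℂ} (hχ : χ ∈ S) :
    classInner χ (conjFun χ) = 0 :=
  hS.orthogonal χ hχ _ (hS.conj_mem χ hχ) (cs_conj_ne' hS hχ)

theorem cs_inner_conj' (hS : IsCoherenceSystem S τ R) {χ : L → ℂ} (hχ : χ ∈ S) :
    classInner (conjFun χ) χ = 0 :=
  hS.orthogonal _ (hS.conj_mem χ hχ) χ hχ (hS.conj_ne χ hχ)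

/-- `⟨τ(χ - conj χ), α⟩ = 1` for `α ∈ R χ`. -/
theorem cs_inner_R (hS : IsCoherenceSystem S τ R) {χ : L → ℂ} (hχ : χ ∈ S) {α : G → ℂ}
    (hα : α ∈ R χ) : classInner (τ (χ - conjFun χ)) α = 1 := by
  classical
  rw [hS.sum_eq χ hχ, orth_sum_inner_one (R χ) (R χ) (Finset.Subset.refl _) (cs_orth_one hS hχ)
    (cs_orth_zero hS hχ) hα, if_pos hα]

theorem cs_sum_inner (hS : IsCoherenceSystem S τ R) {χ : L → ℂ} (hχ : χ ∈ S) (X : G → ℂ) :
    ∑ α ∈ R χ, classInner X α = classInner X (τ (χ - conjFun χ)) := by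
  rw [hS.sum_eq χ hχ, classInner_sum_right]

/-- `|R χ| = 2 ⟨χ, χ⟩`. -/
theorem cs_card_R (hS : IsCoherenceSystem S τ R) {χ : L → ℂ} (hχ : χ ∈ S) :
    ((R χ).card : ℂ) = 2 * classInner χ χ := by
  have h1 : classInner (τ (χ - conjFun χ)) (τ (χ - conjFun χ)) = 2 * classInner χ χ := by
    rw [hS.isometry.2.2.1 _ (cs_sub_conj_mem hS hχ) _ (cs_sub_conj_mem hS hχ)]
    simp only [classInner_sub_left, classInner_sub_right]
    rw [cs_inner_conj hS hχ, cs_inner_conj' hS hχ, cs_conj_norm hS hχ]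
    ring
  rw [← h1, ← cs_sum_inner hS hχ, Finset.sum_congr rfl (fun α hα => cs_inner_R hS hχ hα)]
  simp

theorem cs_inner_int (hS : IsCoherenceSystem S τ R) {f : L → ℂ} (hf : f ∈ zspanOn S {1}ᶜ)
    {χ : L → ℂ} (hχ : χ ∈ S) {α : G → ℂ} (hα : α ∈ R χ) :
    ∃ k : ℤ, classInner (τ f) α = ((k : ℤ) : ℂ) :=
  genChar_inner_int (hS.isometry.2.2.2 f hf) (hS.virtual χ hχ α hα)

theorem cs_tau_zero (hS : IsCoherenceSystem S τ R) : τ 0 = 0 := by
  have := hS.isometry.2.1 0 (zspanOn_zero S _) 0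
  simpa using this

/-- For `χ, ψ ∈ S` of equal degree with `ψ ∉ {χ, conj χ}`, `τ (χ - ψ)` is a `0,1`-combination of
`R χ` plus a `0,-1`-combination of `R ψ`. -/
theorem cs_pair (hS : IsCoherenceSystem S τ R) {χ ψ : L → ℂ} (hχ : χ ∈ S) (hψ : ψ ∈ S)
    (h1 : ψ ≠ χ) (h2 : ψ ≠ conjFun χ) (hdeg : χ 1 = ψ 1) :
    ∃ a b : (G → ℂ) → ℤ, (∀ α ∈ R χ, classInner (τ (χ - ψ)) α = ((a α : ℤ) : ℂ)) ∧
      (∀ β ∈ R ψ, classInner (τ (χ - ψ)) β = ((b β : ℤ) : ℂ)) ∧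
      τ (χ - ψ) = ∑ α ∈ R χ, a α • α + ∑ β ∈ R ψ, b β • β ∧
      ((∑ α ∈ R χ, a α : ℤ) : ℂ) = classInner χ χ ∧
      ((∑ α ∈ R χ, a α ^ 2 : ℤ) : ℂ) = classInner χ χ := by
  have hmem : χ - ψ ∈ zspanOn S {1}ᶜ := cs_sub_mem hχ hψ hdeg
  choose! a ha using fun α (hα : α ∈ R χ) => cs_inner_int hS hmem hχ hα
  choose! b hb using fun β (hβ : β ∈ R ψ) => cs_inner_int hS hmem hψ hβ
  obtain ⟨n, hn, -⟩ := cs_norm hS hχ
  obtain ⟨m, hm, -⟩ := cs_norm hS hψ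
  have h3 : χ ≠ conjFun ψ := by
    intro h
    apply h2
    rw [h, conjFun_conjFun]
  have hχψ : classInner χ ψ = 0 := hS.orthogonal χ hχ ψ hψ (Ne.symm h1)
  have hψχ : classInner ψ χ = 0 := hS.orthogonal ψ hψ χ hχ h1
  have hψχc : classInner ψ (conjFun χ) = 0 := hS.orthogonal ψ hψ _ (hS.conj_mem χ hχ) h2
  have hχψc : classInner χ (conjFun ψ) = 0 := hS.orthogonal χ hχ _ (hS.conj_mem ψ hψ) h3
  have hXX : classInner (τ (χ - ψ)) (τ (χ - ψ)) = (((n : ℤ) + (m : ℤ) : ℤ) : ℂ) := by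
    rw [hS.isometry.2.2.1 _ hmem _ hmem]
    simp only [classInner_sub_left, classInner_sub_right]
    rw [hχψ, hψχ, hn, hm]
    push_cast
    ring
  have hsa : ((∑ α ∈ R χ, a α : ℤ) : ℂ) = ((n : ℤ) : ℂ) := by
    push_cast
    rw [← Finset.sum_congr rfl (fun α hα => ha α hα), cs_sum_inner hS hχ,
      hS.isometry.2.2.1 _ hmem _ (cs_sub_conj_mem hS hχ)]
    simp only [classInner_sub_left, classInner_sub_right]
    rw [hψχ, hψχc, cs_inner_conj hS hχ, hn]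
    ring
  have hsb : ((∑ β ∈ R ψ, b β : ℤ) : ℂ) = ((-(m : ℤ) : ℤ) : ℂ) := by
    push_cast
    rw [← Finset.sum_congr rfl (fun β hβ => hb β hβ), cs_sum_inner hS hψ,
      hS.isometry.2.2.1 _ hmem _ (cs_sub_conj_mem hS hψ)]
    simp only [classInner_sub_left, classInner_sub_right]
    rw [hχψ, hχψc, cs_inner_conj hS hψ, hm]
    ring
  have hsa' : ∑ α ∈ R χ, a α = (n : ℤ) := by exact_mod_cast hsa
  have hsb' : ∑ β ∈ R ψ, b β = -(m : ℤ) := by exact_mod_cast hsb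
  have h12 : ∀ α ∈ R χ, ∀ β ∈ R ψ, classInner α β = 0 := hS.disjoint ψ hψ χ hχ hχψ hχψc
  obtain ⟨e1, e2, e3, -, -⟩ := two_family (R χ) (R ψ) (cs_orth_one hS hχ) (cs_orth_zero hS hχ)
    (cs_orth_one hS hψ) (cs_orth_zero hS hψ) h12 (τ (χ - ψ)) a b ha hb (n : ℤ) (m : ℤ) hXX
    (by omega) (by omega)
  refine ⟨a, b, ha, hb, e1, ?_, ?_⟩
  · rw [e2, hn]; simp
  · rw [e3, hn]; simp

end CohSys

end Cfsg.Agent.H32
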