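import Mathlib
import Cfsg.Prelude.Def_OddOrderChar
import Cfsg.Agent.H32.CohSys

set_option autoImplicit false

namespace Cfsg.Agent.H32

open Cfsg Cfsg.Agent.H4

/-- The numerical heart of the coherence extension criterion. -/
theorem coh_ext_numeric {ι : Type*} [DecidableEq ι] (S₁ : Finset ι) (d n : ι → ℕ)
    (hn : ∀ φ ∈ S₁, 0 < n φ) (χ₁ : ι) (hχ₁ : χ₁ ∈ S₁) (dχ a : ℕ) (hd₁ : 0 < d χ₁)
    (hdχ : dχ = d χ₁ * a) (y : ι → ℤ) (u : ℤ)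
    (hy : ∀ φ ∈ S₁, (d χ₁ : ℤ) * y φ = d φ * u - if φ = χ₁ then (dχ : ℤ) * n χ₁ else 0)
    (hle : ∑ φ ∈ S₁, ((y φ : ℝ)) ^ 2 / (n φ : ℝ) ≤ (a : ℝ) ^ 2 * n χ₁)
    (hineq : (2 * dχ * d χ₁ : ℝ) < ∑ φ ∈ S₁, ((d φ : ℝ) ^ 2 / (n φ : ℝ))) : u = 0 := by
  obtain ⟨D, hD⟩ : ∃ D : ℝ, D = ∑ φ ∈ S₁, ((d φ : ℝ) ^ 2 / (n φ : ℝ)) := ⟨_, rfl⟩
  rw [← hD] at hineq
  have hn₁ : (0 : ℝ) < n χ₁ := by exact_mod_cast hn χ₁ hχ₁
  have hd₁' : (0 : ℝ) < d χ₁ := by exact_mod_cast hd₁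
  have key : (d χ₁ : ℝ) ^ 2 * ∑ φ ∈ S₁, ((y φ : ℝ)) ^ 2 / (n φ : ℝ) =
      (u : ℝ) ^ 2 * D - 2 * d χ₁ * dχ * u + (dχ : ℝ) ^ 2 * n χ₁ := by
    rw [Finset.mul_sum]
    have hterm : ∀ φ ∈ S₁, (d χ₁ : ℝ) ^ 2 * ((y φ : ℝ) ^ 2 / (n φ : ℝ)) =
        (u : ℝ) ^ 2 * ((d φ : ℝ) ^ 2 / (n φ : ℝ)) +
          if φ = χ₁ then (- 2 * d χ₁ * dχ * u + (dχ : ℝ) ^ 2 * n χ₁) else 0 := by
      intro φ hφ
      have hnφ : (0 : ℝ) < n φ := by exact_mod_cast hn φ hφ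
      have h3 : (d χ₁ : ℝ) ^ 2 * ((y φ : ℝ) ^ 2 / (n φ : ℝ)) =
          ((d χ₁ : ℝ) * (y φ : ℝ)) ^ 2 / (n φ : ℝ) := by ring
      rw [h3]
      by_cases hφ1 : φ = χ₁
      · have h1 : ((d χ₁ : ℝ)) * (y φ : ℝ) = d φ * u - (dχ : ℝ) * n χ₁ := by
          have := hy φ hφ
          rw [if_pos hφ1] at this
          exact_mod_cast this
        rw [h1, if_pos hφ1, hφ1]
        field_simp
        ring
      · have h1 : ((d χ₁ : ℝ)) * (y φ : ℝ) = d φ * u := by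
          have := hy φ hφ
          rw [if_neg hφ1, sub_zero] at this
          exact_mod_cast this
        rw [h1, if_neg hφ1]
        ring
    rw [Finset.sum_congr rfl hterm, Finset.sum_add_distrib, ← Finset.mul_sum, ← hD,
      Finset.sum_ite_eq', if_pos hχ₁]
    ring
  have hle2 : (u : ℝ) ^ 2 * D ≤ 2 * d χ₁ * dχ * u := by
    have h1 : (d χ₁ : ℝ) ^ 2 * ∑ φ ∈ S₁, ((y φ : ℝ)) ^ 2 / (n φ : ℝ) ≤
        (d χ₁ : ℝ) ^ 2 * ((a : ℝ) ^ 2 * n χ₁) := mul_le_mul_of_nonneg_left hle (sq_nonneg _)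
    rw [key] at h1
    have hdχ' : (dχ : ℝ) = d χ₁ * a := by exact_mod_cast hdχ
    have h2 : (dχ : ℝ) ^ 2 * n χ₁ = (d χ₁ : ℝ) ^ 2 * ((a : ℝ) ^ 2 * n χ₁) := by
      rw [hdχ']; ring
    linarith
  have hP : (0 : ℝ) ≤ 2 * dχ * d χ₁ := by positivity
  by_contra hu
  rcases lt_or_gt_of_ne hu with h | h
  · have hu' : (u : ℝ) ≤ -1 := by exact_mod_cast (by omega : u ≤ -1)
    have h1 : 0 ≤ (2 * (dχ : ℝ) * d χ₁) * (-(u : ℝ)) := mul_nonneg hP (by linarith)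
    have h2 : 0 ≤ ((u : ℝ) ^ 2 - 1) * D := mul_nonneg (by nlinarith) (by linarith)
    nlinarith
  · have hu' : (1 : ℝ) ≤ u := by exact_mod_cast (by omega : 1 ≤ u)
    have h1 : 0 < (u : ℝ) * (D - 2 * dχ * d χ₁) := mul_pos (by linarith) (by linarith)
    have h2 : 0 ≤ (u : ℝ) * ((u : ℝ) - 1) * D :=
      mul_nonneg (mul_nonneg (by linarith) (by linarith)) (by linarith)
    nlinarith

section CohExt

variable {L : Type*} [Group L] [Fintype L] {G : Type*} [Group G] [Fintype G]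
  {S : Set (L → ℂ)} {τ : (L → ℂ) → (G → ℂ)} {R : (L → ℂ) → Finset (G → ℂ)}

/-- In a coherent subset closed under conjugation, the image `τ₁ φ` is an integer combination
of `R φ`. -/
theorem cs_coh_span (hS : IsCoherenceSystem S τ R) {S₁ : Set (L → ℂ)} (hS₁ : S₁ ⊆ S)
    {τ₁ : (L → ℂ) → (G → ℂ)} (hτ₁ : IsLinearIsometryOn (zspan S₁) τ₁)
    (hagree : ∀ α ∈ zspanOn S₁ {1}ᶜ, τ₁ α = τ α) {φ : L → ℂ} (hφ : φ ∈ S₁)
    (hφc : conjFun φ ∈ S₁) : ∃ c : (G → ℂ) → ℤ, τ₁ φ = ∑ γ ∈ R φ, c γ • γ := by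
  have hφS := hS₁ hφ
  have hmem : φ - conjFun φ ∈ zspanOn S₁ {1}ᶜ := by
    apply mem_zspanOn_compl_one
    · exact Submodule.sub_mem _ (cs_mem_zspan hφ) (cs_mem_zspan hφc)
    · rw [Pi.sub_apply, cs_conj_one hS hφS, sub_self]
  have hsub : τ₁ (φ - conjFun φ) = τ₁ φ - τ₁ (conjFun φ) := by
    have := linIso_zspan_sub hτ₁ (cs_mem_zspan hφ) (cs_mem_zspan hφc) 1 1
    simpa using this
  have hsum : τ₁ φ - τ₁ (conjFun φ) = ∑ γ ∈ R φ, γ := by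
    rw [← hsub, hagree _ hmem, hS.sum_eq φ hφS]
  obtain ⟨N, hN, -⟩ := cs_norm hS hφS
  choose! c hc using fun γ (hγ : γ ∈ R φ) =>
    genChar_inner_int (hτ₁.2.2.2 φ (cs_mem_zspan hφ)) (hS.virtual φ hφS γ hγ)
  have hXX : classInner (τ₁ φ) (τ₁ φ) = (((N : ℤ) : ℤ) : ℂ) := by
    rw [hτ₁.2.2.1 φ (cs_mem_zspan hφ) φ (cs_mem_zspan hφ), hN]
    simp
  have hsumc : ((∑ γ ∈ R φ, c γ : ℤ) : ℂ) = ((N : ℤ) : ℂ) := by
    push_cast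
    rw [← Finset.sum_congr rfl (fun γ hγ => hc γ hγ), ← classInner_sum_right, ← hsum,
      classInner_sub_right, hτ₁.2.2.1 φ (cs_mem_zspan hφ) φ (cs_mem_zspan hφ),
      hτ₁.2.2.1 φ (cs_mem_zspan hφ) _ (cs_mem_zspan hφc), cs_inner_conj hS hφS, hN, sub_zero]
  have hsumc' : ∑ γ ∈ R φ, c γ = (N : ℤ) := by exact_mod_cast hsumc
  obtain ⟨e, -, -, -⟩ := zero_one_of_sum_ge (R φ) (cs_orth_one hS hφS) (cs_orth_zero hS hφS)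
    (τ₁ φ) c hc (N : ℤ) hXX (by omega)
  exact ⟨c, e⟩

/-- The coherence extension criterion (Feit–Thompson / Sibley). -/
theorem coherence_ext (S : Set (L → ℂ)) (τ : (L → ℂ) → (G → ℂ))
    (R : (L → ℂ) → Finset (G → ℂ)) (hS : IsCoherenceSystem S τ R) (d n : (L → ℂ) → ℕ)
    (hd : ∀ φ ∈ S, φ 1 = (d φ : ℂ)) (hn : ∀ φ ∈ S, classInner φ φ = (n φ : ℂ))
    (S₁ : Finset (L → ℂ)) (hS₁ : ↑S₁ ⊆ S) (hS₁c : ∀ φ ∈ S₁, conjFun φ ∈ S₁)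
    (hcoh : IsCoherent (↑S₁ : Set (L → ℂ)) {1}ᶜ τ) (χ : L → ℂ) (hχ : χ ∈ S) (hχ₁ : χ ∉ S₁)
    (hχ₂ : conjFun χ ∉ S₁) (χ₁ : L → ℂ) (hχ₁S : χ₁ ∈ S₁) (hdvd : d χ₁ ∣ d χ)
    (hineq : (2 * d χ * d χ₁ : ℝ) < ∑ φ ∈ S₁, ((d φ : ℝ) ^ 2 / (n φ : ℝ))) :
    IsCoherent (↑S₁ ∪ {χ, conjFun χ} : Set (L → ℂ)) {1}ᶜ τ := by
  classical
  obtain ⟨⟨α₀, hα₀, hα₀ne⟩, τ₁, hτ₁, hagree⟩ := hcoh
  have hS' : (↑S₁ ∪ {χ, conjFun χ} : Set (L → ℂ)) ⊆ S := by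
    intro ξ hξ
    rcases hξ with h | h | h
    · exact hS₁ h
    · rw [h]; exact hχ
    · rw [Set.mem_singleton_iff] at h
      rw [h]; exact hS.conj_mem χ hχ
  refine ⟨⟨α₀, zspanOn_mono Set.subset_union_left hα₀, hα₀ne⟩, ?_⟩
  have hχ₁' : χ₁ ∈ S := hS₁ hχ₁S
  have hnpos : ∀ φ ∈ S, 0 < n φ := by
    intro φ hφ
    obtain ⟨m, hm, hmpos⟩ := cs_norm hS hφ
    have h1 : (n φ : ℂ) = (m : ℂ) := by rw [← hn φ hφ, hm]
    have h2 : n φ = m := by exact_mod_cast h1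
    omega
  have hdpos : ∀ φ ∈ S, 0 < d φ := by
    intro φ hφ
    obtain ⟨m, hm, hmpos⟩ := cs_deg hS hφ
    have h1 : (d φ : ℂ) = (m : ℂ) := by rw [← hd φ hφ, hm]
    have h2 : d φ = m := by exact_mod_cast h1
    omega
  have hnC : ∀ φ ∈ S, (n φ : ℂ) ≠ 0 := by
    intro φ hφ
    have := hnpos φ hφ
    exact_mod_cast this.ne'
  have hnR : ∀ φ ∈ S, (n φ : ℝ) ≠ 0 := by
    intro φ hφ
    have := hnpos φ hφ
    exact_mod_cast this.ne'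
  have hdconj : d (conjFun χ) = d χ := by
    have := cs_conj_one hS hχ
    rw [hd _ (hS.conj_mem χ hχ), hd χ hχ] at this
    exact_mod_cast this
  obtain ⟨a, ha⟩ := hdvd
  have hne1 : ∀ φ ∈ S₁, χ ≠ φ := fun φ hφ h => hχ₁ (h ▸ hφ)
  have hne2 : ∀ φ ∈ S₁, conjFun χ ≠ φ := fun φ hφ h => hχ₂ (h ▸ hφ)
  have hχφ : ∀ φ ∈ S₁, classInner χ φ = 0 :=
    fun φ hφ => hS.orthogonal χ hχ φ (hS₁ hφ) (hne1 φ hφ)
  have hφχ : ∀ φ ∈ S₁, classInner φ χ = 0 :=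
    fun φ hφ => hS.orthogonal φ (hS₁ hφ) χ hχ (Ne.symm (hne1 φ hφ))
  have hφχc : ∀ φ ∈ S₁, classInner φ (conjFun χ) = 0 :=
    fun φ hφ => hS.orthogonal φ (hS₁ hφ) _ (hS.conj_mem χ hχ) (Ne.symm (hne2 φ hφ))
  have hχcφ : ∀ φ ∈ S₁, classInner (conjFun χ) φ = 0 :=
    fun φ hφ => hS.orthogonal _ (hS.conj_mem χ hχ) φ (hS₁ hφ) (hne2 φ hφ)
  have hχφc : ∀ φ ∈ S₁, classInner χ (conjFun φ) = 0 := fun φ hφ => hχφ _ (hS₁c φ hφ)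
  -- the element β = χ - a χ₁
  obtain ⟨β, hβ⟩ : ∃ β : L → ℂ, β = χ - (a : ℤ) • χ₁ := ⟨_, rfl⟩
  have hβmem : β ∈ zspanOn S {1}ᶜ := by
    apply mem_zspanOn_compl_one
    · rw [hβ]
      exact Submodule.sub_mem _ (cs_mem_zspan hχ) (Submodule.smul_mem _ _ (cs_mem_zspan hχ₁'))
    · rw [hβ, Pi.sub_apply, Pi.smul_apply, hd χ hχ, hd χ₁ hχ₁', ha, zsmul_eq_mul]
      push_cast
      ring
  obtain ⟨X, hX⟩ : ∃ X : G → ℂ, X = τ β := ⟨_, rfl⟩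
  have hXg : IsGeneralizedCharacter G X := by rw [hX]; exact hS.isometry.2.2.2 β hβmem
  have hXX : classInner X X = (n χ : ℂ) + (a : ℂ) ^ 2 * (n χ₁ : ℂ) := by
    rw [hX, hS.isometry.2.2.1 β hβmem β hβmem, hβ]
    simp only [classInner_sub_left, classInner_sub_right, classInner_zsmul_left,
      classInner_zsmul_right]
    rw [hχφ χ₁ hχ₁S, hφχ χ₁ hχ₁S, hn χ hχ, hn χ₁ hχ₁']
    push_cast
    ring
  have hτ₁mem : ∀ φ ∈ S₁, φ ∈ zspan (↑S₁ : Set (L → ℂ)) :=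
    fun φ hφ => cs_mem_zspan (Finset.mem_coe.mpr hφ)
  have hτ₁g : ∀ φ ∈ S₁, IsGeneralizedCharacter G (τ₁ φ) :=
    fun φ hφ => hτ₁.2.2.2 φ (hτ₁mem φ hφ)
  have hτ₁inner : ∀ φ ∈ S₁, ∀ ψ ∈ S₁, classInner (τ₁ φ) (τ₁ ψ) = classInner φ ψ :=
    fun φ hφ ψ hψ => hτ₁.2.2.1 φ (hτ₁mem φ hφ) ψ (hτ₁mem ψ hψ)
  choose! y hy using fun φ (hφ : φ ∈ S₁) => genChar_inner_int hXg (hτ₁g φ hφ)
  obtain ⟨u, hu⟩ : ∃ u : ℤ, u = y χ₁ + a * n χ₁ := ⟨_, rfl⟩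
  have hγmem : ∀ φ ∈ S₁, (d χ₁ : ℤ) • φ - (d φ : ℤ) • χ₁ ∈
      zspanOn (↑S₁ : Set (L → ℂ)) {1}ᶜ := by
    intro φ hφ
    apply mem_zspanOn_compl_one
    · exact Submodule.sub_mem _ (Submodule.smul_mem _ _ (hτ₁mem φ hφ))
        (Submodule.smul_mem _ _ (hτ₁mem χ₁ hχ₁S))
    · rw [Pi.sub_apply, Pi.smul_apply, Pi.smul_apply, hd φ (hS₁ hφ), hd χ₁ hχ₁',
        zsmul_eq_mul, zsmul_eq_mul]
      push_cast
      ring
  have hγmem' : ∀ φ ∈ S₁, (d φ : ℤ) • χ₁ - (d χ₁ : ℤ) • φ ∈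
      zspanOn (↑S₁ : Set (L → ℂ)) {1}ᶜ := by
    intro φ hφ
    apply mem_zspanOn_compl_one
    · exact Submodule.sub_mem _ (Submodule.smul_mem _ _ (hτ₁mem χ₁ hχ₁S))
        (Submodule.smul_mem _ _ (hτ₁mem φ hφ))
    · rw [Pi.sub_apply, Pi.smul_apply, Pi.smul_apply, hd φ (hS₁ hφ), hd χ₁ hχ₁',
        zsmul_eq_mul, zsmul_eq_mul]
      push_cast
      ring
  have hrel : ∀ φ ∈ S₁, (d χ₁ : ℤ) * y φ =
      d φ * u - if φ = χ₁ then (d χ : ℤ) * n χ₁ else 0 := by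
    intro φ hφ
    have e1 : τ₁ ((d χ₁ : ℤ) • φ - (d φ : ℤ) • χ₁) =
        (d χ₁ : ℤ) • τ₁ φ - (d φ : ℤ) • τ₁ χ₁ :=
      linIso_zspan_sub hτ₁ (hτ₁mem φ hφ) (hτ₁mem χ₁ hχ₁S) _ _
    have e2 : classInner X ((d χ₁ : ℤ) • τ₁ φ - (d φ : ℤ) • τ₁ χ₁) =
        classInner β ((d χ₁ : ℤ) • φ - (d φ : ℤ) • χ₁) := by
      rw [← e1, hagree _ (hγmem φ hφ), hX,
        hS.isometry.2.2.1 β hβmem _ (zspanOn_mono hS₁ (hγmem φ hφ))]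
    rw [classInner_sub_right, classInner_zsmul_right, classInner_zsmul_right, hy φ hφ,
      hy χ₁ hχ₁S, hβ] at e2
    simp only [classInner_sub_left, classInner_sub_right, classInner_zsmul_left,
      classInner_zsmul_right] at e2
    rw [hχφ φ hφ, hχφ χ₁ hχ₁S, hn χ₁ hχ₁'] at e2
    by_cases hφ1 : φ = χ₁
    · rw [if_pos hφ1, hφ1, hu, ha]
      push_cast
      ring
    · rw [if_neg hφ1, sub_zero, hu]
      rw [hS.orthogonal χ₁ hχ₁' φ (hS₁ hφ) (Ne.symm hφ1)] at e2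
      have e3 : ((((d χ₁ : ℤ) * y φ : ℤ)) : ℂ) = (((d φ : ℤ) * (y χ₁ + a * n χ₁) : ℤ) : ℂ) := by
        push_cast
        linear_combination e2
      exact_mod_cast e3
  choose! c hc using fun α (hα : α ∈ R χ) => genChar_inner_int hXg (hS.virtual χ hχ α hα)
  have hsumc : ∑ α ∈ R χ, c α = (n χ : ℤ) := by
    have h1 : ((∑ α ∈ R χ, c α : ℤ) : ℂ) = ((n χ : ℤ) : ℂ) := by
      push_cast
      rw [← Finset.sum_congr rfl (fun α hα => hc α hα), cs_sum_inner hS hχ, hX,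
        hS.isometry.2.2.1 β hβmem _ (cs_sub_conj_mem hS hχ), hβ]
      simp only [classInner_sub_left, classInner_sub_right, classInner_zsmul_left]
      rw [hφχ χ₁ hχ₁S, hφχc χ₁ hχ₁S, cs_inner_conj hS hχ, hn χ hχ]
      ring
    exact_mod_cast h1
  have hstruct : ∀ φ ∈ S₁, ∀ α ∈ R χ, classInner α (τ₁ φ) = 0 := by
    intro φ hφ α hα
    obtain ⟨cφ, hcφ⟩ := cs_coh_span hS hS₁ hτ₁ hagree (Finset.mem_coe.mpr hφ)
      (Finset.mem_coe.mpr (hS₁c φ hφ))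
    rw [hcφ, classInner_sum_right]
    apply Finset.sum_eq_zero
    intro γ hγ
    rw [classInner_zsmul_right,
      hS.disjoint φ (hS₁ hφ) χ hχ (hχφ φ hφ) (hχφc φ hφ) α hα γ hγ, mul_zero]
  have hR1 := cs_orth_one hS hχ
  have hR0 := cs_orth_zero hS hχ
  obtain ⟨-, hY2⟩ := classInner_proj_int (R χ) hR1 hR0 X c hc
  obtain ⟨A, hA⟩ : ∃ A : G → ℂ, A = ∑ α ∈ R χ, c α • α := ⟨_, rfl⟩
  rw [← hA] at hY2
  have hAτ₁ : ∀ φ ∈ S₁, classInner A (τ₁ φ) = 0 := by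
    intro φ hφ
    rw [hA, classInner_sum_left]
    apply Finset.sum_eq_zero
    intro α hα
    rw [classInner_zsmul_left, hstruct φ hφ α hα, mul_zero]
  have hYy : ∀ φ ∈ S₁, classInner (X - A) (τ₁ φ) = ((y φ : ℤ) : ℂ) := by
    intro φ hφ
    rw [classInner_sub_left, hy φ hφ, hAτ₁ φ hφ, sub_zero]
  obtain ⟨-, hZ2⟩ := classInner_proj S₁ τ₁ (fun φ => ((y φ : ℤ) : ℂ) / (n φ : ℂ)) (X - A)
    (fun φ hφ ψ hψ hne => by
      rw [hτ₁inner φ hφ ψ hψ]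
      exact hS.orthogonal φ (hS₁ hφ) ψ (hS₁ hψ) hne)
    (fun φ hφ => by
      rw [hYy φ hφ, hτ₁inner φ hφ φ hφ, hn φ (hS₁ hφ)]
      have := hnC φ (hS₁ hφ)
      field_simp)
  obtain ⟨Z, hZ⟩ : ∃ Z : G → ℂ, Z = X - A - ∑ φ ∈ S₁, (((y φ : ℤ) : ℂ) / (n φ : ℂ)) • τ₁ φ :=
    ⟨_, rfl⟩
  rw [← hZ] at hZ2
  have hZ3 : classInner Z Z = ((((n χ : ℝ) + (a : ℝ) ^ 2 * (n χ₁ : ℝ) -
      ((∑ α ∈ R χ, c α ^ 2 : ℤ) : ℝ) - ∑ φ ∈ S₁, (y φ : ℝ) ^ 2 / (n φ : ℝ) : ℝ)) : ℂ) := by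
    rw [hZ2, hY2, hXX]
    have hterm : ∀ φ ∈ S₁, ((y φ : ℤ) : ℂ) / (n φ : ℂ) *
        (starRingEnd ℂ) (((y φ : ℤ) : ℂ) / (n φ : ℂ)) *
        (starRingEnd ℂ) (classInner (τ₁ φ) (τ₁ φ)) = ((y φ : ℤ) : ℂ) ^ 2 / (n φ : ℂ) := by
      intro φ hφ
      rw [hτ₁inner φ hφ φ hφ, hn φ (hS₁ hφ)]
      simp only [map_div₀, map_intCast, map_natCast]
      have := hnC φ (hS₁ hφ)
      field_simp
    rw [Finset.sum_congr rfl hterm]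
    push_cast
    ring
  have hre : 0 ≤ (n χ : ℝ) + (a : ℝ) ^ 2 * (n χ₁ : ℝ) -
      ((∑ α ∈ R χ, c α ^ 2 : ℤ) : ℝ) - ∑ φ ∈ S₁, (y φ : ℝ) ^ 2 / (n φ : ℝ) := by
    have h := classInner_self_re_nonneg Z
    rw [hZ3, Complex.ofReal_re] at h
    exact h
  have hsq_ge : (n χ : ℤ) ≤ ∑ α ∈ R χ, c α ^ 2 := by
    rw [← hsumc]
    exact Finset.sum_le_sum (fun α _ => Int.le_self_sq (c α))
  have hsq_geR : (n χ : ℝ) ≤ ((∑ α ∈ R χ, c α ^ 2 : ℤ) : ℝ) := by exact_mod_cast hsq_ge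
  have hu0 : u = 0 :=
    coh_ext_numeric S₁ d n (fun φ hφ => hnpos φ (hS₁ hφ)) χ₁ hχ₁S (d χ) a (hdpos χ₁ hχ₁') ha
      y u hrel (by linarith) hineq
  have hd₁ne : (d χ₁ : ℤ) ≠ 0 := by
    have := hdpos χ₁ hχ₁'
    omega
  have hy0 : ∀ φ ∈ S₁, φ ≠ χ₁ → y φ = 0 := by
    intro φ hφ hne
    have h1 := hrel φ hφ
    rw [if_neg hne, hu0, mul_zero, sub_zero] at h1
    rcases mul_eq_zero.mp h1 with h | h
    · exact absurd h hd₁ne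
    · exact h
  have hy1 : y χ₁ = -((a : ℤ) * n χ₁) := by
    rw [hu0] at hu
    linarith
  have hsumy : ∑ φ ∈ S₁, (y φ : ℝ) ^ 2 / (n φ : ℝ) = (a : ℝ) ^ 2 * n χ₁ := by
    rw [Finset.sum_eq_single χ₁]
    · rw [hy1]
      have := hnR χ₁ hχ₁'
      push_cast
      field_simp
    · intro φ hφ hne
      rw [hy0 φ hφ hne]
      simp
    · intro h
      exact absurd hχ₁S h
  have hsq : ∑ α ∈ R χ, c α ^ 2 = (n χ : ℤ) := by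
    have h1 : ((∑ α ∈ R χ, c α ^ 2 : ℤ) : ℝ) ≤ (n χ : ℝ) := by linarith
    have h2 : ∑ α ∈ R χ, c α ^ 2 ≤ (n χ : ℤ) := by exact_mod_cast h1
    omega
  have hZ0 : Z = 0 := by
    apply classInner_self_eq_zero
    rw [hZ3, hsumy, hsq]
    push_cast
    ring
  have hXA : X = A - (a : ℤ) • τ₁ χ₁ := by
    have hs : ∑ φ ∈ S₁, (((y φ : ℤ) : ℂ) / (n φ : ℂ)) • τ₁ φ = (-(a : ℤ)) • τ₁ χ₁ := by
      rw [Finset.sum_eq_single χ₁]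
      · rw [hy1, zsmul_fun_eq_smul]
        congr 1
        have := hnC χ₁ hχ₁'
        push_cast
        field_simp
      · intro φ hφ hne
        rw [hy0 φ hφ hne]
        simp
      · intro h
        exact absurd hχ₁S h
    rw [hZ0, hs] at hZ
    have h1 : X = A + (-(a : ℤ)) • τ₁ χ₁ := by
      have h2 := sub_eq_zero.mp hZ.symm
      exact sub_eq_iff_eq_add'.mp h2
    rw [h1]
    module
  -- the images of χ and its conjugate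
  obtain ⟨A', hA'⟩ : ∃ A' : G → ℂ, A' = A - τ (χ - conjFun χ) := ⟨_, rfl⟩
  have hA'eq : A' = ∑ α ∈ R χ, (c α - 1) • α := by
    rw [hA', hS.sum_eq χ hχ, hA, ← Finset.sum_sub_distrib]
    apply Finset.sum_congr rfl
    intro α _
    rw [sub_smul, one_smul]
  have hcard : ((R χ).card : ℤ) = 2 * n χ := by
    have h1 := cs_card_R hS hχ
    rw [hn χ hχ] at h1
    exact_mod_cast h1
  have hAA : classInner A A = (n χ : ℂ) := by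
    rw [hA, orth_sum_sum (R χ) hR1 hR0]
    have h1 : ∑ α ∈ R χ, c α * c α = (n χ : ℤ) := by
      rw [← hsq]
      apply Finset.sum_congr rfl
      intro α _
      ring
    rw [h1]
    simp
  have hAA' : classInner A A' = 0 := by
    rw [hA'eq, hA, orth_sum_sum (R χ) hR1 hR0]
    have h1 : ∑ α ∈ R χ, c α * (c α - 1) = 0 := by
      have h2 : ∑ α ∈ R χ, c α * (c α - 1) = ∑ α ∈ R χ, c α ^ 2 - ∑ α ∈ R χ, c α := by
        rw [← Finset.sum_sub_distrib]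
        apply Finset.sum_congr rfl
        intro α _
        ring
      rw [h2, hsq, hsumc, sub_self]
    rw [h1]
    simp
  have hA'A : classInner A' A = 0 := by
    rw [← classInner_conj_symm, hAA']
    simp
  have hA'A' : classInner A' A' = (n χ : ℂ) := by
    rw [hA'eq, orth_sum_sum (R χ) hR1 hR0]
    have h1 : ∑ α ∈ R χ, (c α - 1) * (c α - 1) = (n χ : ℤ) := by
      have h2 : ∑ α ∈ R χ, (c α - 1) * (c α - 1) =
          ∑ α ∈ R χ, c α ^ 2 - 2 * ∑ α ∈ R χ, c α + (R χ).card := by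
        rw [Finset.mul_sum, ← Finset.sum_sub_distrib, Finset.card_eq_sum_ones, Nat.cast_sum,
          ← Finset.sum_add_distrib]
        apply Finset.sum_congr rfl
        intro α _
        push_cast
        ring
      rw [h2, hsq, hsumc, hcard]
      ring
    rw [h1]
    simp
  have hA'τ₁ : ∀ φ ∈ S₁, classInner A' (τ₁ φ) = 0 := by
    intro φ hφ
    rw [hA'eq, classInner_sum_left]
    apply Finset.sum_eq_zero
    intro α hα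
    rw [classInner_zsmul_left, hstruct φ hφ α hα, mul_zero]
  have hAg : IsGeneralizedCharacter G A := by
    rw [hA]
    exact isGeneralizedCharacter_sum _ _
      (fun α hα => isGeneralizedCharacter_zsmul _ (hS.virtual χ hχ α hα))
  have hA'g : IsGeneralizedCharacter G A' := by
    rw [hA']
    exact isGeneralizedCharacter_sub hAg (hS.isometry.2.2.2 _ (cs_sub_conj_mem hS hχ))
  obtain ⟨T, hTχ, hTχc, hTφ⟩ : ∃ T : (L → ℂ) → (G → ℂ), T χ = A ∧ T (conjFun χ) = A' ∧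
      ∀ φ ∈ S₁, T φ = τ₁ φ := by
    refine ⟨fun ξ => if ξ = χ then A else if ξ = conjFun χ then A' else τ₁ ξ, ?_, ?_, ?_⟩
    · simp
    · simp [hS.conj_ne χ hχ]
    · intro φ hφ
      simp [Ne.symm (hne1 φ hφ), Ne.symm (hne2 φ hφ)]
  have hmemS' : ∀ ξ ∈ (↑S₁ ∪ {χ, conjFun χ} : Set (L → ℂ)),
      ξ ∈ S₁ ∨ ξ = χ ∨ ξ = conjFun χ := by
    intro ξ hξ
    rcases hξ with h | h | h
    · exact Or.inl h
    · exact Or.inr (Or.inl h)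
    · exact Or.inr (Or.inr h)
  have hTg : ∀ ξ ∈ (↑S₁ ∪ {χ, conjFun χ} : Set (L → ℂ)), IsGeneralizedCharacter G (T ξ) := by
    intro ξ hξ
    rcases hmemS' ξ hξ with h | h | h
    · rw [hTφ ξ h]; exact hτ₁g ξ h
    · rw [h, hTχ]; exact hAg
    · rw [h, hTχc]; exact hA'g
  have hT2 : ∀ ξ ∈ (↑S₁ ∪ {χ, conjFun χ} : Set (L → ℂ)),
      ∀ ζ ∈ (↑S₁ ∪ {χ, conjFun χ} : Set (L → ℂ)),
      classInner (T ξ) (T ζ) = classInner ξ ζ := by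
    intro ξ hξ ζ hζ
    rcases hmemS' ξ hξ with h | h | h <;> rcases hmemS' ζ hζ with h' | h' | h'
    · rw [hTφ ξ h, hTφ ζ h', hτ₁inner ξ h ζ h']
    · rw [h', hTφ ξ h, hTχ, ← classInner_conj_symm, hAτ₁ ξ h, hφχ ξ h]
      simp
    · rw [h', hTφ ξ h, hTχc, ← classInner_conj_symm, hA'τ₁ ξ h, hφχc ξ h]
      simp
    · rw [h, hTχ, hTφ ζ h', hAτ₁ ζ h', hχφ ζ h']
    · rw [h, h', hTχ, hAA, hn χ hχ]
    · rw [h, h', hTχ, hTχc, hAA', cs_inner_conj hS hχ]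
    · rw [h, hTχc, hTφ ζ h', hA'τ₁ ζ h', hχcφ ζ h']
    · rw [h, h', hTχc, hTχ, hA'A, cs_inner_conj' hS hχ]
    · rw [h, h', hTχc, hA'A', cs_conj_norm hS hχ, hn χ hχ]
  refine coherence_of_T _ τ
    (isLinearIsometryOn_mono hS.isometry (fun f hf => zspanOn_mono hS' hf))
    (fun ξ hξ ζ hζ hne => hS.orthogonal ξ (hS' hξ) ζ (hS' hζ) hne)
    (fun ξ hξ h => cs_ne_zero hS (hS' hξ) (classInner_self_eq_zero h))
    (fun ξ => (d ξ : ℤ)) (fun ξ hξ => by rw [hd ξ (hS' hξ)]; simp) χ₁ (Or.inl hχ₁S) hd₁ne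
    T hTg hT2 ?_
  intro ξ hξ
  show τ ((d ξ : ℤ) • χ₁ - (d χ₁ : ℤ) • ξ) = (d ξ : ℤ) • T χ₁ - (d χ₁ : ℤ) • T ξ
  rw [hTφ χ₁ hχ₁S]
  rcases hmemS' ξ hξ with h | h | h
  · rw [hTφ ξ h, ← hagree _ (hγmem' ξ h)]
    exact linIso_zspan_sub hτ₁ (hτ₁mem χ₁ hχ₁S) (hτ₁mem ξ h) _ _
  · rw [h, hTχ]
    have e : (d χ : ℤ) • χ₁ - (d χ₁ : ℤ) • χ = (-(d χ₁ : ℤ)) • β := by
      rw [hβ, ha]
      push_cast
      module
    rw [e, hS.isometry.2.1 β hβmem, ← hX, hXA, ha]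
    push_cast
    module
  · rw [h, hTχc, hdconj]
    have e : (d χ : ℤ) • χ₁ - (d χ₁ : ℤ) • conjFun χ =
        (-(d χ₁ : ℤ)) • β + (d χ₁ : ℤ) • (χ - conjFun χ) := by
      rw [hβ, ha]
      push_cast
      module
    rw [e, hS.isometry.1 _ (zspanOn_zsmul _ hβmem) _ (zspanOn_zsmul _ (cs_sub_conj_mem hS hχ)),
      hS.isometry.2.1 β hβmem, hS.isometry.2.1 _ (cs_sub_conj_mem hS hχ), ← hX, hXA, hA', ha]
    push_cast
    module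

end CohExt

end Cfsg.Agent.H32
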