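import Mathlib
import Cfsg.Prelude.Def_OddOrderChar
import Cfsg.Agent.H32.CohExt

set_option autoImplicit false

namespace Cfsg.Agent.H32

open Cfsg Cfsg.Agent.H4

section CohMany

variable {L : Type*} [Group L] [Fintype L] {G : Type*} [Group G] [Fintype G]

/-- Coherence passes to subsets (with a nonzero element vanishing off `A`). -/
theorem isCoherent_subset {S S' : Set (L → ℂ)} {A : Set L} {τ : (L → ℂ) → (G → ℂ)}
    (h : IsCoherent S A τ) (hS' : S' ⊆ S) (hne : ∃ α ∈ zspanOn S' A, α ≠ 0) :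
    IsCoherent S' A τ := by
  obtain ⟨-, τ₁, hτ₁, hag⟩ := h
  exact ⟨hne, τ₁, isLinearIsometryOn_mono hτ₁ (fun f hf => zspan_mono hS' hf),
    fun α hα => hag α (zspanOn_mono hS' hα)⟩

/-- Repeated application of the coherence extension criterion: a coherent conjugation-closed
finite subset `S₀` can be enlarged by a conjugation-closed finite set `T`, provided each new
member satisfies the numerical criterion with respect to `S₀`. -/
theorem coherence_ext_many (S : Set (L → ℂ)) (τ : (L → ℂ) → (G → ℂ))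
    (R : (L → ℂ) → Finset (G → ℂ)) (hS : IsCoherenceSystem S τ R) (d n : (L → ℂ) → ℕ)
    (hd : ∀ φ ∈ S, φ 1 = (d φ : ℂ)) (hn : ∀ φ ∈ S, classInner φ φ = (n φ : ℂ))
    (S₀ T : Finset (L → ℂ)) (hS₀ : ↑S₀ ⊆ S) (hT : ↑T ⊆ S)
    (hS₀c : ∀ φ ∈ S₀, conjFun φ ∈ S₀) (hTc : ∀ φ ∈ T, conjFun φ ∈ T)
    (hcoh : IsCoherent (↑S₀ : Set (L → ℂ)) {1}ᶜ τ)
    (hstep : ∀ χ ∈ T, χ ∉ S₀ → ∃ χ₁ ∈ S₀, d χ₁ ∣ d χ ∧
      (2 * d χ * d χ₁ : ℝ) < ∑ φ ∈ S₀, (d φ : ℝ) ^ 2 / (n φ : ℝ)) :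
    IsCoherent (↑(S₀ ∪ T) : Set (L → ℂ)) {1}ᶜ τ := by
  classical
  suffices H : ∀ k : ℕ, ∀ S₁ : Finset (L → ℂ), (S₀ ∪ T).card - S₁.card = k → S₀ ⊆ S₁ →
      S₁ ⊆ S₀ ∪ T → (∀ φ ∈ S₁, conjFun φ ∈ S₁) → IsCoherent (↑S₁ : Set (L → ℂ)) {1}ᶜ τ →
      IsCoherent (↑(S₀ ∪ T) : Set (L → ℂ)) {1}ᶜ τ from
    H _ S₀ rfl (Finset.Subset.refl _) Finset.subset_union_left hS₀c hcoh
  intro k
  induction k using Nat.strong_induction_on with
  | _ k ih =>
    intro S₁ hk h0 h1 hc hcoh₁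
    by_cases heq : S₁ = S₀ ∪ T
    · rw [← heq]
      exact hcoh₁
    · obtain ⟨χ, hχ, hχ'⟩ : ∃ χ ∈ S₀ ∪ T, χ ∉ S₁ := by
        by_contra hcon
        push Not at hcon
        exact heq (Finset.Subset.antisymm h1 hcon)
      have hχT : χ ∈ T := by
        rcases Finset.mem_union.mp hχ with h | h
        · exact absurd (h0 h) hχ'
        · exact h
      have hχ0 : χ ∉ S₀ := fun h => hχ' (h0 h)
      have hχc : conjFun χ ∉ S₁ := by
        intro h
        have h2 := hc _ h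
        rw [conjFun_conjFun] at h2
        exact hχ' h2
      obtain ⟨χ₁, hχ₁, hdvd, hineq⟩ := hstep χ hχT hχ0
      have hsum : ∑ φ ∈ S₀, (d φ : ℝ) ^ 2 / (n φ : ℝ) ≤ ∑ φ ∈ S₁, (d φ : ℝ) ^ 2 / (n φ : ℝ) :=
        Finset.sum_le_sum_of_subset_of_nonneg h0
          (fun φ _ _ => div_nonneg (sq_nonneg _) (Nat.cast_nonneg _))
      have hS₁S : (↑S₁ : Set (L → ℂ)) ⊆ S := by
        intro φ hφ
        rcases Finset.mem_union.mp (h1 hφ) with h | h
        · exact hS₀ h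
        · exact hT h
      have hnew := coherence_ext S τ R hS d n hd hn S₁ hS₁S hc hcoh₁ χ (hT hχT) hχ' hχc χ₁
        (h0 hχ₁) hdvd (lt_of_lt_of_le hineq hsum)
      obtain ⟨S₂, hS₂⟩ : ∃ S₂ : Finset (L → ℂ), S₂ = insert χ (insert (conjFun χ) S₁) :=
        ⟨_, rfl⟩
      have hmem₂ : ∀ x, x ∈ S₂ ↔ x = χ ∨ x = conjFun χ ∨ x ∈ S₁ := by
        intro x
        rw [hS₂, Finset.mem_insert, Finset.mem_insert]
      have hcoe : (↑S₂ : Set (L → ℂ)) = ↑S₁ ∪ {χ, conjFun χ} := by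
        ext x
        simp only [Finset.mem_coe, hmem₂, Set.mem_union, Set.mem_insert_iff,
          Set.mem_singleton_iff]
        tauto
      rw [← hcoe] at hnew
      have hχcT : conjFun χ ∈ T := hTc χ hχT
      have hsub₂ : S₂ ⊆ S₀ ∪ T := by
        intro x hx
        rcases (hmem₂ x).mp hx with h | h | h
        · rw [h]; exact hχ
        · rw [h]; exact Finset.mem_union_right _ hχcT
        · exact h1 h
      have hcard : S₁.card < S₂.card := by
        apply Finset.card_lt_card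
        refine ⟨fun x hx => (hmem₂ x).mpr (Or.inr (Or.inr hx)), fun h => ?_⟩
        exact hχ' (h ((hmem₂ χ).mpr (Or.inl rfl)))
      have hcard₂ : S₂.card ≤ (S₀ ∪ T).card := Finset.card_le_card hsub₂
      refine ih ((S₀ ∪ T).card - S₂.card) (by omega) S₂ rfl ?_ hsub₂ ?_ hnew
      · intro x hx
        exact (hmem₂ x).mpr (Or.inr (Or.inr (h0 hx)))
      · intro φ hφ
        rcases (hmem₂ φ).mp hφ with h | h | h
        · rw [h]
          exact (hmem₂ _).mpr (Or.inr (Or.inl rfl))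
        · rw [h, conjFun_conjFun]
          exact (hmem₂ _).mpr (Or.inl rfl)
        · exact (hmem₂ _).mpr (Or.inr (Or.inr (hc φ h)))

end CohMany

end Cfsg.Agent.H32
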