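import Mathlib
import Cfsg.Prelude.Def_OddOrderChar
import Cfsg.Agent.H32.CohExt
import Cfsg.Agent.H4.RealClasses
import Cfsg.Agent.H82.IndDeg
import Cfsg.Agent.H78.BrauerFowler

set_option autoImplicit false

namespace Cfsg.Agent.H32

open Cfsg Cfsg.Agent.H4

section Lin

/-- A finite solvable group has a nontrivial linear character trivial on a given proper normal
subgroup. -/
theorem exists_linear_of_solvable {K : Type*} [Group K] [Finite K] [Group.IsSolvable K]
    (X : Subgroup K) [X.Normal] (hX : X ≠ ⊤) :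
    ∃ f : K →* ℂˣ, f ≠ 1 ∧ ∀ x ∈ X, f x = 1 := by
  haveI : Nontrivial (K ⧸ X) := QuotientGroup.nontrivial_iff.mpr hX
  have hlt : commutator (K ⧸ X) < ⊤ := Group.IsSolvable.commutator_lt_top_of_nontrivial (K ⧸ X)
  obtain ⟨q, -, hq⟩ := SetLike.exists_of_lt hlt
  have hq1 : (Abelianization.of q : Abelianization (K ⧸ X)) ≠ 1 := by
    intro h
    apply hq
    exact (QuotientGroup.eq_one_iff q).mp h
  obtain ⟨φ, hφ⟩ :=
    CommGroup.exists_apply_ne_one_of_hasEnoughRootsOfUnity (Abelianization (K ⧸ X)) ℂ hq1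
  refine ⟨(φ.comp Abelianization.of).comp (QuotientGroup.mk' X), ?_, ?_⟩
  · intro h
    obtain ⟨k, rfl⟩ := QuotientGroup.mk_surjective q
    apply hφ
    have := congrArg (fun f : K →* ℂˣ => f k) h
    simpa using this
  · intro x hx
    simp [(QuotientGroup.eq_one_iff x).mpr hx]

end Lin

section Basic

variable {L : Type*} [Group L] [Fintype L] (K : Subgroup L)

theorem inducedIrrAbove_mono {X Y : Subgroup L} (h : X ≤ Y) :
    inducedIrrAbove K Y ⊆ inducedIrrAbove K X := by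
  rintro φ ⟨θ, h1, h2, h3, h4⟩
  exact ⟨θ, h1, h2, fun a ha => h3 a (h ha), h4⟩

theorem inducedIrrAbove_subset_bot (X : Subgroup L) :
    inducedIrrAbove K X ⊆ inducedIrrAbove K ⊥ :=
  inducedIrrAbove_mono K bot_le

theorem conjFun_extendByZero (θ : K → ℂ) :
    conjFun (extendByZero K θ) = extendByZero K (conjFun θ) := by
  funext g
  by_cases hg : g ∈ K
  · show (starRingEnd ℂ) (extendByZero K θ g) = extendByZero K (conjFun θ) g
    rw [extendByZero_of_mem K θ hg, extendByZero_of_mem K _ hg]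
    rfl
  · show (starRingEnd ℂ) (extendByZero K θ g) = extendByZero K (conjFun θ) g
    rw [extendByZero_of_not_mem K θ hg, extendByZero_of_not_mem K _ hg, map_zero]

theorem conjFun_indFun (θ : K → ℂ) : conjFun (indFun K θ) = indFun K (conjFun θ) := by
  funext g
  simp only [conjFun]
  rw [indFun_apply, indFun_apply, map_mul, map_inv₀, Complex.conj_natCast, map_sum]
  congr 1
  apply Finset.sum_congr rfl
  intro x _
  have := congrFun (conjFun_extendByZero K θ) (x⁻¹ * g * x)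
  simp only [conjFun] at this
  exact this

theorem inducedIrrAbove_conj {X : Subgroup L} {φ : L → ℂ} (h : φ ∈ inducedIrrAbove K X) :
    conjFun φ ∈ inducedIrrAbove K X := by
  obtain ⟨θ, h1, h2, h3, rfl⟩ := h
  refine ⟨conjFun θ, isIrrCharacter_conj h1, ?_, ?_, conjFun_indFun K θ⟩
  · intro hc
    apply h2
    funext k
    have := congrFun hc k
    simp only [conjFun] at this
    have h5 := congrArg (starRingEnd ℂ) this
    simpa using h5
  · intro a ha
    simp only [conjFun]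
    rw [h3 a ha]

end Basic

section SumBound

attribute [local instance] Cfsg.Agent.H4.fintypeIrr

open Classical in
/-- The squares of the degrees of the irreducible characters with a normal subgroup `N` in their
kernel sum to the index of `N`. -/
theorem sum_sq_kernel {K : Type*} [Group K] [Finite K] (N : Subgroup K) [N.Normal]
    (s : Finset (IrrCharacter K)) (hs : ∀ θ : IrrCharacter K, θ ∈ s ↔ ∀ x ∈ N, θ.1 x = θ.1 1) :
    ∑ θ ∈ s, (θ.1 1) ^ 2 = (N.index : ℂ) := by
  rw [Finset.sum_subtype (p := fun θ : IrrCharacter K => ∀ x ∈ N, θ.1 x = θ.1 1) s hs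
    (fun θ => (θ.1 1) ^ 2)]
  rw [← Equiv.sum_comp (Cfsg.Agent.H82.inflateEquiv N)]
  have h1 : ∀ χ : IrrCharacter (K ⧸ N),
      (((Cfsg.Agent.H82.inflateEquiv N χ).1 : IrrCharacter K).1 1) ^ 2 = (χ.1 1) ^ 2 := by
    intro χ
    rw [Cfsg.Agent.H82.inflateEquiv_apply, Cfsg.Agent.H82.inflate_apply, QuotientGroup.mk_one]
  rw [Finset.sum_congr rfl (fun χ _ => h1 χ), ← finsum_irr_eq_sum, sum_irr_sq]
  rfl

open Classical in
/-- Lower bound for the weighted sum of squared degrees over the characters induced from the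
non-principal irreducible characters of `K` whose kernel contains `A`. -/
theorem sum_sq_ge {L : Type*} [Group L] [Fintype L] (K : Subgroup L) [K.Normal]
    (d n : (L → ℂ) → ℕ) (A : Subgroup L) [A.Normal] (SA : Finset (L → ℂ))
    (hSA : ∀ φ, φ ∈ SA ↔ φ ∈ inducedIrrAbove K A) (hd : ∀ φ ∈ SA, φ 1 = (d φ : ℂ))
    (hn : ∀ φ ∈ SA, classInner φ φ = (n φ : ℂ)) :
    (K.index : ℝ) * ((A.relIndex K : ℝ) - 1) ≤ ∑ φ ∈ SA, (d φ : ℝ) ^ 2 / (n φ : ℝ) := by
  haveI : Fintype K := Fintype.ofFinite K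
  obtain ⟨Θ, hΘ⟩ : ∃ Θ : Finset (IrrCharacter K), Θ = Finset.univ.filter
      (fun θ : IrrCharacter K => θ.1 ≠ (fun _ => 1) ∧ ∀ a : K, (a : L) ∈ A → θ.1 a = θ.1 1) :=
    ⟨_, rfl⟩
  have hmemΘ : ∀ θ : IrrCharacter K, θ ∈ Θ ↔
      (θ.1 ≠ (fun _ => 1) ∧ ∀ a : K, (a : L) ∈ A → θ.1 a = θ.1 1) := by
    intro θ
    rw [hΘ]
    simp
  have hS2 : ∑ θ ∈ Θ, (Cfsg.charDegree θ.1 : ℝ) ^ 2 = (A.relIndex K : ℝ) - 1 := by
    have htriv : trivialIrr K ∉ Θ := by
      rw [hmemΘ]
      intro h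
      exact h.1 rfl
    have h1 := sum_sq_kernel (A.subgroupOf K) (insert (trivialIrr K) Θ) (by
      intro θ
      rw [Finset.mem_insert, hmemΘ]
      constructor
      · rintro (h | ⟨-, h⟩)
        · intro x _
          rw [h]
          rfl
        · intro x hx
          exact h x (Subgroup.mem_subgroupOf.mp hx)
      · intro h
        by_cases h3 : θ = trivialIrr K
        · exact Or.inl h3
        · right
          refine ⟨fun h4 => h3 (Subtype.ext h4), fun a ha => h a (Subgroup.mem_subgroupOf.mpr ha)⟩)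
    rw [Finset.sum_insert htriv] at h1
    have h6 : ((∑ θ ∈ Θ, Cfsg.charDegree θ.1 ^ 2 + 1 : ℕ) : ℂ) = ((A.relIndex K : ℕ) : ℂ) := by
      have h7 : ((A.subgroupOf K).index : ℂ) = ((A.relIndex K : ℕ) : ℂ) := rfl
      have h8 : ((trivialIrr K).1 1 : ℂ) = 1 := rfl
      have h10 : ∀ θ ∈ Θ, (θ.1 1) ^ 2 = ((Cfsg.charDegree θ.1 : ℕ) : ℂ) ^ 2 := by
        intro θ _
        rw [Cfsg.Agent.H82.irr_one_eq_charDegree]
      rw [Finset.sum_congr rfl h10, h8, h7] at h1
      rw [← h1]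
      push_cast
      ring
    have h9 : ∑ θ ∈ Θ, Cfsg.charDegree θ.1 ^ 2 + 1 = A.relIndex K := by exact_mod_cast h6
    rw [← h9]
    push_cast
    ring
  have hS1 : ∀ θ ∈ Θ, indFun K θ.1 ∈ SA := by
    intro θ hθ
    rw [hSA]
    rw [hmemΘ] at hθ
    exact ⟨θ.1, θ.2, hθ.1, hθ.2, rfl⟩
  have hS3 : ∀ φ ∈ SA, (K.index : ℝ) * ∑ θ ∈ Θ.filter (fun θ => indFun K θ.1 = φ),
      (Cfsg.charDegree θ.1 : ℝ) ^ 2 ≤ (d φ : ℝ) ^ 2 / (n φ : ℝ) := by
    intro φ hφ
    obtain ⟨θ₀, hθ₀irr, hθ₀ne, hθ₀ker, hφeq⟩ := (hSA φ).mp hφ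
    have hφchar : IsCharacter L φ := by
      rw [hφeq]
      exact isCharacter_indFun K θ₀ (isCharacter_of_isIrrCharacter hθ₀irr)
    have hres : IsCharacter K (fun k : K => φ k) := isCharacter_restrict K hφchar
    obtain ⟨m, hm⟩ := isCharacter_iff.mp hres
    have hdeg : d φ = ∑ ν : IrrCharacter K, m ν * Cfsg.charDegree ν.1 := by
      have h1 : (fun k : K => φ k) 1 = ((∑ ν : IrrCharacter K, m ν * Cfsg.charDegree ν.1 : ℕ) : ℂ) := by
        rw [hm]
        exact Cfsg.Agent.H82.finsum_irr_one m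
      have h2 : (fun k : K => φ k) 1 = (d φ : ℂ) := by
        rw [← hd φ hφ]
        rfl
      rw [h2] at h1
      exact_mod_cast h1
    have hind : ∀ θ : IrrCharacter K, indFun K θ.1 = φ →
        n φ = m θ ∧ K.index * Cfsg.charDegree θ.1 = d φ := by
      intro θ hθ
      constructor
      · have h1 : classInner (fun k : K => φ k) θ.1 = (m θ : ℂ) := by
          rw [hm]
          exact classInner_finsum_irr (fun ν => (m ν : ℂ)) θ
        have h2 := frobenius_reciprocity K θ.1 φ (isClassFunction_of_isCharacter hφchar)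
        rw [hθ, hn φ hφ, ← classInner_conj_symm, h1] at h2
        have h3 : ((n φ : ℕ) : ℂ) = ((m θ : ℕ) : ℂ) := by
          rw [h2]
          simp
        exact_mod_cast h3
      · have h1 : indFun K θ.1 1 = (K.index : ℂ) * θ.1 1 := Cfsg.Agent.H82.indFun_one K θ.1
        rw [hθ, hd φ hφ, Cfsg.Agent.H82.irr_one_eq_charDegree] at h1
        exact_mod_cast h1.symm
    have hdpos : 0 < d φ := by
      obtain ⟨-, h1⟩ := hind ⟨θ₀, hθ₀irr⟩ hφeq.symm
      rw [← h1]
      have h2 : 0 < K.index := Nat.pos_of_ne_zero Subgroup.index_ne_zero_of_finite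
      exact Nat.mul_pos h2 (Cfsg.Agent.H82.charDegree_pos _)
    have hnpos : 0 < n φ := by
      rcases Nat.eq_zero_or_pos (n φ) with h | h
      · exfalso
        have h1 : φ = 0 := by
          apply classInner_self_eq_zero
          rw [hn φ hφ, h]
          simp
        have h2 := hd φ hφ
        have h3 : (d φ : ℂ) = 0 := by
          rw [← h2, h1]
          rfl
        have h4 : d φ = 0 := by exact_mod_cast h3
        omega
      · exact h
    have hsum : n φ * ∑ θ ∈ Θ.filter (fun θ => indFun K θ.1 = φ), Cfsg.charDegree θ.1 ≤ d φ := by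
      rw [hdeg, Finset.mul_sum]
      calc ∑ θ ∈ Θ.filter (fun θ => indFun K θ.1 = φ), n φ * Cfsg.charDegree θ.1
          = ∑ θ ∈ Θ.filter (fun θ => indFun K θ.1 = φ), m θ * Cfsg.charDegree θ.1 := by
            apply Finset.sum_congr rfl
            intro θ hθ
            rw [(hind θ (Finset.mem_filter.mp hθ).2).1]
        _ ≤ ∑ ν : IrrCharacter K, m ν * Cfsg.charDegree ν.1 :=
            Finset.sum_le_sum_of_subset (Finset.subset_univ _)
    have hnat : K.index * (∑ θ ∈ Θ.filter (fun θ => indFun K θ.1 = φ),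
        Cfsg.charDegree θ.1 ^ 2) * n φ ≤ d φ ^ 2 := by
      have h1 : K.index * (∑ θ ∈ Θ.filter (fun θ => indFun K θ.1 = φ),
          Cfsg.charDegree θ.1 ^ 2) =
          d φ * ∑ θ ∈ Θ.filter (fun θ => indFun K θ.1 = φ), Cfsg.charDegree θ.1 := by
        rw [Finset.mul_sum, Finset.mul_sum]
        apply Finset.sum_congr rfl
        intro θ hθ
        rw [← (hind θ (Finset.mem_filter.mp hθ).2).2]
        ring
      rw [h1]
      calc d φ * (∑ θ ∈ Θ.filter (fun θ => indFun K θ.1 = φ), Cfsg.charDegree θ.1) * n φ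
          = d φ * (n φ * ∑ θ ∈ Θ.filter (fun θ => indFun K θ.1 = φ), Cfsg.charDegree θ.1) := by
            ring
        _ ≤ d φ * d φ := Nat.mul_le_mul_left _ hsum
        _ = d φ ^ 2 := by ring
    have hnposR : (0 : ℝ) < n φ := by exact_mod_cast hnpos
    rw [le_div_iff₀ hnposR]
    exact_mod_cast hnat
  calc (K.index : ℝ) * ((A.relIndex K : ℝ) - 1)
      = (K.index : ℝ) * ∑ θ ∈ Θ, (Cfsg.charDegree θ.1 : ℝ) ^ 2 := by rw [hS2]
    _ = (K.index : ℝ) * ∑ φ ∈ SA, ∑ θ ∈ Θ.filter (fun θ => indFun K θ.1 = φ),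
          (Cfsg.charDegree θ.1 : ℝ) ^ 2 := by
        rw [Finset.sum_fiberwise_of_maps_to hS1]
    _ = ∑ φ ∈ SA, (K.index : ℝ) * ∑ θ ∈ Θ.filter (fun θ => indFun K θ.1 = φ),
          (Cfsg.charDegree θ.1 : ℝ) ^ 2 := Finset.mul_sum _ _ _
    _ ≤ ∑ φ ∈ SA, (d φ : ℝ) ^ 2 / (n φ : ℝ) := Finset.sum_le_sum hS3

end SumBound

end Cfsg.Agent.H32
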