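import Mathlib
import Cfsg.Prelude.Def_OddOrderChar
import Cfsg.Agent.H32.IndIrr
import Cfsg.Agent.H32.CohMany
import Cfsg.Agent.S1492
import Cfsg.Agent.S1517

set_option autoImplicit false

namespace Cfsg.Agent.H32

open Cfsg Cfsg.Agent.H4

open scoped commutatorElement

section Frob66

variable {L : Type*} [Group L] [Fintype L] {G : Type*} [Group G] [Fintype G]

/-- A conjugation-closed nonempty subset of a coherence system is a coherence system. -/
theorem cs_subset {S S' : Set (L → ℂ)} {τ : (L → ℂ) → (G → ℂ)} {R : (L → ℂ) → Finset (G → ℂ)}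
    (hS : IsCoherenceSystem S τ R) (hsub : S' ⊆ S) (hne : S'.Nonempty)
    (hconj : ∀ χ ∈ S', conjFun χ ∈ S') : IsCoherenceSystem S' τ R where
  nonempty := hne
  isCharacter := fun χ hχ => hS.isCharacter χ (hsub hχ)
  conj_mem := hconj
  conj_ne := fun χ hχ => hS.conj_ne χ (hsub hχ)
  isometry := isLinearIsometryOn_mono hS.isometry (fun _ hf => zspanOn_mono hsub hf)
  map_one := fun α hα => hS.map_one α (zspanOn_mono hsub hα)
  orthogonal := fun χ hχ φ hφ h => hS.orthogonal χ (hsub hχ) φ (hsub hφ) h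
  orthonormal := fun χ hχ => hS.orthonormal χ (hsub hχ)
  virtual := fun χ hχ => hS.virtual χ (hsub hχ)
  sum_eq := fun χ hχ => hS.sum_eq χ (hsub hχ)
  disjoint := fun χ hχ φ hφ => hS.disjoint χ (hsub hχ) φ (hsub hφ)

/-- For `X` normal and proper in the solvable group `K`, some linear character of `K`
trivial on `X` is non-principal, and it induces a member of `S(X)` of degree `[L:K]`. -/
theorem exists_linear_induced (K : Subgroup L) [Group.IsSolvable K] (X : Subgroup L)
    [X.Normal] (hXK : X < K) : ∃ χ₁ ∈ inducedIrrAbove K X, χ₁ 1 = (K.index : ℂ) := by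
  classical
  have hX'ne : X.subgroupOf K ≠ ⊤ := by
    intro h
    rw [Subgroup.subgroupOf_eq_top] at h
    exact (not_le_of_gt hXK) h
  obtain ⟨f, hf1, hfX⟩ := exists_linear_of_solvable (X.subgroupOf K) hX'ne
  refine ⟨indFun K (Cfsg.Agent.H82.linChar f).1,
    ⟨(Cfsg.Agent.H82.linChar f).1, (Cfsg.Agent.H82.linChar f).2, ?_, ?_, rfl⟩, ?_⟩
  · intro h
    apply hf1
    ext k
    have := congrFun h k
    rw [Cfsg.Agent.H82.linChar_apply] at this
    simpa using this
  · intro a ha
    rw [Cfsg.Agent.H82.linChar_apply, Cfsg.Agent.H82.linChar_apply,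
      hfX a (Subgroup.mem_subgroupOf.mpr ha), map_one]
  · rw [Cfsg.Agent.H82.indFun_one, Cfsg.Agent.H82.linChar_one, mul_one]

/-- Members of `S(X)` have degree `[L:K]` when `K/X` is abelian. -/
theorem deg_eq_index_of_comm_le (K : Subgroup L) (X : Subgroup L) [X.Normal]
    (hX : ⁅K, K⁆ ≤ X) {φ : L → ℂ} (hφ : φ ∈ inducedIrrAbove K X) : φ 1 = (K.index : ℂ) := by
  classical
  obtain ⟨θ, hθirr, -, hθker, rfl⟩ := hφ
  have hθ1c : θ 1 = (Cfsg.charDegree θ : ℂ) :=
    Cfsg.Agent.H82.irr_one_eq_charDegree (⟨θ, hθirr⟩ : IrrCharacter K)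
  have hpos : 0 < Cfsg.charDegree θ :=
    Cfsg.Agent.H82.charDegree_pos (⟨θ, hθirr⟩ : IrrCharacter K)
  have h92 := Cfsg.Agent.S1492.result θ hθirr (X.subgroupOf K) ⊤ ⊤ le_top le_rfl
    (fun c _ b hb => by
      rw [Subgroup.mem_subgroupOf] at hb ⊢
      have := (inferInstance : X.Normal).conj_mem (b : L) hb (c : L)
      simpa using this)
    (fun d _ c _ => by
      rw [Subgroup.mem_subgroupOf]
      have h : ⁅(d : L), (c : L)⁆ ∈ ⁅K, K⁆ := Subgroup.commutator_mem_commutator d.2 c.2
      rw [commutatorElement_def] at h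
      have := hX h
      simpa using this)
    (fun b hb => hθker b (Subgroup.mem_subgroupOf.mp hb))
  have hθ1 : ‖θ 1‖ = (Cfsg.charDegree θ : ℝ) := by
    rw [hθ1c]
    simp
  rw [hθ1, Subgroup.card_top] at h92
  have hK : (0 : ℝ) < (Nat.card K : ℝ) := by exact_mod_cast Nat.card_pos
  have h1 : (Cfsg.charDegree θ : ℝ) ^ 2 ≤ 1 := by
    have h2 : (Cfsg.charDegree θ : ℝ) ^ 2 * (Nat.card K : ℝ) ^ 2 ≤ 1 * (Nat.card K : ℝ) ^ 2 := by
      calc (Cfsg.charDegree θ : ℝ) ^ 2 * (Nat.card K : ℝ) ^ 2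
          = (Cfsg.charDegree θ : ℝ) ^ 2 * (Nat.card K : ℝ) * (Nat.card K : ℝ) := by ring
        _ ≤ (Nat.card K : ℝ) ^ 2 := h92
        _ = 1 * (Nat.card K : ℝ) ^ 2 := (one_mul _).symm
    exact le_of_mul_le_mul_right h2 (by positivity)
  have h3 : Cfsg.charDegree θ ^ 2 ≤ 1 := by exact_mod_cast h1
  have h4 : Cfsg.charDegree θ = 1 := by nlinarith
  rw [Cfsg.Agent.H82.indFun_one, hθ1c, h4]
  simp

/-- `S(X)` is coherent when `K/X` is abelian (all degrees are equal). -/
theorem coh_base (K : Subgroup L) [Group.IsSolvable K] (τ : (L → ℂ) → (G → ℂ))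
    (R : (L → ℂ) → Finset (G → ℂ)) (hS : IsCoherenceSystem (inducedIrrAbove K ⊥) τ R)
    (X : Subgroup L) [X.Normal] (hXK : X < K) (hX : ⁅K, K⁆ ≤ X) :
    IsCoherent (inducedIrrAbove K X) {1}ᶜ τ := by
  obtain ⟨χ₁, hχ₁, -⟩ := exists_linear_induced K X hXK
  exact Cfsg.Agent.S1517.result (inducedIrrAbove K X) τ R
    (cs_subset hS (inducedIrrAbove_subset_bot K X) ⟨χ₁, hχ₁⟩
      (fun χ hχ => inducedIrrAbove_conj K hχ))
    (fun φ hφ ψ hψ => by
      rw [deg_eq_index_of_comm_le K X hX hφ, deg_eq_index_of_comm_le K X hX hψ])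

end Frob66

/-- If a finite set `T` is invariant under a group action and every point of `T` has a
stabilizer of index `e`, then `e` divides `|T|`. -/
theorem card_dvd_of_stabilizer_index {Γ X : Type*} [Group Γ] [MulAction Γ X]
    (e : ℕ) (T : Finset X) (hinv : ∀ g : Γ, ∀ x ∈ T, g • x ∈ T)
    (hstab : ∀ x ∈ T, (MulAction.stabilizer Γ x).index = e) : e ∣ T.card := by
  classical
  induction hk : T.card using Nat.strong_induction_on generalizing T with
  | _ k ih =>
    rcases Finset.eq_empty_or_nonempty T with h0 | ⟨x, hx⟩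
    · rw [← hk, h0, Finset.card_empty]
      exact dvd_zero _
    · have horb : ∀ y ∈ MulAction.orbit Γ x, y ∈ T := by
        rintro y ⟨g, rfl⟩
        exact hinv g x hx
      have hO : (T.filter (fun y => y ∈ MulAction.orbit Γ x)).card = e := by
        rw [← hstab x hx, MulAction.index_stabilizer, ← Set.ncard_coe_finset]
        congr 1
        ext y
        simp only [Finset.coe_filter, Set.mem_setOf_eq]
        exact ⟨fun h => h.2, fun h => ⟨horb y h, h⟩⟩
      have hsplit := Finset.card_filter_add_card_filter_not (s := T)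
        (fun y => y ∈ MulAction.orbit Γ x)
      have hxO : x ∈ T.filter (fun y => y ∈ MulAction.orbit Γ x) :=
        Finset.mem_filter.mpr ⟨hx, MulAction.mem_orbit_self x⟩
      have hpos : 0 < (T.filter (fun y => y ∈ MulAction.orbit Γ x)).card :=
        Finset.card_pos.mpr ⟨x, hxO⟩
      have hrest := ih (T.filter (fun y => y ∉ MulAction.orbit Γ x)).card (by omega)
        (T.filter (fun y => y ∉ MulAction.orbit Γ x))
        (by
          intro g y hy
          rw [Finset.mem_filter] at hy ⊢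
          refine ⟨hinv g y hy.1, fun h => hy.2 ?_⟩
          obtain ⟨a, ha⟩ := h
          refine ⟨g⁻¹ * a, ?_⟩
          show (g⁻¹ * a) • x = y
          rw [mul_smul]
          have : a • x = g • y := ha
          rw [this, inv_smul_smul])
        (fun y hy => hstab y (Finset.mem_filter.mp hy).1) rfl
      rw [← hk, ← hsplit, hO]
      exact Dvd.dvd.add (dvd_refl e) hrest

end Cfsg.Agent.H32
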