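import Mathlib
import Cfsg.Prelude.Def_Characters
import Cfsg.Agent.H4.Induction
import Cfsg.Agent.Lib.Clifford

set_option autoImplicit false

namespace Cfsg.Agent.H32

open Cfsg Cfsg.Agent.H4 Cfsg.Agent.Clifford

universe u

/-- Induction from equal subgroups. -/
theorem indFun_congr_subgroup {X : Type u} [Group X] [Fintype X] (A B : Subgroup X) (h : A = B)
    (f : A → ℂ) (g : B → ℂ) (hfg : ∀ (x : X) (hx : x ∈ A), f ⟨x, hx⟩ = g ⟨x, h ▸ hx⟩) :
    indFun A f = indFun B g := by
  subst h
  congr 1
  funext x
  exact hfg x.1 x.2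

/-- Induction in stages through a subgroup `T`, for a subgroup of the group `T`. -/
theorem indFun_map_subtype {G : Type u} [Group G] [Fintype G] (T : Subgroup G) [Fintype T]
    (H' : Subgroup T) (ψ' : H' → ℂ) :
    indFun T (indFun H' ψ') = indFun (H'.map T.subtype)
      (fun x => ψ' ((Subgroup.equivMapOfInjective H' T.subtype T.subtype_injective).symm x)) := by
  have hHT : H'.map T.subtype ≤ T := Subgroup.map_subtype_le H'
  rw [← indFun_trans (H'.map T.subtype) T hHT]
  congr 1
  have h : (H'.map T.subtype).subgroupOf T = H' :=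
    Subgroup.comap_map_eq_self_of_injective T.subtype_injective H'
  symm
  apply indFun_congr_subgroup _ _ h
  intro x hx
  refine congrArg ψ' ?_
  rw [MulEquiv.symm_apply_eq]
  apply Subtype.ext
  rw [Subgroup.coe_equivMapOfInjective_apply]
  rfl

end Cfsg.Agent.H32
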