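import Mathlib
import Cfsg.Prelude.Def_Characters
import Cfsg.Agent.H32.SubInd
import Cfsg.Agent.H32.Frob66
import Cfsg.Agent.H4.BrauerBasic
import Cfsg.Agent.Lib.CliffordCorr
import Cfsg.Agent.H4.TwoTrans
import Cfsg.Agent.H82.CanonExt
import Cfsg.Agent.H82.CosetAvg
import Cfsg.Agent.S1492

set_option autoImplicit false

namespace Cfsg.Agent.H32

open Cfsg Cfsg.Agent.H4 Cfsg.Agent.Clifford
open scoped ComplexConjugate commutatorElement

universe u

open scoped IsMulCommutative in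
/-- Taunt: in a finite group with abelian Sylow subgroups, the centre meets the commutator
subgroup trivially. -/
theorem center_inf_commutator_of_abelian_sylow {Q : Type u} [Group Q] [Finite Q]
    (hab : ∀ (p : ℕ) [Fact p.Prime] (P : Sylow p Q), ∀ a ∈ P, ∀ b ∈ P, a * b = b * a) :
    Subgroup.center Q ⊓ commutator Q = ⊥ := by
  rw [eq_bot_iff]
  intro z hz
  rw [Subgroup.mem_bot]
  by_contra hz1
  obtain ⟨hzc, hzd⟩ := Subgroup.mem_inf.mp hz
  have ho : orderOf z ≠ 1 := by rwa [Ne, orderOf_eq_one_iff]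
  obtain ⟨p, hp, hpd⟩ := Nat.exists_prime_and_dvd ho
  haveI : Fact p.Prime := ⟨hp⟩
  obtain ⟨w, hw⟩ : ∃ w : Q, w = z ^ (orderOf z / p) := ⟨_, rfl⟩
  have hwo : orderOf w = p := by
    rw [hw]
    exact orderOf_pow_orderOf_div (orderOf_pos z).ne' hpd
  have hwc : w ∈ Subgroup.center Q := by
    rw [hw]
    exact Subgroup.pow_mem _ hzc _
  have hwd : w ∈ commutator Q := by
    rw [hw]
    exact Subgroup.pow_mem _ hzd _
  have hpg : IsPGroup p (Subgroup.zpowers w) :=
    IsPGroup.of_card (n := 1) (by rw [Nat.card_zpowers, hwo, pow_one])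
  obtain ⟨P, hP⟩ := hpg.exists_le_sylow
  have hwP : w ∈ P := hP (Subgroup.mem_zpowers w)
  haveI : IsMulCommutative P := ⟨⟨fun a b => Subtype.ext (hab p P a a.2 b b.2)⟩⟩
  have key : ∀ (k : ℕ) (g₀ : Q), g₀⁻¹ * w ^ k * g₀ ∈ (P : Subgroup Q) →
      g₀⁻¹ * w ^ k * g₀ = w ^ k := by
    intro k g₀ _
    have h := Subgroup.mem_center_iff.mp (Subgroup.pow_mem _ hwc k) g₀
    rw [mul_assoc, ← h, inv_mul_cancel_left]
  have h1 := MonoidHom.transfer_eq_pow (MonoidHom.id P) w key
  have h2 : MonoidHom.transfer (MonoidHom.id P) w = 1 :=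
    MonoidHom.mem_ker.mp (Abelianization.commutator_subset_ker _ hwd)
  rw [h2] at h1
  have h3 : w ^ (P : Subgroup Q).index = 1 := by
    have h := congrArg Subtype.val h1
    simpa using h.symm
  have h4 : p ∣ (P : Subgroup Q).index := by
    have h5 := orderOf_dvd_of_pow_eq_one h3
    rw [hwo] at h5
    exact h5
  exact P.not_dvd_index h4

/-- Injective images: abelian Sylow subgroups pass to subgroups. -/
theorem abelian_sylow_of_injective {A B : Type u} [Group A] [Group B] (f : A →* B)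
    (hf : Function.Injective f)
    (hab : ∀ (p : ℕ) [Fact p.Prime] (P : Sylow p B), ∀ a ∈ P, ∀ b ∈ P, a * b = b * a) :
    ∀ (p : ℕ) [Fact p.Prime] (P : Sylow p A), ∀ a ∈ P, ∀ b ∈ P, a * b = b * a := by
  intro p _ P a ha b hb
  have hpg : IsPGroup p ((P : Subgroup A).map f) := P.isPGroup'.map f
  obtain ⟨Q, hQ⟩ := hpg.exists_le_sylow
  apply hf
  rw [map_mul, map_mul]
  exact hab p Q (f a) (hQ (Subgroup.mem_map_of_mem f ha)) (f b)
    (hQ (Subgroup.mem_map_of_mem f hb))

/-- Surjective images: abelian Sylow subgroups pass to quotients. -/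
theorem abelian_sylow_of_surjective {A B : Type u} [Group A] [Group B] [Finite A] (f : A →* B)
    (hf : Function.Surjective f)
    (hab : ∀ (p : ℕ) [Fact p.Prime] (P : Sylow p A), ∀ a ∈ P, ∀ b ∈ P, a * b = b * a) :
    ∀ (p : ℕ) [Fact p.Prime] (P : Sylow p B), ∀ a ∈ P, ∀ b ∈ P, a * b = b * a := by
  intro p _ P a ha b hb
  obtain ⟨Q, rfl⟩ := Sylow.mapSurjective_surjective hf p P
  have ha' : a ∈ (Q : Subgroup A).map f := ha
  have hb' : b ∈ (Q : Subgroup A).map f := hb
  obtain ⟨a₀, ha₀, rfl⟩ := Subgroup.mem_map.mp ha'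
  obtain ⟨b₀, hb₀, rfl⟩ := Subgroup.mem_map.mp hb'
  rw [← map_mul, ← map_mul, hab p Q a₀ ha₀ b₀ hb₀]

/-- An irreducible character whose kernel contains all commutators is linear. -/
theorem irr_linear_of_comm_ker {X : Type u} [Group X] [Finite X] {θ : X → ℂ}
    (hθ : IsIrrCharacter X θ) (h : ∀ x y : X, θ (x * y * x⁻¹ * y⁻¹) = θ 1) : θ 1 = 1 := by
  classical
  have hθ1c : θ 1 = (Cfsg.charDegree θ : ℂ) :=
    Cfsg.Agent.H82.irr_one_eq_charDegree (⟨θ, hθ⟩ : IrrCharacter X)
  have hpos : 0 < Cfsg.charDegree θ :=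
    Cfsg.Agent.H82.charDegree_pos (⟨θ, hθ⟩ : IrrCharacter X)
  have h92 := Cfsg.Agent.S1492.result θ hθ (Cfsg.Agent.H82.irrKer ⟨θ, hθ⟩) ⊤ ⊤ le_top le_rfl
    (fun c _ b hb =>
      (inferInstance : (Cfsg.Agent.H82.irrKer (⟨θ, hθ⟩ : IrrCharacter X)).Normal).conj_mem b hb c)
    (fun d _ c _ => (Cfsg.Agent.H82.mem_irrKer (⟨θ, hθ⟩ : IrrCharacter X) _).mpr (h d c))
    (fun b hb => (Cfsg.Agent.H82.mem_irrKer (⟨θ, hθ⟩ : IrrCharacter X) _).mp hb)
  have hθ1 : ‖θ 1‖ = (Cfsg.charDegree θ : ℝ) := by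
    rw [hθ1c]
    simp
  rw [hθ1, Subgroup.card_top] at h92
  have hK : (0 : ℝ) < (Nat.card X : ℝ) := by exact_mod_cast Nat.card_pos
  have h1 : (Cfsg.charDegree θ : ℝ) ^ 2 ≤ 1 := by
    have h2 : (Cfsg.charDegree θ : ℝ) ^ 2 * (Nat.card X : ℝ) ^ 2 ≤ 1 * (Nat.card X : ℝ) ^ 2 := by
      calc (Cfsg.charDegree θ : ℝ) ^ 2 * (Nat.card X : ℝ) ^ 2
          = (Cfsg.charDegree θ : ℝ) ^ 2 * (Nat.card X : ℝ) * (Nat.card X : ℝ) := by ring
        _ ≤ (Nat.card X : ℝ) ^ 2 := h92
        _ = 1 * (Nat.card X : ℝ) ^ 2 := (one_mul _).symm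
    exact le_of_mul_le_mul_right h2 (by positivity)
  have h3 : Cfsg.charDegree θ ^ 2 ≤ 1 := by exact_mod_cast h1
  have h4 : Cfsg.charDegree θ = 1 := by nlinarith
  rw [hθ1c, h4]
  simp

/-- If `ψ = Ind_T^G η` is irreducible and restricts irreducibly to `N`, then `η` restricts
irreducibly to `N ∩ T`. -/
theorem irr_res_of_ind_of_irr_res {G : Type u} [Group G] [Fintype G] (N : Subgroup G)
    (T : Subgroup G) [Fintype T] {η : T → ℂ} (hη : IsIrrCharacter T η)
    (hψ : IsIrrCharacter G (indFun T η))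
    (hψN : IsIrrCharacter N (fun n : N => indFun T η n)) :
    IsIrrCharacter (N.subgroupOf T) (fun m : N.subgroupOf T => η m) := by
  classical
  obtain ⟨ψ, hψdef⟩ : ∃ ψ : G → ℂ, ψ = indFun T η := ⟨_, rfl⟩
  rw [← hψdef] at hψ hψN
  haveI : Fintype N := Fintype.ofFinite N
  haveI : Fintype (N.subgroupOf T) := Fintype.ofFinite _
  haveI : Fintype (T.subgroupOf N) := Fintype.ofFinite _
  have hψchar := isCharacter_of_isIrrCharacter hψ
  have hψclass : IsClassFunction G ψ := isClassFunction_of_isCharacter hψchar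
  have hηchar := isCharacter_of_isIrrCharacter hη
  -- `η` is a constituent of `ψ|T`
  have h1 : classInner (fun t : T => ψ t) η ≠ 0 := by
    have hfr := frobenius_reciprocity T η ψ hψclass
    rw [← hψdef, classInner_irr_irr hψ hψ, if_pos rfl] at hfr
    rw [← classInner_conj_symm, ← hfr]
    simp
  have hR : IsCharacter T ((fun t : T => ψ t) - η) :=
    isCharacter_sub_irr (isCharacter_restrict T hψchar) ⟨η, hη⟩ h1
  -- a constituent `φ` of the restriction of `η`
  obtain ⟨φ, hφ, hφη⟩ := Cfsg.Agent.H82.exists_constituent_res' (N.subgroupOf T) hη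
  have hφψ : classInner (fun m : N.subgroupOf T => ψ ((m : T) : G)) φ ≠ 0 := by
    have hsplit : (fun m : N.subgroupOf T => ψ ((m : T) : G)) =
        (fun m : N.subgroupOf T => η m) +
          (fun m : N.subgroupOf T => ((fun t : T => ψ t) - η) m) := by
      funext m
      simp
    rw [hsplit, classInner_add_left]
    obtain ⟨a, ha⟩ := classInner_isCharacter_nat
      (isCharacter_restrict (N.subgroupOf T) hηchar) (isCharacter_of_isIrrCharacter hφ)
    obtain ⟨b, hb⟩ := classInner_isCharacter_nat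
      (isCharacter_restrict (N.subgroupOf T) hR) (isCharacter_of_isIrrCharacter hφ)
    rw [ha] at hφη
    rw [ha, hb]
    have ha0 : a ≠ 0 := by exact_mod_cast hφη
    have hab0 : a + b ≠ 0 := by omega
    exact_mod_cast hab0
  -- transport to `T.subgroupOf N`
  let e : T.subgroupOf N ≃* N.subgroupOf T :=
    { toFun := fun x => ⟨⟨((x : N) : G), Subgroup.mem_subgroupOf.mp x.2⟩,
        Subgroup.mem_subgroupOf.mpr (x : N).2⟩
      invFun := fun y => ⟨⟨((y : T) : G), Subgroup.mem_subgroupOf.mp y.2⟩,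
        Subgroup.mem_subgroupOf.mpr (y : T).2⟩
      left_inv := fun x => rfl
      right_inv := fun y => rfl
      map_mul' := fun x y => rfl }
  obtain ⟨φ', hφ'def⟩ : ∃ φ' : T.subgroupOf N → ℂ, φ' = fun x => φ (e x) := ⟨_, rfl⟩
  have hφ' : IsIrrCharacter (T.subgroupOf N) φ' := by
    rw [hφ'def]
    exact isIrrCharacter_comp_equiv e hφ
  have h2 : classInner (fun x : T.subgroupOf N => (fun n : N => ψ n) x) φ' ≠ 0 := by
    have h3 := classInner_comp_equiv e (fun m : N.subgroupOf T => ψ ((m : T) : G)) φ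
    rw [hφ'def]
    intro h0
    apply hφψ
    rw [← h3]
    exact h0
  have h4 : classInner (indFun (T.subgroupOf N) φ') (fun n : N => ψ n) ≠ 0 := by
    rw [frobenius_reciprocity (T.subgroupOf N) φ' (fun n : N => ψ n)
      (isClassFunction_of_isCharacter (isCharacter_of_isIrrCharacter hψN)),
      ← classInner_conj_symm]
    intro h0
    exact h2 ((map_eq_zero (starRingEnd ℂ)).mp h0)
  obtain ⟨r, hr, -⟩ := Cfsg.Agent.H82.constituent_degree
    (isCharacter_indFun (T.subgroupOf N) φ' (isCharacter_of_isIrrCharacter hφ'))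
    ⟨fun n : N => ψ n, hψN⟩ h4
  obtain ⟨s, hs, hs0⟩ := Cfsg.Agent.H82.constituent_degree
    (isCharacter_restrict (N.subgroupOf T) hηchar) ⟨φ, hφ⟩ hφη
  have hψ1 : ψ 1 = (T.index : ℂ) * η 1 := by
    rw [hψdef, Cfsg.Agent.H82.indFun_one]
  have hind1 : indFun (T.subgroupOf N) φ' 1 = ((T.subgroupOf N).index : ℂ) * φ' 1 :=
    Cfsg.Agent.H82.indFun_one _ _
  have hφ'1 : φ' 1 = φ 1 := by
    rw [hφ'def]
    simp
  have hη1 : η 1 = (charDegree η : ℂ) :=
    Cfsg.Agent.H82.irr_one_eq_charDegree (⟨η, hη⟩ : IrrCharacter T)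
  have hφ1 : φ 1 = (charDegree φ : ℂ) :=
    Cfsg.Agent.H82.irr_one_eq_charDegree (⟨φ, hφ⟩ : IrrCharacter (N.subgroupOf T))
  have hrel : (T.subgroupOf N).index ≤ T.index := by
    have h5 : T.relIndex N ≤ T.relIndex ⊤ :=
      Subgroup.relIndex_le_of_le_right le_top (by
        rw [Subgroup.relIndex_top_right]
        exact Subgroup.index_ne_zero_of_finite)
    rwa [Subgroup.relIndex_top_right] at h5
  have e1 : (T.subgroupOf N).index * charDegree φ = T.index * charDegree η + r := by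
    have h5 : ((T.subgroupOf N).index : ℂ) * (charDegree φ : ℂ) =
        (T.index : ℂ) * (charDegree η : ℂ) + r := by
      rw [← hφ1, ← hφ'1, ← hind1, hr, ← hη1, ← hψ1]
      rfl
    exact_mod_cast h5
  have e2 : charDegree η = charDegree φ + s := by
    have h5 : (charDegree η : ℂ) = (charDegree φ : ℂ) + s := by
      rw [← hη1, ← hφ1]
      exact hs
    exact_mod_cast h5
  have hTpos : 0 < T.index := Nat.pos_of_ne_zero Subgroup.index_ne_zero_of_finite
  have hs00 : s = 0 := by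
    by_contra hne
    have h5 : (T.subgroupOf N).index * charDegree φ ≤ T.index * charDegree φ :=
      Nat.mul_le_mul_right _ hrel
    have h6 : T.index * charDegree η = T.index * charDegree φ + T.index * s := by
      rw [e2]
      ring
    have h7 : 0 < T.index * s := Nat.mul_pos hTpos (Nat.pos_of_ne_zero hne)
    omega
  rw [hs0 hs00]
  exact hφ

/-- Isaacs 6.23 (core): if `G` is solvable, `N ⊴ G` has abelian Sylow subgroups and the
irreducible character `ψ` of `G` restricts irreducibly to `N`, then `ψ` is monomial. -/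
theorem monomial_of_irr_res_aux : ∀ (n : ℕ) (G : Type u) [Group G] [Fintype G], Nat.card G = n →
    ∀ (N : Subgroup G) [N.Normal], Group.IsSolvable G →
    (∀ (p : ℕ) [Fact p.Prime] (P : Sylow p N), ∀ a ∈ P, ∀ b ∈ P, a * b = b * a) →
    ∀ (ψ : G → ℂ), IsIrrCharacter G ψ → IsIrrCharacter N (fun n : N => ψ n) →
    ∃ (U : Subgroup G) (lam : U → ℂ), IsCharacter U lam ∧ lam 1 = 1 ∧ indFun U lam = ψ := by
  intro n
  induction n using Nat.strong_induction_on with
  | _ n ih =>
  intro G _ _ hn N hNn hsolv hab ψ hψ hψN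
  classical
  have hψchar := isCharacter_of_isIrrCharacter hψ
  have hclass : IsClassFunction G ψ := isClassFunction_of_isCharacter hψchar
  by_cases hlin : ψ 1 = 1
  · exact ⟨⊤, fun x => ψ x, isCharacter_comp_equiv Subgroup.topEquiv hψchar, hlin,
      indFun_top ψ hclass⟩
  haveI : Fintype N := Fintype.ofFinite N
  -- `K := ker ψ ∩ N`
  obtain ⟨K, hKdef⟩ : ∃ K : Subgroup G,
      K = Cfsg.Agent.H82.irrKer (⟨ψ, hψ⟩ : IrrCharacter G) ⊓ N := ⟨_, rfl⟩
  have hKn : K.Normal := by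
    rw [hKdef]
    infer_instance
  have hKN : K ≤ N := by
    rw [hKdef]
    exact inf_le_right
  have hKker : ∀ x ∈ K, ψ x = ψ 1 := by
    intro x hx
    rw [hKdef] at hx
    exact (Cfsg.Agent.H82.mem_irrKer (⟨ψ, hψ⟩ : IrrCharacter G) x).mp hx.1
  have hmemK : ∀ x ∈ N, ψ x = ψ 1 → x ∈ K := by
    intro x hx h
    rw [hKdef]
    exact ⟨(Cfsg.Agent.H82.mem_irrKer (⟨ψ, hψ⟩ : IrrCharacter G) x).mpr h, hx⟩
  haveI := hKn
  -- `X := N' K`
  obtain ⟨X, hXdef⟩ : ∃ X : Subgroup G, X = ⁅N, N⁆ ⊔ K := ⟨_, rfl⟩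
  have hXn : X.Normal := by
    rw [hXdef]
    infer_instance
  have hKX : K ≤ X := by
    rw [hXdef]
    exact le_sup_right
  have hNNX : ⁅N, N⁆ ≤ X := by
    rw [hXdef]
    exact le_sup_left
  have hXN : X ≤ N := by
    rw [hXdef]
    exact sup_le (Subgroup.commutator_le_left N N) hKN
  have hKX' : K < X := by
    refine lt_of_le_of_ne hKX (fun h => hlin ?_)
    have hNN : ⁅N, N⁆ ≤ K := by
      intro x hx
      have h1 := hNNX hx
      rw [← h] at h1
      exact h1
    have h3 := irr_linear_of_comm_ker hψN (fun x y => by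
      have h1 : ⁅(x : G), (y : G)⁆ ∈ ⁅N, N⁆ := Subgroup.commutator_mem_commutator x.2 y.2
      rw [commutatorElement_def] at h1
      have h2 := hKker _ (hNN h1)
      simpa using h2)
    simpa using h3
  -- a minimal normal subgroup `A` with `K < A ≤ X`
  have hex : ∃ c : ℕ, ∃ A : Subgroup G, Nat.card A = c ∧ A.Normal ∧ K < A ∧ A ≤ X :=
    ⟨_, X, rfl, hXn, hKX', le_rfl⟩
  obtain ⟨A, hAc, hAn, hKA, hAX⟩ := Nat.find_spec hex
  have hAmin : ∀ M : Subgroup G, M.Normal → K < M → M ≤ A → M = A := by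
    intro M h1 h2 hle
    have h4 := Nat.find_min' hex ⟨M, rfl, h1, h2, hle.trans hAX⟩
    exact Subgroup.eq_of_le_of_card_ge hle (by rw [hAc]; exact h4)
  haveI := hAn
  have hAN : A ≤ N := hAX.trans hXN
  -- `A/K` is abelian
  have hAab : ⁅A, A⁆ ≤ K := by
    by_contra hnot
    have hM : ⁅A, A⁆ ⊔ K = A := by
      apply hAmin _ inferInstance
      · refine lt_of_le_of_ne le_sup_right (fun h => hnot ?_)
        intro x hx
        have h1 : x ∈ ⁅A, A⁆ ⊔ K := (le_sup_left : ⁅A, A⁆ ≤ ⁅A, A⁆ ⊔ K) hx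
        rw [← h] at h1
        exact h1
      · exact sup_le (Subgroup.commutator_le_left A A) hKA.le
    haveI := hsolv
    haveI : Group.IsSolvable (G ⧸ K) :=
      Group.isSolvable_of_surjective (f := QuotientGroup.mk' K) (QuotientGroup.mk'_surjective K)
    have hAbar : A.map (QuotientGroup.mk' K) ≠ ⊥ := by
      intro h0
      rw [Subgroup.map_eq_bot_iff, QuotientGroup.ker_mk'] at h0
      exact not_le_of_gt hKA h0
    have hlt := Group.IsSolvable.commutator_lt_of_ne_bot hAbar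
    rw [← Subgroup.map_commutator] at hlt
    have h1 : (⁅A, A⁆ ⊔ K).map (QuotientGroup.mk' K) = (⁅A, A⁆).map (QuotientGroup.mk' K) := by
      rw [Subgroup.map_sup, (Subgroup.map_eq_bot_iff K).mpr (by rw [QuotientGroup.ker_mk']),
        sup_bot_eq]
    rw [hM] at h1
    exact hlt.ne h1.symm
  haveI : Fintype A := Fintype.ofFinite A
  obtain ⟨lam, hlam, hlam1⟩ := Cfsg.Agent.H82.exists_constituent_res' A hψ
  have hAT : A ≤ Clifford.inertia A lam :=
    Clifford.le_inertia A (isClassFunction_of_isCharacter (isCharacter_of_isIrrCharacter hlam))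
  obtain ⟨T, hT⟩ : ∃ T : Subgroup G, T = Clifford.inertia A lam := ⟨_, rfl⟩
  have hAT' : A ≤ T := by
    rw [hT]
    exact hAT
  by_cases hTtop : T = ⊤
  · exfalso
    -- the homogeneous case
    letI := fintypeIrr A
    have hres : IsCharacter A (fun a : A => ψ a) := isCharacter_restrict A hψchar
    obtain ⟨m, hm⟩ := isCharacter_iff.mp hres
    have hinner : ∀ φ : IrrCharacter A, classInner (fun a : A => ψ a) φ.1 = m φ := by
      intro φ
      conv_lhs => rw [hm]
      rw [classInner_finsum_irr]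
    have hall : ∀ φ : IrrCharacter A, φ ≠ ⟨lam, hlam⟩ → m φ = 0 := by
      intro φ hφ
      by_contra h0
      have h2 : classInner (fun a : A => ψ a) φ.1 ≠ 0 := by
        rw [hinner]
        exact_mod_cast h0
      obtain ⟨g, hg⟩ := clifford_conj A hψ hlam φ.2 hlam1 h2
      have hgT : g ∈ Clifford.inertia A lam := by
        rw [← hT, hTtop]
        exact Subgroup.mem_top g
      rw [(Clifford.mem_inertia A).mp hgT] at hg
      exact hφ (Subtype.ext hg)
    obtain ⟨e, he⟩ : ∃ e : ℂ, e = (m ⟨lam, hlam⟩ : ℂ) := ⟨_, rfl⟩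
    have hhom : (fun a : A => ψ a) = e • lam := by
      conv_lhs => rw [hm]
      rw [finsum_irr_eq_sum, Finset.sum_eq_single (⟨lam, hlam⟩ : IrrCharacter A), he]
      · intro φ _ hφ
        rw [hall φ hφ]
        simp
      · intro h
        exact absurd (Finset.mem_univ _) h
    have hval : ∀ (a : G) (ha : a ∈ A), ψ a = e * lam ⟨a, ha⟩ := by
      intro a ha
      have h1 := congrFun hhom ⟨a, ha⟩
      simpa using h1
    have he0 : e ≠ 0 := by
      intro h0
      have h1 := hval 1 A.one_mem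
      rw [h0, zero_mul] at h1
      exact irr_one_ne_zero' hψ h1
    have hlam1' : lam 1 = 1 := by
      apply irr_linear_of_comm_ker hlam
      intro x y
      have h1 : ⁅(x : G), (y : G)⁆ ∈ ⁅A, A⁆ := Subgroup.commutator_mem_commutator x.2 y.2
      rw [commutatorElement_def] at h1
      have h2 := hKker _ (hAab h1)
      have h3 := hval _ (x * y * x⁻¹ * y⁻¹).2
      have h4 := hval 1 A.one_mem
      have h6 : ψ ((x * y * x⁻¹ * y⁻¹ : A) : G) = ψ 1 := by
        simpa using h2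
      rw [h3, h4] at h6
      exact mul_left_cancel₀ he0 h6
    have hmul := Cfsg.Agent.H82.irr_linear_mul (⟨lam, hlam⟩ : IrrCharacter A) hlam1'
    have hinv : ∀ (g : G) (a : G) (ha : a ∈ A),
        lam ⟨g * a * g⁻¹, hAn.conj_mem a ha g⟩ = lam ⟨a, ha⟩ := by
      intro g a ha
      have h1 := hval (g * a * g⁻¹) (hAn.conj_mem a ha g)
      have h2 := hval a ha
      rw [hclass a g] at h1
      exact mul_left_cancel₀ he0 (h1.symm.trans h2)
    have hcent : ∀ a ∈ A, ∀ g : G, ψ (a * g * a⁻¹ * g⁻¹) = ψ 1 := by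
      intro a ha g
      have hmem : g * a⁻¹ * g⁻¹ ∈ A := hAn.conj_mem _ (A.inv_mem ha) g
      have h1 : a * g * a⁻¹ * g⁻¹ = a * (g * a⁻¹ * g⁻¹) := by group
      have h2 := hval (a * (g * a⁻¹ * g⁻¹)) (A.mul_mem ha hmem)
      have h3 : lam ⟨a * (g * a⁻¹ * g⁻¹), A.mul_mem ha hmem⟩ =
          lam ⟨a, ha⟩ * lam ⟨g * a⁻¹ * g⁻¹, hmem⟩ := hmul ⟨a, ha⟩ ⟨g * a⁻¹ * g⁻¹, hmem⟩
      have h4 : lam ⟨g * a⁻¹ * g⁻¹, hmem⟩ = lam ⟨a⁻¹, A.inv_mem ha⟩ :=
        hinv g a⁻¹ (A.inv_mem ha)
      have h5 : lam ⟨a, ha⟩ * lam ⟨a⁻¹, A.inv_mem ha⟩ = 1 := by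
        rw [← hlam1']
        refine (hmul ⟨a, ha⟩ ⟨a⁻¹, A.inv_mem ha⟩).symm.trans ?_
        exact congrArg lam (Subtype.ext (mul_inv_cancel a))
      have h6 := hval 1 A.one_mem
      have h7 : lam ⟨1, A.one_mem⟩ = 1 := hlam1'
      rw [h1, h2, h3, h4, h5, mul_one, h6, h7, mul_one]
    have hcentK : ∀ a ∈ A, ∀ g ∈ N, a * g * a⁻¹ * g⁻¹ ∈ K := by
      intro a ha g hg
      refine hmemK _ ?_ (hcent a ha g)
      exact N.mul_mem (N.mul_mem (N.mul_mem (hAN ha) hg) (N.inv_mem (hAN ha))) (N.inv_mem hg)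
    -- Taunt's lemma in `N / K`
    obtain ⟨a, haA, haK⟩ := SetLike.exists_of_lt hKA
    have habQ := abelian_sylow_of_surjective (QuotientGroup.mk' (K.subgroupOf N))
      (QuotientGroup.mk'_surjective (K.subgroupOf N)) hab
    have htaunt := center_inf_commutator_of_abelian_sylow habQ
    have hcentre : (QuotientGroup.mk' (K.subgroupOf N)) ⟨a, hAN haA⟩ ∈
        Subgroup.center (↥N ⧸ K.subgroupOf N) := by
      rw [Subgroup.mem_center_iff]
      intro q
      obtain ⟨g, rfl⟩ := QuotientGroup.mk'_surjective (K.subgroupOf N) q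
      rw [← map_mul, ← map_mul]
      show ((g * ⟨a, hAN haA⟩ : N) : ↥N ⧸ K.subgroupOf N) = ((⟨a, hAN haA⟩ * g : N) : ↥N ⧸ K.subgroupOf N)
      rw [QuotientGroup.eq, Subgroup.mem_subgroupOf]
      have h1 := hcentK a⁻¹ (A.inv_mem haA) (g : G)⁻¹ (N.inv_mem g.2)
      have h2 : (((g * ⟨a, hAN haA⟩ : N)⁻¹ * (⟨a, hAN haA⟩ * g) : N) : G) =
          a⁻¹ * (g : G)⁻¹ * a⁻¹⁻¹ * (g : G)⁻¹⁻¹ := by
        simp [mul_assoc]
      rw [h2]
      exact h1
    have hcomm : ∀ x ∈ X, ∀ hx : x ∈ N, (QuotientGroup.mk' (K.subgroupOf N)) ⟨x, hx⟩ ∈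
        commutator (↥N ⧸ K.subgroupOf N) := by
      have hle : X ≤ ((commutator (↥N ⧸ K.subgroupOf N)).comap
          (QuotientGroup.mk' (K.subgroupOf N))).map N.subtype := by
        rw [hXdef]
        refine sup_le ?_ ?_
        · rw [Subgroup.commutator_le]
          intro g₁ hg₁ g₂ hg₂
          refine Subgroup.mem_map.mpr ⟨⁅(⟨g₁, hg₁⟩ : N), (⟨g₂, hg₂⟩ : N)⁆, ?_, rfl⟩
          rw [Subgroup.mem_comap, map_commutatorElement]
          exact Subgroup.commutator_mem_commutator (Subgroup.mem_top _) (Subgroup.mem_top _)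
        · intro k hk
          refine Subgroup.mem_map.mpr ⟨⟨k, hKN hk⟩, ?_, rfl⟩
          rw [Subgroup.mem_comap]
          have h1 : (QuotientGroup.mk' (K.subgroupOf N)) ⟨k, hKN hk⟩ = 1 := by
            show ((⟨k, hKN hk⟩ : N) : ↥N ⧸ K.subgroupOf N) = 1
            rw [QuotientGroup.eq_one_iff, Subgroup.mem_subgroupOf]
            exact hk
          rw [h1]
          exact Subgroup.one_mem _
      intro x hx hxN
      obtain ⟨y, hy, hyx⟩ := Subgroup.mem_map.mp (hle hx)
      have hy' : y = ⟨x, hxN⟩ := Subtype.ext hyx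
      rw [← hy']
      exact hy
    have hbot : (QuotientGroup.mk' (K.subgroupOf N)) ⟨a, hAN haA⟩ ∈
        Subgroup.center (↥N ⧸ K.subgroupOf N) ⊓ commutator (↥N ⧸ K.subgroupOf N) :=
      ⟨hcentre, hcomm a (hAX haA) (hAN haA)⟩
    rw [htaunt, Subgroup.mem_bot] at hbot
    have h1 : ((⟨a, hAN haA⟩ : N) : ↥N ⧸ K.subgroupOf N) = 1 := hbot
    rw [QuotientGroup.eq_one_iff, Subgroup.mem_subgroupOf] at h1
    exact haK h1
  · haveI : Fintype T := Fintype.ofFinite T
    obtain ⟨η, hη, hηind, -⟩ := clifford_corr_surj hlam hAT' hT hψ hlam1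
    have hcardT : Nat.card T < n := by
      rw [← hn]
      by_contra hge
      push Not at hge
      exact hTtop (Subgroup.eq_top_of_le_card T hge)
    have hηN : IsIrrCharacter (N.subgroupOf T) (fun m : N.subgroupOf T => η m) := by
      apply irr_res_of_ind_of_irr_res N T hη
      · rw [hηind]
        exact hψ
      · rw [hηind]
        exact hψN
    have habT : ∀ (p : ℕ) [Fact p.Prime] (P : Sylow p (N.subgroupOf T)), ∀ a ∈ P, ∀ b ∈ P,
        a * b = b * a := by
      refine abelian_sylow_of_injective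
        (((T.subtype).comp (N.subgroupOf T).subtype).codRestrict N
          (fun x => Subgroup.mem_subgroupOf.mp x.2)) ?_ hab
      intro x y hxy
      have h1 := congrArg (fun z : N => (z : G)) hxy
      exact Subtype.ext (Subtype.ext h1)
    haveI := hsolv
    obtain ⟨U', lam', hlam'c, hlam'1, hind'⟩ :=
      ih (Nat.card T) hcardT ↥T rfl (N.subgroupOf T) inferInstance habT η hη hηN
    refine ⟨U'.map T.subtype,
      fun x => lam' ((Subgroup.equivMapOfInjective U' T.subtype T.subtype_injective).symm x),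
      isCharacter_comp_equiv
        (Subgroup.equivMapOfInjective U' T.subtype T.subtype_injective).symm hlam'c, ?_, ?_⟩
    · show lam' ((Subgroup.equivMapOfInjective U' T.subtype T.subtype_injective).symm 1) = 1
      rw [map_one]
      exact hlam'1
    · rw [← hηind, ← hind']
      exact (indFun_map_subtype T U' lam').symm

end Cfsg.Agent.H32
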