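import Mathlib
import Cfsg.Prelude.Def_Characters
import Cfsg.Agent.H32.Monomial
import Cfsg.Agent.H83.MinNormal

set_option autoImplicit false

namespace Cfsg.Agent.H32

open Cfsg Cfsg.Agent.H4 Cfsg.Agent.Clifford
open scoped ComplexConjugate commutatorElement

universe u v

/-- Every irreducible character of a subgroup lies under an irreducible character. -/
theorem exists_irr_over' {G : Type u} [Group G] [Fintype G] (N : Subgroup G) [Fintype N]
    {θ : N → ℂ} (hθ : IsIrrCharacter N θ) :
    ∃ χ : G → ℂ, IsIrrCharacter G χ ∧ classInner (fun n : N => χ n) θ ≠ 0 := by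
  classical
  letI := fintypeIrr G
  have hA : IsCharacter G (indFun N θ) :=
    isCharacter_indFun N θ (isCharacter_of_isIrrCharacter hθ)
  obtain ⟨m, hm⟩ := isCharacter_iff.mp hA
  have hne : ∃ χ : IrrCharacter G, m χ ≠ 0 := by
    by_contra hcon
    push Not at hcon
    have h0 : indFun N θ = 0 := by
      rw [hm, finsum_irr_eq_sum]
      refine Finset.sum_eq_zero fun ψ _ => ?_
      rw [hcon ψ]
      simp
    have h1 := congrFun h0 1
    rw [Cfsg.Agent.H82.indFun_one] at h1
    have h2 : (N.index : ℂ) ≠ 0 := by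
      have : N.index ≠ 0 := Subgroup.index_ne_zero_of_finite
      exact_mod_cast this
    exact mul_ne_zero h2 (irr_one_ne_zero' hθ) h1
  obtain ⟨χ, hχ⟩ := hne
  refine ⟨χ.1, χ.2, ?_⟩
  have h3 : classInner (indFun N θ) χ.1 = m χ := by
    conv_lhs => rw [hm]
    rw [classInner_finsum_irr]
  rw [frobenius_reciprocity N θ χ.1
    (isClassFunction_of_isCharacter (isCharacter_of_isIrrCharacter χ.2))] at h3
  rw [← classInner_conj_symm, h3]
  simpa using hχ

/-- A constituent of the restriction of a constituent is a constituent of the restriction. -/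
theorem constituent_res_of_constituent {G : Type u} [Group G] [Fintype G] (H : Subgroup G)
    [Fintype H] {A ψ : G → ℂ} (hA : IsCharacter G A) (hψ : IsIrrCharacter G ψ)
    (h1 : classInner A ψ ≠ 0) {φ : H → ℂ} (hφ : IsCharacter H φ)
    (h2 : classInner (fun h : H => ψ h) φ ≠ 0) :
    classInner (fun h : H => A h) φ ≠ 0 := by
  have hR : IsCharacter G (A - ψ) := isCharacter_sub_irr hA ⟨ψ, hψ⟩ h1
  have hsplit : (fun h : H => A h) = (fun h : H => ψ h) + (fun h : H => (A - ψ) h) := by
    funext h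
    simp
  rw [hsplit, classInner_add_left]
  obtain ⟨a, ha⟩ := classInner_isCharacter_nat
    (isCharacter_restrict H (isCharacter_of_isIrrCharacter hψ)) hφ
  obtain ⟨b, hb⟩ := classInner_isCharacter_nat (isCharacter_restrict H hR) hφ
  rw [ha] at h2
  rw [ha, hb]
  have ha0 : a ≠ 0 := by exact_mod_cast h2
  have hab0 : a + b ≠ 0 := by omega
  exact_mod_cast hab0

/-- The restriction of an irreducible character to a normal subgroup is a multiple of any
`G`-invariant irreducible constituent. -/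
theorem res_eq_smul_of_invariant {G : Type u} [Group G] [Fintype G] (N : Subgroup G) [N.Normal]
    [Fintype N] {χ : G → ℂ} (hχ : IsIrrCharacter G χ) {θ : N → ℂ} (hθ : IsIrrCharacter N θ)
    (h1 : classInner (fun n : N => χ n) θ ≠ 0) (hinv : ∀ g : G, conjChar N θ g = θ) :
    ∃ e : ℂ, (fun n : N => χ n) = e • θ := by
  classical
  letI := fintypeIrr N
  have hres : IsCharacter N (fun a : N => χ a) :=
    isCharacter_restrict N (isCharacter_of_isIrrCharacter hχ)
  obtain ⟨m, hm⟩ := isCharacter_iff.mp hres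
  have hinner : ∀ φ : IrrCharacter N, classInner (fun a : N => χ a) φ.1 = m φ := by
    intro φ
    conv_lhs => rw [hm]
    rw [classInner_finsum_irr]
  have hall : ∀ φ : IrrCharacter N, φ ≠ ⟨θ, hθ⟩ → m φ = 0 := by
    intro φ hφ
    by_contra h0
    have h2 : classInner (fun a : N => χ a) φ.1 ≠ 0 := by
      rw [hinner]
      exact_mod_cast h0
    obtain ⟨g, hg⟩ := clifford_conj N hχ hθ φ.2 h1 h2
    rw [hinv g] at hg
    exact hφ (Subtype.ext hg)
  refine ⟨(m ⟨θ, hθ⟩ : ℂ), ?_⟩
  conv_lhs => rw [hm]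
  rw [finsum_irr_eq_sum, Finset.sum_eq_single (⟨θ, hθ⟩ : IrrCharacter N)]
  · intro φ _ hφ
    rw [hall φ hφ]
    simp
  · intro h
    exact absurd (Finset.mem_univ _) h

/-- If `G/N` is abelian, any two irreducible characters of `G` over the same irreducible
character of `N` differ by a linear character of `G/N`. -/
theorem exists_linear_twist_of_over {G : Type u} [Group G] [Fintype G] (N : Subgroup G)
    [N.Normal] [Fintype N] (hab : commutator G ≤ N) {θ : N → ℂ} (hθ : IsIrrCharacter N θ)
    {χ χ' : G → ℂ} (hχ : IsIrrCharacter G χ) (hχ' : IsIrrCharacter G χ')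
    (h1 : classInner (fun n : N => χ n) θ ≠ 0) (h2 : classInner (fun n : N => χ' n) θ ≠ 0) :
    ∃ lam : G →* ℂˣ, (∀ n ∈ N, lam n = 1) ∧ χ' = fun g => ((lam g : ℂˣ) : ℂ) * χ g := by
  classical
  letI := fintypeIrr G
  have hχc := isCharacter_of_isIrrCharacter hχ
  have hχ'c := isCharacter_of_isIrrCharacter hχ'
  have hclass : IsClassFunction G χ := isClassFunction_of_isCharacter hχc
  have hclass' : IsClassFunction G χ' := isClassFunction_of_isCharacter hχ'c
  have hAB : classInner (fun n : N => χ n) (fun n : N => χ' n) ≠ 0 :=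
    classInner_ne_zero_of_common (isCharacter_restrict N hχc) (isCharacter_restrict N hχ'c)
      hθ h1 h2
  have hproj : indFun N (fun n : N => χ n) = indFun N (1 : N → ℂ) * χ := by
    have h := indFun_mul_res N (1 : N → ℂ) hclass
    rw [one_mul] at h
    exact h
  have h1irr : IsIrrCharacter N (1 : N → ℂ) := Cfsg.Agent.H82.isIrrCharacter_one N
  have hR : IsCharacter G (indFun N (1 : N → ℂ)) :=
    isCharacter_indFun N 1 (isCharacter_of_isIrrCharacter h1irr)
  obtain ⟨m, hm⟩ := isCharacter_iff.mp hR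
  have hne : classInner (indFun N (1 : N → ℂ) * χ) χ' ≠ 0 := by
    rw [← hproj, frobenius_reciprocity N _ χ' hclass']
    exact hAB
  have hexp : indFun N (1 : N → ℂ) * χ =
      ∑ ξ : IrrCharacter G, (m ξ : ℂ) • (fun g => ξ.1 g * χ g) := by
    conv_lhs => rw [hm, finsum_irr_eq_sum]
    funext g
    simp only [Pi.mul_apply, Finset.sum_apply, Pi.smul_apply, smul_eq_mul, Finset.sum_mul]
    refine Finset.sum_congr rfl fun ξ _ => ?_
    ring
  rw [hexp, classInner_sum_left] at hne
  obtain ⟨ξ, -, hξ⟩ := Finset.exists_ne_zero_of_sum_ne_zero hne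
  rw [classInner_smul_left] at hξ
  have hmξ : (m ξ : ℂ) ≠ 0 := left_ne_zero_of_mul hξ
  have hξχ : classInner (fun g => ξ.1 g * χ g) χ' ≠ 0 := right_ne_zero_of_mul hξ
  have hξ1 : classInner (fun n : N => ξ.1 n) (1 : N → ℂ) ≠ 0 := by
    have h3 : classInner (indFun N (1 : N → ℂ)) ξ.1 = m ξ := by
      conv_lhs => rw [hm]
      rw [classInner_finsum_irr]
    rw [frobenius_reciprocity N _ ξ.1
      (isClassFunction_of_isCharacter (isCharacter_of_isIrrCharacter ξ.2))] at h3
    rw [← classInner_conj_symm, h3]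
    simpa using hmξ
  obtain ⟨e, he⟩ := res_eq_smul_of_invariant N ξ.2 h1irr hξ1 (fun g => rfl)
  have hξN : ∀ n ∈ N, ξ.1 n = ξ.1 1 := by
    intro n hn
    have h4 := congrFun he ⟨n, hn⟩
    have h5 := congrFun he 1
    simp only [Pi.smul_apply, Pi.one_apply, smul_eq_mul, mul_one] at h4 h5
    have h6 : ξ.1 ((1 : N) : G) = ξ.1 1 := rfl
    rw [h4, ← h6, h5]
  have hlin : ξ.1 1 = 1 := by
    apply irr_linear_of_comm_ker ξ.2
    intro x y
    apply hξN
    apply hab
    have h6 : ⁅x, y⁆ ∈ commutator G :=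
      Subgroup.commutator_mem_commutator (Subgroup.mem_top x) (Subgroup.mem_top y)
    rw [commutatorElement_def] at h6
    exact h6
  refine ⟨Cfsg.Agent.H82.irrLinearHom ξ hlin, ?_, ?_⟩
  · intro n hn
    apply Units.ext
    rw [Cfsg.Agent.H82.irrLinearHom_apply, hξN n hn, hlin]
    rfl
  · have h7 := eq_of_classInner_ne_zero
      (Cfsg.Agent.H83.isIrrCharacter_linear_mul ξ ⟨χ, hχ⟩ hlin) hχ' hξχ
    rw [← h7]
    funext g
    rw [Cfsg.Agent.H82.irrLinearHom_apply]

/-- The abelian step: if `G/N` is abelian and the finite group `S` acts on `G`, stabilising `N`,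
with `(|S|, [G:N]) = 1`, then every `S`-invariant irreducible character of `N` lies under an
`S`-invariant irreducible character of `G`. -/
theorem exists_invariant_over_of_abelian {S : Type v} [Group S] [Finite S] {G : Type u} [Group G]
    [Fintype G] [MulDistribMulAction S G] (N : Subgroup G) [N.Normal] [Fintype N]
    (hab : commutator G ≤ N) (hN : ∀ (s : S), ∀ n ∈ N, s • n ∈ N)
    (hcop : (N.index).Coprime (Nat.card S)) {θ : N → ℂ} (hθ : IsIrrCharacter N θ)
    (hinv : ∀ (s : S) (n : N), θ ⟨s • (n : G), hN s n n.2⟩ = θ n) :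
    ∃ χ : G → ℂ, IsIrrCharacter G χ ∧ classInner (fun n : N => χ n) θ ≠ 0 ∧
      ∀ (s : S) (g : G), χ (s • g) = χ g := by
  classical
  haveI : Fintype S := Fintype.ofFinite S
  obtain ⟨χ₀, hχ₀, hχ₀θ⟩ := exists_irr_over' N hθ
  have hconj : ∀ s : S, IsIrrCharacter G (fun g => χ₀ (s • g)) := fun s =>
    isIrrCharacter_comp_equiv (MulDistribMulAction.toMulEquiv G s) hχ₀
  have hconjθ : ∀ s : S, classInner (fun n : N => χ₀ (s • (n : G))) θ ≠ 0 := by
    intro s
    let e : N ≃* N :=
      { toFun := fun n => ⟨s • (n : G), hN s n n.2⟩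
        invFun := fun n => ⟨s⁻¹ • (n : G), hN s⁻¹ n n.2⟩
        left_inv := fun n => Subtype.ext (inv_smul_smul s (n : G))
        right_inv := fun n => Subtype.ext (smul_inv_smul s (n : G))
        map_mul' := fun a b => Subtype.ext (smul_mul' s (a : G) (b : G)) }
    have h3 := classInner_comp_equiv e (fun n : N => χ₀ n) θ
    have h4 : (fun a : N => θ (e a)) = θ := funext fun a => hinv s a
    rw [h4] at h3
    intro h0
    apply hχ₀θ
    rw [← h3]
    exact h0
  have hex : ∀ s : S, ∃ lam : G →* ℂˣ, (∀ n ∈ N, lam n = 1) ∧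
      (fun g => χ₀ (s • g)) = fun g => ((lam g : ℂˣ) : ℂ) * χ₀ g := fun s =>
    exists_linear_twist_of_over N hab hθ hχ₀ (hconj s) hχ₀θ (hconjθ s)
  choose lam hlamN hlam using hex
  have hlam' : ∀ (s : S) (g : G), χ₀ (s • g) = ((lam s g : ℂˣ) : ℂ) * χ₀ g :=
    fun s g => congrFun (hlam s) g
  have hcoc : ∀ (s t : S) (g : G), χ₀ g ≠ 0 → lam (s * t) g = lam s (t • g) * lam t g := by
    intro s t g hg
    apply Units.ext
    have h1 := hlam' (s * t) g
    rw [mul_smul, hlam' s (t • g), hlam' t g, ← mul_assoc] at h1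
    have h2 := mul_right_cancel₀ hg h1
    rw [Units.val_mul]
    exact h2.symm
  obtain ⟨μ, hμ⟩ : ∃ μ : G →* ℂˣ, μ = ∏ s : S, lam s := ⟨_, rfl⟩
  have hμapp : ∀ g, μ g = ∏ s : S, lam s g := by
    intro g
    rw [hμ, MonoidHom.finsetProd_apply]
  have hμrel : ∀ (t : S) (g : G), χ₀ g ≠ 0 → μ g = μ (t • g) * lam t g ^ Nat.card S := by
    intro t g hg
    rw [hμapp, hμapp]
    calc ∏ s : S, lam s g = ∏ s : S, lam (s * t) g :=
          (Equiv.prod_comp (Equiv.mulRight t) (fun s => lam s g)).symm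
      _ = ∏ s : S, (lam s (t • g) * lam t g) :=
          Finset.prod_congr rfl fun s _ => hcoc s t g hg
      _ = (∏ s : S, lam s (t • g)) * lam t g ^ Nat.card S := by
          rw [Finset.prod_mul_distrib, Finset.prod_const, Finset.card_univ,
            Nat.card_eq_fintype_card]
  obtain ⟨a, b, hab1⟩ : ∃ a b : ℤ, (Nat.card S : ℤ) * a + (N.index : ℤ) * b = 1 := by
    refine ⟨Nat.gcdA (Nat.card S) N.index, Nat.gcdB (Nat.card S) N.index, ?_⟩
    have h := Nat.gcd_eq_gcd_ab (Nat.card S) N.index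
    rw [show (Nat.card S).gcd N.index = 1 from hcop.symm] at h
    rw [← h]
    simp
  have hpow : ∀ (s : S) (g : G), lam s g ^ N.index = 1 := by
    intro s g
    rw [← map_pow]
    exact hlamN s _ (Subgroup.pow_index_mem N g)
  obtain ⟨ν, hν⟩ : ∃ ν : G →* ℂˣ, ν = μ ^ a := ⟨_, rfl⟩
  have hνapp : ∀ g, ν g = μ g ^ a := fun g => by rw [hν, MonoidHom.zpow_apply]
  have hνrel : ∀ (t : S) (g : G), χ₀ g ≠ 0 → ν g = ν (t • g) * lam t g := by
    intro t g hg
    rw [hνapp, hνapp, hμrel t g hg, mul_zpow]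
    congr 1
    have h1 : (lam t g ^ Nat.card S) ^ a = lam t g ^ ((Nat.card S : ℤ) * a) := by
      rw [zpow_mul, zpow_natCast]
    have h2 : (Nat.card S : ℤ) * a = 1 - (N.index : ℤ) * b := by linarith
    rw [h1, h2, zpow_sub, zpow_one, zpow_mul, zpow_natCast, hpow, one_zpow, inv_one, mul_one]
  have hνN : ∀ n ∈ N, ν n = 1 := by
    intro n hn
    rw [hνapp, hμapp, Finset.prod_eq_one (fun s _ => hlamN s n hn), one_zpow]
  refine ⟨fun g => ((ν g : ℂˣ) : ℂ) * χ₀ g, ?_, ?_, ?_⟩
  · exact Cfsg.Agent.H83.isIrrCharacter_linear_mul (Cfsg.Agent.H82.linChar ν) ⟨χ₀, hχ₀⟩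
      (Cfsg.Agent.H82.linChar_one ν)
  · have h5 : (fun n : N => ((ν (n : G) : ℂˣ) : ℂ) * χ₀ n) = fun n : N => χ₀ n := by
      funext n
      rw [hνN n n.2]
      simp
    show classInner (fun n : N => ((ν (n : G) : ℂˣ) : ℂ) * χ₀ n) θ ≠ 0
    rw [h5]
    exact hχ₀θ
  · intro t g
    show ((ν (t • g) : ℂˣ) : ℂ) * χ₀ (t • g) = ((ν g : ℂˣ) : ℂ) * χ₀ g
    rw [hlam' t g]
    by_cases hg : χ₀ g = 0
    · rw [hg]
      simp
    · rw [hνrel t g hg, Units.val_mul]
      ring

/-- The restriction of an action by automorphisms to an invariant subgroup. -/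
@[reducible] def subAct {S : Type v} [Group S] {G : Type u} [Group G] [MulDistribMulAction S G]
    (M : Subgroup G) (hM : ∀ (s : S), ∀ m ∈ M, s • m ∈ M) : MulDistribMulAction S M where
  smul s m := ⟨s • (m : G), hM s m m.2⟩
  one_smul m := Subtype.ext (one_smul S (m : G))
  mul_smul s t m := Subtype.ext (mul_smul s t (m : G))
  smul_mul s a b := Subtype.ext (smul_mul' s (a : G) (b : G))
  smul_one s := Subtype.ext (smul_one s)

/-- Isaacs 13.28 for `G/N` solvable: if `S` acts on `G`, stabilising `N ⊴ G`, with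
`(|S|, [G:N]) = 1` and `G/N` solvable, then every `S`-invariant irreducible character of `N`
lies under an `S`-invariant irreducible character of `G`. -/
theorem exists_invariant_over_aux (S : Type v) [Group S] [Finite S] : ∀ (k : ℕ) (G : Type u)
    [Group G] [Fintype G] [MulDistribMulAction S G] (N : Subgroup G) [N.Normal] [Fintype N],
    N.index = k → Group.IsSolvable (G ⧸ N) → ∀ (hN : ∀ (s : S), ∀ n ∈ N, s • n ∈ N),
    (N.index).Coprime (Nat.card S) → ∀ (θ : N → ℂ), IsIrrCharacter N θ →
    (∀ (s : S) (n : N), θ ⟨s • (n : G), hN s n n.2⟩ = θ n) →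
    ∃ χ : G → ℂ, IsIrrCharacter G χ ∧ classInner (fun n : N => χ n) θ ≠ 0 ∧
      ∀ (s : S) (g : G), χ (s • g) = χ g := by
  intro k
  induction k using Nat.strong_induction_on with
  | _ k ih =>
  intro G _ _ _ N _ _ hk hsolv hN hcop θ hθ hinv
  classical
  by_cases hNtop : N = ⊤
  · subst hNtop
    refine ⟨fun g => θ ⟨g, Subgroup.mem_top g⟩,
      isIrrCharacter_comp_equiv Subgroup.topEquiv.symm hθ, ?_, ?_⟩
    · have h1 : (fun n : (⊤ : Subgroup G) => θ ⟨(n : G), Subgroup.mem_top _⟩) = θ := rfl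
      rw [h1, classInner_irr_irr hθ hθ, if_pos rfl]
      exact one_ne_zero
    · intro s g
      exact hinv s ⟨g, Subgroup.mem_top g⟩
  · obtain ⟨M, hMdef⟩ : ∃ M : Subgroup G, M = N ⊔ commutator G := ⟨_, rfl⟩
    have hMn : M.Normal := by
      rw [hMdef]
      infer_instance
    have hNM : N ≤ M := by
      rw [hMdef]
      exact le_sup_left
    have hcM : commutator G ≤ M := by
      rw [hMdef]
      exact le_sup_right
    have hMinv : ∀ (s : S), ∀ m ∈ M, s • m ∈ M := by
      intro s m hm
      have h1 : M.map (MulDistribMulAction.toMonoidHom G s) ≤ M := by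
        rw [hMdef, Subgroup.map_sup]
        refine sup_le_sup ?_ ?_
        · rintro _ ⟨n, hn, rfl⟩
          exact hN s n hn
        · rw [commutator_def, Subgroup.map_commutator]
          exact Subgroup.commutator_mono le_top le_top
      exact h1 (Subgroup.mem_map_of_mem _ hm)
    have hMtop : M ≠ ⊤ := by
      intro htop
      haveI := hsolv
      haveI : Nontrivial (G ⧸ N) := by
        rw [← not_subsingleton_iff_nontrivial]
        intro hsub
        exact hNtop (QuotientGroup.subgroup_eq_top_of_subsingleton N hsub)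
      have hlt := Group.IsSolvable.commutator_lt_top_of_nontrivial (G ⧸ N)
      have hsurj : Function.Surjective (QuotientGroup.mk' N) := QuotientGroup.mk'_surjective N
      have h3 : (N ⊔ commutator G).map (QuotientGroup.mk' N) = ⊤ := by
        rw [← hMdef, htop]
        exact Subgroup.map_top_of_surjective _ hsurj
      rw [Subgroup.map_sup, (Subgroup.map_eq_bot_iff N).mpr (by rw [QuotientGroup.ker_mk']),
        bot_sup_eq, commutator_def, Subgroup.map_commutator,
        Subgroup.map_top_of_surjective _ hsurj] at h3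
      exact hlt.ne h3
    haveI := hMn
    haveI : Fintype M := Fintype.ofFinite M
    haveI : Fintype (N.subgroupOf M) := Fintype.ofFinite _
    letI actM : MulDistribMulAction S M := subAct M hMinv
    have hidx : (N.subgroupOf M).index < k := by
      rw [← hk]
      have h1 := Subgroup.relIndex_mul_index hNM
      have h2 : M.index ≠ 1 := by
        rwa [Ne, Subgroup.index_eq_one]
      have h3 : M.index ≠ 0 := Subgroup.index_ne_zero_of_finite
      have h4 : N.relIndex M ≠ 0 := Subgroup.index_ne_zero_of_finite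
      show N.relIndex M < N.index
      rw [← h1]
      have h5 : 2 ≤ M.index := by omega
      nlinarith [Nat.pos_of_ne_zero h4]
    have hsolvM : Group.IsSolvable (↥M ⧸ N.subgroupOf M) := by
      haveI := hsolv
      refine Group.isSolvable_of_isSolvable_injective
        (f := QuotientGroup.map (N.subgroupOf M) N M.subtype (fun x hx => hx)) ?_
      rw [injective_iff_map_eq_one]
      intro y hy
      obtain ⟨t, rfl⟩ := QuotientGroup.mk_surjective y
      have h3 : ((M.subtype t : G) : G ⧸ N) = 1 := hy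
      rw [QuotientGroup.eq_one_iff] at h3 ⊢
      exact h3
    have hN'inv : ∀ (s : S), ∀ n ∈ N.subgroupOf M, s • n ∈ N.subgroupOf M := by
      intro s n hn
      rw [Subgroup.mem_subgroupOf] at hn ⊢
      exact hN s n hn
    have hcop' : ((N.subgroupOf M).index).Coprime (Nat.card S) :=
      Nat.Coprime.coprime_dvd_left (Subgroup.relIndex_dvd_index_of_normal N M) hcop
    obtain ⟨θ', hθ'def⟩ : ∃ θ' : N.subgroupOf M → ℂ,
        θ' = fun x => θ (Subgroup.subgroupOfEquivOfLe hNM x) := ⟨_, rfl⟩
    have hθ' : IsIrrCharacter (N.subgroupOf M) θ' := by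
      rw [hθ'def]
      exact isIrrCharacter_comp_equiv (Subgroup.subgroupOfEquivOfLe hNM) hθ
    have hinv' : ∀ (s : S) (n : N.subgroupOf M),
        θ' ⟨s • (n : M), hN'inv s n n.2⟩ = θ' n := by
      intro s n
      rw [hθ'def]
      have h1 := hinv s (Subgroup.subgroupOfEquivOfLe hNM n)
      refine Eq.trans (congrArg θ (Subtype.ext ?_)) h1
      rfl
    obtain ⟨ψ, hψ, hψθ, hψinv⟩ := ih (N.subgroupOf M).index hidx ↥M (N.subgroupOf M) rfl hsolvM
      hN'inv hcop' θ' hθ' hinv'
    have hcopM : (M.index).Coprime (Nat.card S) :=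
      Nat.Coprime.coprime_dvd_left (Subgroup.index_dvd_of_le hNM) hcop
    obtain ⟨χ, hχ, hχψ, hχinv⟩ := exists_invariant_over_of_abelian M hcM hMinv hcopM hψ
      (fun s m => hψinv s m)
    refine ⟨χ, hχ, ?_, hχinv⟩
    have h6 : classInner (fun n : N.subgroupOf M => (fun m : M => χ m) n) θ' ≠ 0 :=
      constituent_res_of_constituent (N.subgroupOf M)
        (isCharacter_restrict M (isCharacter_of_isIrrCharacter hχ)) hψ hχψ
        (isCharacter_of_isIrrCharacter hθ') hψθ
    have h7 := classInner_comp_equiv (Subgroup.subgroupOfEquivOfLe hNM) (fun n : N => χ n) θ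
    intro h0
    apply h6
    rw [hθ'def]
    rw [← h7] at h0
    exact h0

end Cfsg.Agent.H32
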