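import Mathlib
import Cfsg.Prelude.Def_Solvable
import Cfsg.Agent.H1.Fitting
import Cfsg.Agent.H1.MinNormal

/-!
# Sylow-type subgroups given by their order (helper32)

A subgroup `P ≤ X` with `Nat.card P = p ^ (Nat.card X).factorization p` is a Sylow `p`-subgroup of
`X`; we collect maximality, conjugacy inside `P ⊔ L` and index facts in ambient-group form.
-/

set_option autoImplicit false

namespace Cfsg.Agent.H32

universe u

section Syl

variable {G : Type u} [Group G] [Finite G]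

/-- For `A ≤ B`: `|A| * [B : A] = |B|`. -/
theorem card_mul_relIndex' {A B : Subgroup G} (h : A ≤ B) :
    Nat.card A * A.relIndex B = Nat.card B := by
  have := Subgroup.relIndex_mul_relIndex (⊥ : Subgroup G) A B bot_le h
  rwa [Subgroup.relIndex_bot_left, Subgroup.relIndex_bot_left] at this

/-- Maximality of a subgroup of Sylow order. -/
theorem sylow_card_max {p : ℕ} [Fact p.Prime] {X P R : Subgroup G}
    (hPc : Nat.card P = p ^ (Nat.card X).factorization p)
    (hR : IsPGroup p R) (hPR : P ≤ R) (hRX : R ≤ X) : R = P := by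
  obtain ⟨n, hn⟩ := IsPGroup.iff_card.mp hR
  have hdvd : p ^ n ∣ Nat.card X := hn ▸ Subgroup.card_dvd_of_le hRX
  have hle : n ≤ (Nat.card X).factorization p :=
    (Nat.Prime.pow_dvd_iff_le_factorization Fact.out Nat.card_pos.ne').mp hdvd
  have : Nat.card R ≤ Nat.card P := by
    rw [hn, hPc]; exact Nat.pow_le_pow_right (Fact.out : p.Prime).pos hle
  exact (Subgroup.eq_of_le_of_card_ge hPR this).symm

/-- The index of a subgroup of Sylow order is prime to `p`. -/
theorem sylow_relIndex_not_dvd {p : ℕ} [Fact p.Prime] {X P : Subgroup G} (hPX : P ≤ X)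
    (hPc : Nat.card P = p ^ (Nat.card X).factorization p) : ¬ p ∣ P.relIndex X := by
  intro hdvd
  have h1 := card_mul_relIndex' hPX
  rw [hPc] at h1
  have h2 : p ^ ((Nat.card X).factorization p + 1) ∣
      p ^ (Nat.card X).factorization p * P.relIndex X := by
    rw [pow_succ]; exact mul_dvd_mul_left _ hdvd
  rw [h1] at h2
  exact Nat.pow_succ_factorization_not_dvd Nat.card_pos.ne' Fact.out h2

/-- In a finite group, an element conjugating `P` into itself normalises `P`. -/
theorem mem_normalizer_of_conj_le {P : Subgroup G} {g : G}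
    (h : ∀ a ∈ P, g * a * g⁻¹ ∈ P) : g ∈ Subgroup.normalizer (P : Set G) := by
  have hle : P.map (MulAut.conj g).toMonoidHom ≤ P := by
    rintro _ ⟨a, ha, rfl⟩
    exact h a ha
  have hcard : Nat.card (P.map (MulAut.conj g).toMonoidHom) = Nat.card P :=
    Subgroup.card_map_of_injective (MulAut.conj g).injective
  have heq : P.map (MulAut.conj g).toMonoidHom = P :=
    Subgroup.eq_of_le_of_card_ge hle hcard.ge
  rw [Subgroup.mem_normalizer_iff]
  intro a
  refine ⟨fun ha => h a ha, fun ha => ?_⟩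
  rw [← heq] at ha
  obtain ⟨b, hb, hba⟩ := ha
  have : b = a := by
    have hba' : g * b * g⁻¹ = g * a * g⁻¹ := hba
    simpa using hba'
  rwa [← this]

/-- A conjugate of an element of `P` which normalises `P` lies in `P` (for `P` of Sylow order in a
normal subgroup `X`). -/
theorem mem_of_conj_mem_normalizer {p : ℕ} [Fact p.Prime] {X P : Subgroup G} [hX : X.Normal]
    (hPX : P ≤ X) (hPc : Nat.card P = p ^ (Nat.card X).factorization p) {a : G} (ha : a ∈ P)
    (g : G) (hz : g * a * g⁻¹ ∈ Subgroup.normalizer (P : Set G)) : g * a * g⁻¹ ∈ P := by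
  have hP : IsPGroup p P := IsPGroup.of_card hPc
  obtain ⟨n, hn⟩ := hP ⟨a, ha⟩
  have han : a ^ p ^ n = 1 := by
    have := congrArg Subtype.val hn
    simpa using this
  have hzn : (g * a * g⁻¹) ^ p ^ n = 1 := by
    rw [conj_pow, han, mul_one, mul_inv_cancel]
  have hzp : IsPGroup p (Subgroup.zpowers (g * a * g⁻¹)) := by
    obtain ⟨j, -, hj⟩ := (Nat.dvd_prime_pow Fact.out).mp (orderOf_dvd_of_pow_eq_one hzn)
    exact IsPGroup.of_card (n := j) (by rw [Nat.card_zpowers, hj])
  have hle : Subgroup.zpowers (g * a * g⁻¹) ≤ Subgroup.normalizer (P : Set G) :=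
    (Subgroup.zpowers_le).mpr hz
  have hsup := IsPGroup.to_sup_of_normal_right' hzp hP hle
  have hzX : g * a * g⁻¹ ∈ X := hX.conj_mem a (hPX ha) g
  have hsupX : Subgroup.zpowers (g * a * g⁻¹) ⊔ P ≤ X :=
    sup_le ((Subgroup.zpowers_le).mpr hzX) hPX
  have := sylow_card_max hPc hsup le_sup_right hsupX
  rw [← this]
  exact Subgroup.mem_sup_left (Subgroup.mem_zpowers _)

/-- `P ⊓ core_G(N_G(P))` is normal in `G`. -/
theorem sylow_inf_core_normal {p : ℕ} [Fact p.Prime] {X P : Subgroup G} [hX : X.Normal]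
    (hPX : P ≤ X) (hPc : Nat.card P = p ^ (Nat.card X).factorization p) :
    (P ⊓ (Subgroup.normalizer (P : Set G)).normalCore).Normal := by
  constructor
  rintro a ⟨haP, hacore⟩ g
  have hc : g * a * g⁻¹ ∈ (Subgroup.normalizer (P : Set G)).normalCore :=
    (Subgroup.normalCore_normal _).conj_mem a hacore g
  exact ⟨mem_of_conj_mem_normalizer hPX hPc haP g (Subgroup.normalCore_le _ hc), hc⟩

/-- Sylow conjugacy inside `P ⊔ L`. -/
theorem sylow_conj_in_sup {p : ℕ} [Fact p.Prime] (X L P : Subgroup G) [L.Normal]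
    (hPX : P ≤ X) (hLX : L ≤ X) (hPc : Nat.card P = p ^ (Nat.card X).factorization p)
    (d : G) (hd : ∀ a ∈ P, d * a * d⁻¹ ∈ P ⊔ L) :
    ∃ l ∈ L, l⁻¹ * d ∈ Subgroup.normalizer (P : Set G) := by
  classical
  obtain ⟨Y, hY⟩ : ∃ Y : Subgroup G, Y = P ⊔ L := ⟨_, rfl⟩
  have hPY : P ≤ Y := hY ▸ le_sup_left
  have hYX : Y ≤ X := hY ▸ sup_le hPX hLX
  have hfac : (Nat.card Y).factorization p = (Nat.card X).factorization p := by
    apply le_antisymm
    · exact (Nat.factorization_le_iff_dvd Nat.card_pos.ne' Nat.card_pos.ne').mpr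
        (Subgroup.card_dvd_of_le hYX) p
    · have : p ^ (Nat.card X).factorization p ∣ Nat.card Y := hPc ▸ Subgroup.card_dvd_of_le hPY
      exact (Nat.Prime.pow_dvd_iff_le_factorization Fact.out Nat.card_pos.ne').mp this
  obtain ⟨P1, hP1⟩ : ∃ P1 : Subgroup G, P1 = P.map (MulAut.conj d).toMonoidHom := ⟨_, rfl⟩
  have hP1Y : P1 ≤ Y := by
    rw [hP1, hY]
    rintro _ ⟨a, ha, rfl⟩
    exact hd a ha
  have hP1c : Nat.card P1 = Nat.card P := by
    rw [hP1]; exact Subgroup.card_map_of_injective (MulAut.conj d).injective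
  have c1 : Nat.card (P.subgroupOf Y) = p ^ (Nat.card Y).factorization p := by
    rw [hfac, ← hPc]; exact Nat.card_congr (Subgroup.subgroupOfEquivOfLe hPY).toEquiv
  have c2 : Nat.card (P1.subgroupOf Y) = p ^ (Nat.card Y).factorization p := by
    rw [hfac, ← hPc, ← hP1c]; exact Nat.card_congr (Subgroup.subgroupOfEquivOfLe hP1Y).toEquiv
  obtain ⟨y, hy⟩ := MulAction.exists_smul_eq Y (Sylow.ofCard (P.subgroupOf Y) c1)
    (Sylow.ofCard (P1.subgroupOf Y) c2)
  have hmem : ∀ b : G, b ∈ P1 → (y : G)⁻¹ * b * y ∈ P := by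
    intro b hb
    have hbY : b ∈ Y := hP1Y hb
    have h1 : (⟨b, hbY⟩ : Y) ∈ ((y • Sylow.ofCard (P.subgroupOf Y) c1 : Sylow p Y) : Subgroup Y) := by
      rw [hy]; exact (Subgroup.mem_subgroupOf).mpr hb
    rw [Sylow.coe_subgroup_smul, Subgroup.mem_pointwise_smul_iff_inv_smul_mem] at h1
    have h2 : (MulAut.conj y)⁻¹ • (⟨b, hbY⟩ : Y) ∈ P.subgroupOf Y := h1
    rw [Subgroup.mem_subgroupOf] at h2
    have h3 : (((MulAut.conj y)⁻¹ • (⟨b, hbY⟩ : Y) : Y) : G) = (y : G)⁻¹ * b * y := by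
      rw [MulAut.smul_def, MulAut.conj_inv_apply]
      simp
    rwa [h3] at h2
  have hyY : (y : G) ∈ L ⊔ P := by rw [sup_comm, ← hY]; exact y.2
  rw [← SetLike.mem_coe, Subgroup.normal_mul] at hyY
  obtain ⟨l, hl, a, ha, hla⟩ := Set.mem_mul.mp hyY
  refine ⟨l, hl, mem_normalizer_of_conj_le fun b hb => ?_⟩
  have hb1 : d * b * d⁻¹ ∈ P1 := by
    rw [hP1]; exact ⟨b, hb, rfl⟩
  have h4 := hmem _ hb1
  rw [← hla] at h4
  have h5 : a * ((l * a)⁻¹ * (d * b * d⁻¹) * (l * a)) * a⁻¹ ∈ P :=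
    P.mul_mem (P.mul_mem ha h4) (P.inv_mem ha)
  have h6 : a * ((l * a)⁻¹ * (d * b * d⁻¹) * (l * a)) * a⁻¹ = l⁻¹ * d * b * (l⁻¹ * d)⁻¹ := by
    group
  rwa [h6] at h5

/-- If `X / K` is a `p`-group and `P` has Sylow order in `X`, then `X ≤ K P`. -/
theorem le_sup_sylow_of_relIndex {p : ℕ} [Fact p.Prime] (K X P : Subgroup G) (k : ℕ)
    (hidx : K.relIndex X = p ^ k) (hPX : P ≤ X)
    (hPc : Nat.card P = p ^ (Nat.card X).factorization p) : X ≤ K ⊔ P := by
  rw [← Subgroup.relIndex_eq_one]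
  have h1 : (K ⊔ P).relIndex X ∣ p ^ k := hidx ▸ Subgroup.relIndex_dvd_of_le_left X le_sup_left
  have h2 : (K ⊔ P).relIndex X ∣ P.relIndex X := Subgroup.relIndex_dvd_of_le_left X le_sup_right
  have h3 : ¬ p ∣ P.relIndex X := sylow_relIndex_not_dvd hPX hPc
  obtain ⟨j, -, hj⟩ := (Nat.dvd_prime_pow Fact.out).mp h1
  cases j with
  | zero => simpa using hj
  | succ j =>
    exfalso
    apply h3
    exact dvd_trans (hj ▸ dvd_pow_self p (Nat.succ_ne_zero j)) h2

/-- For `L` normal, `[L : L ∩ P] = [P L : P]`. -/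
theorem relIndex_sup_of_normal (P L : Subgroup G) [L.Normal] :
    P.relIndex L = P.relIndex (P ⊔ L) := by
  have e1 := card_mul_relIndex' (le_sup_right : L ≤ P ⊔ L)
  rw [Subgroup.relIndex_sup_right] at e1
  have e2 := card_mul_relIndex' (inf_le_left : P ⊓ L ≤ P)
  rw [Subgroup.inf_relIndex_left] at e2
  have e3 := card_mul_relIndex' (inf_le_right : P ⊓ L ≤ L)
  rw [Subgroup.inf_relIndex_right] at e3
  have e4 := card_mul_relIndex' (le_sup_left : P ≤ P ⊔ L)
  have hpos : 0 < Nat.card (P ⊓ L : Subgroup G) := Nat.card_pos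
  have hposP : 0 < Nat.card P := Nat.card_pos
  have : Nat.card P * P.relIndex L = Nat.card P * P.relIndex (P ⊔ L) := by
    rw [e4, ← e1, ← e3, ← e2]; ring
  exact Nat.eq_of_mul_eq_mul_left hposP this

/-- If `X / K` is a `p`-group, `P` has Sylow order in `X`, and the normal subgroup `L ≤ X` meets
`P` inside `K`, then `L ≤ K`. -/
theorem le_of_sylow_inf_le {p : ℕ} [Fact p.Prime] (K X P L : Subgroup G) [K.Normal] [L.Normal]
    (k : ℕ) (hKX : K ≤ X) (hidx : K.relIndex X = p ^ k) (hPX : P ≤ X)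
    (hPc : Nat.card P = p ^ (Nat.card X).factorization p) (hLX : L ≤ X)
    (hPL : P ⊓ L ≤ K) : L ≤ K := by
  rw [← Subgroup.relIndex_eq_one]
  have h1 : K.relIndex L ∣ p ^ k := by
    rw [← hidx, ← Subgroup.relIndex_sup_right L K]
    exact Dvd.intro _ (Subgroup.relIndex_mul_relIndex K (L ⊔ K) X le_sup_right (sup_le hLX hKX))
  have h2 : K.relIndex L ∣ P.relIndex X := by
    have a1 : K.relIndex L ∣ (P ⊓ L).relIndex L := Subgroup.relIndex_dvd_of_le_left L hPL
    rw [Subgroup.inf_relIndex_right, relIndex_sup_of_normal P L] at a1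
    exact dvd_trans a1
      (Dvd.intro _ (Subgroup.relIndex_mul_relIndex P (P ⊔ L) X le_sup_left (sup_le hPX hLX)))
  have h3 : ¬ p ∣ P.relIndex X := sylow_relIndex_not_dvd hPX hPc
  obtain ⟨j, -, hj⟩ := (Nat.dvd_prime_pow Fact.out).mp h1
  cases j with
  | zero => simpa using hj
  | succ j =>
    exfalso
    apply h3
    exact dvd_trans (hj ▸ dvd_pow_self p (Nat.succ_ne_zero j)) h2

/-- A normal subgroup not contained in the Fitting subgroup has a non-normal Sylow subgroup. -/
theorem exists_sylow_not_normal (K : Subgroup G) [hKn : K.Normal]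
    (hK : ¬ K ≤ Cfsg.fittingSubgroup G) :
    ∃ (p : ℕ) (_ : Fact p.Prime) (P : Subgroup G), P ≤ K ∧
      Nat.card P = p ^ (Nat.card K).factorization p ∧ ¬ P.Normal := by
  by_contra hcon
  push Not at hcon
  apply hK
  apply Cfsg.Agent.H1.le_fitting K
  refine ((Group.isNilpotent_of_finite_tfae (G := K)).out 0 3).mpr ?_
  intro p hp P
  have hle : (P : Subgroup K).map K.subtype ≤ K := by
    rintro _ ⟨a, -, rfl⟩; exact a.2
  have hc : Nat.card ((P : Subgroup K).map K.subtype) = p ^ (Nat.card K).factorization p := by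
    rw [Subgroup.card_map_of_injective K.subtype_injective]
    exact P.card_eq_multiplicity
  have hn := hcon p hp _ hle hc
  constructor
  intro a ha g
  have h1 : (a : G) ∈ (P : Subgroup K).map K.subtype := ⟨a, ha, rfl⟩
  have h2 := hn.conj_mem (a : G) h1 (g : G)
  obtain ⟨b, hb, hbe⟩ := h2
  have : b = g * a * g⁻¹ := Subtype.ext (by simpa using hbe)
  rwa [← this]

/-- If `G / K` is solvable and nontrivial, there is a normal `M > K` with `M / K` a `q`-group. -/
theorem exists_pgroup_over (K : Subgroup G) [K.Normal] (hsolv : Group.IsSolvable (G ⧸ K))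
    (hK : K ≠ ⊤) :
    ∃ (q : ℕ) (_ : Fact q.Prime) (M : Subgroup G) (k : ℕ), M.Normal ∧ K ≤ M ∧ K ≠ M ∧
      K.relIndex M = q ^ k := by
  have : Nontrivial (G ⧸ K) := by
    by_contra hnt
    rw [not_nontrivial_iff_subsingleton] at hnt
    exact hK (QuotientGroup.subgroup_eq_top_of_subsingleton K hnt)
  obtain ⟨q, N, hq, hNn, hNb, hNp⟩ := Cfsg.Agent.H1.exists_normal_pgroup (G := G ⧸ K)
  haveI : Fact q.Prime := ⟨hq⟩
  obtain ⟨k, hk⟩ := IsPGroup.iff_card.mp hNp
  refine ⟨q, inferInstance, N.comap (QuotientGroup.mk' K), k, hNn.comap _, ?_, ?_, ?_⟩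
  · intro x hx
    rw [Subgroup.mem_comap, QuotientGroup.mk'_apply, (QuotientGroup.eq_one_iff x).mpr hx]
    exact N.one_mem
  · intro h
    apply hNb
    rw [eq_bot_iff]
    intro x hx
    obtain ⟨g, rfl⟩ := QuotientGroup.mk_surjective x
    have hg : g ∈ N.comap (QuotientGroup.mk' K) := hx
    rw [← h] at hg
    exact (QuotientGroup.eq_one_iff g).mpr hg
  · have := Subgroup.relIndex_comap (H := (⊥ : Subgroup (G ⧸ K))) (QuotientGroup.mk' K)
      (N.comap (QuotientGroup.mk' K))
    rw [MonoidHom.comap_bot, QuotientGroup.ker_mk',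
      Subgroup.map_comap_eq_self_of_surjective (QuotientGroup.mk'_surjective K),
      Subgroup.relIndex_bot_left] at this
    rw [this, hk]

end Syl

end Cfsg.Agent.H32
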