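import Mathlib
import Cfsg.Prelude.Def_Characters
import Cfsg.Prelude.Def_Solvable
import Cfsg.Agent.H32.InvOver
import Cfsg.Agent.H32.SylowAux

/-!
# The Broline–Garrison theorem (Isaacs 12.19), helper32

For `χ ∈ Irr(G)` with kernel `K`, a Sylow-type subgroup `P` of a normal subgroup `X ≥ K` with
`X / K` a `p`-group, and `H = N_G(P)`: `G = K H`, `χ|_H` is irreducible, and
`(χ|_H)^G = χ · (1_H)^G`. Either some constituent `ψ` has `ψ(1) > χ(1)` (and then `ker ψ < K`),
or `χ` vanishes on `H ∖ core_G(H)`.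
-/

set_option autoImplicit false

namespace Cfsg.Agent.H32

open Cfsg Cfsg.Agent.H4 Cfsg.Agent.Clifford Cfsg.Agent.H82
open scoped ComplexConjugate

universe u

section BG

variable {G : Type u} [Group G] [Fintype G]

/-- Character values are bounded by the degree. -/
theorem char_norm_le_one {χ : G → ℂ} (hχ : IsCharacter G χ) :
    ∃ n : ℕ, χ 1 = n ∧ ∀ g, ‖χ g‖ ≤ n := by
  obtain ⟨n, ρ, rfl⟩ := hχ
  refine ⟨n, by simp [Representation.char_one], fun g => ?_⟩
  have := Cfsg.Agent.H4.character_norm_le ρ g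
  simpa using this

/-- The kernel of a character is contained in the kernel of each irreducible constituent. -/
theorem ker_of_constituent {ψ χ : G → ℂ} (hψ : IsCharacter G ψ) (hχ : IsIrrCharacter G χ)
    (h : classInner ψ χ ≠ 0) {d : G} (hd : ψ d = ψ 1) : χ d = χ 1 := by
  have hr := isCharacter_sub_irr hψ ⟨χ, hχ⟩ h
  obtain ⟨n, hn1, hn⟩ := char_norm_le_one (isCharacter_of_isIrrCharacter hχ)
  obtain ⟨m, hm1, hm⟩ := char_norm_le_one hr
  have e1 : ψ d = χ d + (ψ - χ) d := by simp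
  have e2 : ψ 1 = χ 1 + (ψ - χ) 1 := by simp
  have hre : (χ d).re + ((ψ - χ) d).re = n + m := by
    have h0 : χ d + (ψ - χ) d = χ 1 + (ψ - χ) 1 := e1.symm.trans (hd.trans e2)
    have := congrArg Complex.re h0
    rw [Complex.add_re, Complex.add_re, hn1, hm1] at this
    simpa using this
  have h1 : (χ d).re ≤ n := le_trans (Complex.re_le_norm _) (hn d)
  have h2 : ((ψ - χ) d).re ≤ m := le_trans (Complex.re_le_norm _) (hm d)
  have h3 : (χ d).re = n := by linarith
  have h4 : ‖χ d‖ ≤ (χ d).re := by rw [h3]; exact hn d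
  have h5 : (χ d).im = 0 := by
    have hsq : ‖χ d‖ ^ 2 = (χ d).re * (χ d).re + (χ d).im * (χ d).im := by
      rw [Complex.sq_norm, Complex.normSq_apply]
    have hnn : 0 ≤ ‖χ d‖ := norm_nonneg _
    have hre0 : 0 ≤ (χ d).re := by rw [h3]; exact Nat.cast_nonneg n
    have : (χ d).im * (χ d).im ≤ 0 := by nlinarith
    have h6 : (χ d).im * (χ d).im = 0 := le_antisymm this (mul_self_nonneg _)
    exact mul_self_eq_zero.mp h6
  rw [hn1]
  apply Complex.ext
  · simpa using h3
  · simpa using h5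

/-- If `G = K H` and `K ≤ ker χ`, then `χ|_H` is irreducible. -/
theorem irr_res_of_sup (K H : Subgroup G) [K.Normal] (hKH : K ⊔ H = ⊤) {χ : G → ℂ}
    (hχ : IsIrrCharacter G χ) (hK : ∀ k ∈ K, χ k = χ 1) :
    IsIrrCharacter H (fun h : H => χ h) := by
  obtain ⟨χ', hχ'⟩ := exists_deflate K ⟨χ, hχ⟩ hK
  have hsurj : Function.Surjective ((QuotientGroup.mk' K).comp H.subtype) := by
    intro q
    obtain ⟨g, rfl⟩ := QuotientGroup.mk_surjective q
    have hg : g ∈ K ⊔ H := by rw [hKH]; exact Subgroup.mem_top g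
    rw [← SetLike.mem_coe, Subgroup.normal_mul] at hg
    obtain ⟨k, hk, h, hh, rfl⟩ := Set.mem_mul.mp hg
    refine ⟨⟨h, hh⟩, ?_⟩
    change (QuotientGroup.mk h : G ⧸ K) = QuotientGroup.mk (k * h)
    rw [QuotientGroup.mk_mul, (QuotientGroup.eq_one_iff k).mpr hk, one_mul]
  have h1 := isIrrCharacter_comp_surjective _ hsurj χ'.2
  have h2 : (fun h : H => χ h) = fun h : H => χ'.1 (((QuotientGroup.mk' K).comp H.subtype) h) := by
    funext h
    have := congrArg (fun c : IrrCharacter G => c.1 (h : G)) hχ'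
    exact this.symm
  rw [h2]
  exact h1

/-- **Key lemma.** If `χ|_H` is irreducible then either some irreducible `ψ` of larger degree
lies over `χ|_H`, or `χ` vanishes on `H` outside the core of `H`. -/
theorem larger_or_vanish (H : Subgroup G) [Fintype H] {χ : G → ℂ} (hχ : IsIrrCharacter G χ)
    (hφ : IsIrrCharacter H (fun h : H => χ h)) :
    (∃ ψ : IrrCharacter G, charDegree χ < charDegree ψ.1 ∧
        classInner (fun h : H => ψ.1 h) (fun h : H => χ h) ≠ 0) ∨
      ∀ h ∈ H, χ h ≠ 0 → ∀ g : G, g⁻¹ * h * g ∈ H := by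
  classical
  by_cases hex : ∃ ψ : IrrCharacter G, charDegree χ < charDegree ψ.1 ∧
      classInner (fun h : H => ψ.1 h) (fun h : H => χ h) ≠ 0
  · exact Or.inl hex
  right
  push Not at hex
  letI := fintypeIrr G
  obtain ⟨φ, hφdef⟩ : ∃ φ : H → ℂ, φ = fun h : H => χ h := ⟨_, rfl⟩
  rw [← hφdef] at hφ hex
  have hΦ : IsCharacter G (indFun H φ) :=
    isCharacter_indFun H φ (isCharacter_of_isIrrCharacter hφ)
  obtain ⟨m, hm⟩ := isCharacter_iff.mp hΦ
  have hmψ : ∀ ψ : IrrCharacter G, (m ψ : ℂ) = classInner φ (fun h : H => ψ.1 h) := by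
    intro ψ
    rw [← frobenius_reciprocity H φ ψ.1 (irr_isClassFunction ψ), hm, classInner_finsum_irr]
  have hres : ∀ ψ : IrrCharacter G, m ψ ≠ 0 → (fun h : H => ψ.1 h) = φ := by
    intro ψ hmne
    have h1 : classInner φ (fun h : H => ψ.1 h) ≠ 0 := by
      rw [← hmψ]; exact_mod_cast hmne
    have h2 : classInner (fun h : H => ψ.1 h) φ ≠ 0 := by
      intro h0
      apply h1
      rw [← classInner_conj_symm, h0, map_zero]
    have hle : charDegree ψ.1 ≤ charDegree χ := by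
      by_contra hlt
      exact h2 (hex ψ (not_le.mp hlt))
    obtain ⟨r, hr, hr0⟩ := constituent_degree
      (isCharacter_restrict H (isCharacter_of_isIrrCharacter ψ.2)) ⟨φ, hφ⟩ h2
    have hr' : ψ.1 1 = χ 1 + r := by
      have : φ 1 = χ 1 := by rw [hφdef]; rfl
      rw [← this]; exact hr
    have e1 := irr_one_eq_charDegree ψ
    have e2 := irr_one_eq_charDegree (⟨χ, hχ⟩ : IrrCharacter G)
    have e3 : (charDegree ψ.1 : ℂ) = (charDegree χ : ℂ) + r := by
      rw [← e1, hr']; congr 1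
    have e4 : charDegree ψ.1 = charDegree χ + r := by exact_mod_cast e3
    exact hr0 (by omega)
  have hΦH : ∀ h : H, indFun H φ h = ((∑ ψ : IrrCharacter G, m ψ : ℕ) : ℂ) * χ h := by
    intro h
    rw [hm, finsum_irr_eq_sum]
    simp only [Finset.sum_apply, Pi.smul_apply, smul_eq_mul]
    push_cast
    rw [Finset.sum_mul]
    refine Finset.sum_congr rfl fun ψ _ => ?_
    by_cases hm0 : m ψ = 0
    · simp [hm0]
    · have := congrFun (hres ψ hm0) h
      rw [hφdef] at this
      have h' : ψ.1 (h : G) = χ (h : G) := this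
      rw [h']
  have hχ1 : χ 1 ≠ 0 := irr_one_ne_zero' hχ
  have hc : ((∑ ψ : IrrCharacter G, m ψ : ℕ) : ℂ) = (H.index : ℂ) := by
    have h1 := hΦH 1
    rw [show ((1 : H) : G) = 1 from rfl, indFun_one] at h1
    have : φ 1 = χ 1 := by rw [hφdef]; rfl
    rw [this] at h1
    exact (mul_right_cancel₀ hχ1 h1).symm
  intro h hh hne g
  by_contra hg
  have hcl : IsClassFunction G χ :=
    isClassFunction_of_isCharacter (isCharacter_of_isIrrCharacter hχ)
  have hext : ∀ x : G, extendByZero H φ (x⁻¹ * h * x) =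
      if x⁻¹ * h * x ∈ H then χ h else 0 := by
    intro x
    by_cases hx : x⁻¹ * h * x ∈ H
    · rw [if_pos hx]
      have h1 := extendByZero_coe H φ ⟨x⁻¹ * h * x, hx⟩
      rw [show ((⟨x⁻¹ * h * x, hx⟩ : H) : G) = x⁻¹ * h * x from rfl] at h1
      rw [h1, hφdef]
      have h2 := hcl h x⁻¹
      rw [inv_inv] at h2
      exact h2
    · rw [if_neg hx, extendByZero_of_not_mem H φ hx]
  have h2 := hΦH ⟨h, hh⟩
  rw [indFun_apply] at h2
  rw [show ((⟨h, hh⟩ : H) : G) = h from rfl] at h2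
  simp only [hext] at h2
  rw [hc, Finset.sum_ite, Finset.sum_const_zero, add_zero, Finset.sum_const, nsmul_eq_mul] at h2
  have hH0 : (Nat.card H : ℂ) ≠ 0 := by
    have : 0 < Nat.card H := Nat.card_pos
    exact_mod_cast this.ne'
  have hcard : ((Finset.univ.filter fun x : G => x⁻¹ * h * x ∈ H).card : ℂ) =
      (Nat.card H : ℂ) * H.index := by
    have h3 : ((Finset.univ.filter fun x : G => x⁻¹ * h * x ∈ H).card : ℂ) * χ h =
        (Nat.card H : ℂ) * H.index * χ h := by
      have h4 : (Nat.card H : ℂ) * ((Nat.card H : ℂ)⁻¹ *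
          (((Finset.univ.filter fun x : G => x⁻¹ * h * x ∈ H).card : ℂ) * χ h)) =
          (Nat.card H : ℂ) * ((H.index : ℂ) * χ h) := by rw [h2]
      rw [← mul_assoc, mul_inv_cancel₀ hH0, one_mul] at h4
      rw [h4]; ring
    exact mul_right_cancel₀ hne h3
  have hcard' : (Finset.univ.filter fun x : G => x⁻¹ * h * x ∈ H).card = Fintype.card G := by
    have h5 : ((Finset.univ.filter fun x : G => x⁻¹ * h * x ∈ H).card : ℂ) = (Nat.card G : ℂ) := by
      rw [hcard, ← Nat.cast_mul, Subgroup.card_mul_index]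
    rw [Nat.card_eq_fintype_card] at h5
    exact_mod_cast h5
  have hmem : g ∈ Finset.univ.filter fun x : G => x⁻¹ * h * x ∈ H := by
    rw [(Finset.card_eq_iff_eq_univ _).mp hcard']; exact Finset.mem_univ g
  exact hg (Finset.mem_filter.mp hmem).2

/-- Core of the Broline–Garrison argument. -/
theorem bg_core (K H : Subgroup G) [K.Normal] [Fintype H] (hKH : K ⊔ H = ⊤)
    {χ : G → ℂ} (hχ : IsIrrCharacter G χ) (hK : ∀ g, g ∈ K ↔ χ g = χ 1)
    (hvan : ¬ ∀ h ∈ H, χ h ≠ 0 → ∀ g : G, g⁻¹ * h * g ∈ H)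
    (hker : ∀ D : Subgroup G, D.Normal → (∀ d ∈ D, d ∈ H → d ∈ K) → D ≤ K) :
    ∃ ψ : IrrCharacter G, charDegree χ < charDegree ψ.1 ∧ irrKer ψ < K := by
  have hφ := irr_res_of_sup K H hKH hχ (fun k hk => (hK k).mp hk)
  rcases larger_or_vanish H hχ hφ with ⟨ψ, hdeg, hin⟩ | hv
  · refine ⟨ψ, hdeg, ?_⟩
    have hle : irrKer ψ ≤ K := by
      apply hker _ inferInstance
      intro d hd hdH
      rw [mem_irrKer] at hd
      have := ker_of_constituent (G := H) (ψ := fun h : H => ψ.1 h) (χ := fun h : H => χ h)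
        (isCharacter_restrict H (isCharacter_of_isIrrCharacter ψ.2)) hφ hin (d := ⟨d, hdH⟩) hd
      exact (hK d).mpr this
    refine lt_of_le_of_ne hle ?_
    intro heq
    have hψH := irr_res_of_sup K H hKH ψ.2 (fun k hk => by
      rw [← heq] at hk; exact (mem_irrKer ψ k).mp hk)
    have h0 := eq_of_classInner_ne_zero hψH hφ hin
    have h1 : ψ.1 1 = χ 1 := congrFun h0 1
    have e1 := irr_one_eq_charDegree ψ
    have e2 := irr_one_eq_charDegree (⟨χ, hχ⟩ : IrrCharacter G)
    have e3 : (charDegree ψ.1 : ℂ) = (charDegree χ : ℂ) := by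
      rw [← e1, h1]; exact e2
    have e4 : charDegree ψ.1 = charDegree χ := by exact_mod_cast e3
    omega
  · exact absurd hv hvan

/-- Broline–Garrison with a Sylow-type subgroup `P` of `X ≥ K`, `X / K` a `p`-group. -/
theorem bg_sylow (K X P : Subgroup G) [K.Normal] [X.Normal] (p : ℕ) [Fact p.Prime] (k : ℕ)
    (hKX : K ≤ X) (hidx : K.relIndex X = p ^ k) (hPX : P ≤ X)
    (hPc : Nat.card P = p ^ (Nat.card X).factorization p)
    {χ : G → ℂ} (hχ : IsIrrCharacter G χ) (hK : ∀ g, g ∈ K ↔ χ g = χ 1)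
    (hvan : ∃ a ∈ P, χ a ≠ 0 ∧ ∃ g : G, g⁻¹ * a * g ∉ Subgroup.normalizer (P : Set G)) :
    ∃ ψ : IrrCharacter G, charDegree χ < charDegree ψ.1 ∧ irrKer ψ < K := by
  classical
  haveI : Fintype (Subgroup.normalizer (P : Set G)) := Fintype.ofFinite _
  have hPH : P ≤ Subgroup.normalizer (P : Set G) := Subgroup.le_normalizer
  refine bg_core K (Subgroup.normalizer (P : Set G)) ?_ hχ hK ?_ ?_
  · -- `G = K N_G(P)`
    have hfr : Subgroup.normalizer (P : Set G) ⊔ X = ⊤ := by
      rw [eq_top_iff]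
      intro g _
      have hd : ∀ a ∈ P, g * a * g⁻¹ ∈ P ⊔ X := fun a ha =>
        Subgroup.mem_sup_right (‹X.Normal›.conj_mem a (hPX ha) g)
      obtain ⟨l, hl, hn⟩ := sylow_conj_in_sup X X P hPX le_rfl hPc g hd
      have : g = l * (l⁻¹ * g) := by group
      rw [this, sup_comm]
      exact Subgroup.mul_mem_sup hl hn
    have hXle : X ≤ K ⊔ Subgroup.normalizer (P : Set G) :=
      le_trans (le_sup_sylow_of_relIndex K X P k hidx hPX hPc) (sup_le_sup_left hPH K)
    rw [eq_top_iff, ← hfr]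
    exact sup_le le_sup_right hXle
  · intro hcon
    obtain ⟨a, ha, hne, g, hg⟩ := hvan
    exact hg (hcon a (hPH ha) hne g)
  · intro D hD hDH
    haveI := hD
    have hL : D ⊓ X ≤ K := by
      apply le_of_sylow_inf_le K X P (D ⊓ X) k hKX hidx hPX hPc inf_le_right
      rintro y ⟨hyP, hyD, -⟩
      exact hDH y hyD (hPH hyP)
    intro d hd
    have hdc : ∀ a ∈ P, d * a * d⁻¹ ∈ P ⊔ (D ⊓ X) := by
      intro a ha
      have h1 : d * a * d⁻¹ * a⁻¹ ∈ D ⊓ X := by
        refine ⟨?_, ?_⟩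
        · have : d * a * d⁻¹ * a⁻¹ = d * (a * d⁻¹ * a⁻¹) := by group
          rw [this]
          exact D.mul_mem hd (hD.conj_mem d⁻¹ (D.inv_mem hd) a)
        · exact X.mul_mem (‹X.Normal›.conj_mem a (hPX ha) d) (X.inv_mem (hPX ha))
      have h2 : d * a * d⁻¹ = (d * a * d⁻¹ * a⁻¹) * a := by group
      rw [h2, sup_comm]
      exact Subgroup.mul_mem_sup h1 ha
    obtain ⟨l, hl, hn⟩ := sylow_conj_in_sup X (D ⊓ X) P hPX inf_le_right hPc d hdc
    have h3 : l⁻¹ * d ∈ K := hDH _ (D.mul_mem (D.inv_mem hl.1) hd) hn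
    have : d = l * (l⁻¹ * d) := by group
    rw [this]
    exact K.mul_mem (hL hl) h3

end BG

end Cfsg.Agent.H32
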