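import Mathlib
import Cfsg.Prelude.Def_Characters
import Cfsg.Agent.Lib.Clifford
import Cfsg.Agent.Lib.CliffordCorr
import Cfsg.Agent.Lib.Gallagher
import Cfsg.Agent.Lib.ThompsonDeg
import Cfsg.Agent.H83.MinNormal
import Cfsg.Agent.H82.IndDeg

set_option autoImplicit false

namespace Cfsg.Agent.H32

open Cfsg Cfsg.Agent.H4 Cfsg.Agent.Clifford
open scoped ComplexConjugate commutatorElement

universe u

/-- If `ϑ` vanishes off the subgroup `N`, the norm of its restriction is `[X:N]` times its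
norm. -/
theorem res_norm_of_vanish {X : Type u} [Group X] [Fintype X] (N : Subgroup X) [Fintype N]
    (ϑ : X → ℂ) (hvan : ∀ x : X, x ∉ N → ϑ x = 0) :
    classInner (fun n : N => ϑ n) (fun n : N => ϑ n) = (N.index : ℂ) * classInner ϑ ϑ := by
  classical
  unfold classInner
  have hsum : ∑ x : X, ϑ x * conj (ϑ x) = ∑ n : N, ϑ n * conj (ϑ n) := by
    rw [← Finset.sum_subtype (Finset.univ.filter (fun x : X => x ∈ N)) (by simp)
      (fun x => ϑ x * conj (ϑ x))]
    rw [Finset.sum_filter_of_ne]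
    intro x _ hx
    by_contra hxN
    exact hx (by rw [hvan x hxN, zero_mul])
  rw [hsum]
  have hcard : (Nat.card N : ℂ) * (N.index : ℂ) = (Nat.card X : ℂ) := by
    exact_mod_cast Subgroup.card_mul_index N
  have hN0 : (Nat.card N : ℂ) ≠ 0 := by
    have : 0 < Nat.card N := Nat.card_pos
    exact_mod_cast this.ne'
  have hi0 : (N.index : ℂ) ≠ 0 := by
    have : N.index ≠ 0 := Subgroup.index_ne_zero_of_finite
    exact_mod_cast this
  rw [← hcard]
  field_simp

/-- If the twists of the irreducible character `ϑ` by the linear characters of `X/N`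
(`X/N` abelian) are pairwise distinct, then `ϑ` restricts irreducibly to `N`. -/
theorem irr_res_of_twists_injective {X : Type u} [Group X] [Fintype X] (N : Subgroup X)
    [N.Normal] (hN : commutator X ≤ N) (ϑ : IrrCharacter X)
    (hinj : ∀ l m : IrrCharacter X, l.1 1 = 1 → m.1 1 = 1 → (∀ n ∈ N, l.1 n = 1) →
      (∀ n ∈ N, m.1 n = 1) → (fun x => l.1 x * ϑ.1 x) = (fun x => m.1 x * ϑ.1 x) → l = m) :
    IsIrrCharacter N (fun n : N => ϑ.1 n) := by
  classical
  letI := fintypeIrr X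
  letI := fintypeIrr N
  haveI : Fintype N := Fintype.ofFinite N
  have hϑN : IsCharacter N (fun n : N => ϑ.1 n) :=
    isCharacter_restrict N (isCharacter_of_isIrrCharacter ϑ.2)
  obtain ⟨m, hm⟩ := isCharacter_iff.mp hϑN
  have hinner : ∀ ψ : IrrCharacter N, classInner (fun n : N => ϑ.1 n) ψ.1 = m ψ := by
    intro ψ
    conv_lhs => rw [hm]
    rw [classInner_finsum_irr]
  have hne : ∃ φ : IrrCharacter N, m φ ≠ 0 := by
    by_contra hcon
    push Not at hcon
    have h0 : (fun n : N => ϑ.1 n) = 0 := by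
      rw [hm, finsum_irr_eq_sum]
      refine Finset.sum_eq_zero fun ψ _ => ?_
      rw [hcon ψ]
      simp
    have h1 := congrFun h0 1
    exact irr_one_ne_zero' ϑ.2 h1
  obtain ⟨φ, hφ⟩ := hne
  have hφin : classInner (fun n : N => ϑ.1 n) φ.1 ≠ 0 := by
    rw [hinner]
    exact_mod_cast hφ
  -- the induced character
  have hA : IsCharacter X (indFun N φ.1) :=
    isCharacter_indFun N φ.1 (isCharacter_of_isIrrCharacter φ.2)
  obtain ⟨a, ha⟩ := isCharacter_iff.mp hA
  have hainner : ∀ ψ : IrrCharacter X, classInner (indFun N φ.1) ψ.1 = a ψ := by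
    intro ψ
    conv_lhs => rw [ha]
    rw [classInner_finsum_irr]
  have hA1 : indFun N φ.1 1 = ((∑ ψ : IrrCharacter X, a ψ * charDegree ψ.1 : ℕ) : ℂ) := by
    conv_lhs => rw [ha]
    exact Cfsg.Agent.H82.finsum_irr_one a
  have hA1' : indFun N φ.1 1 = ((N.index * charDegree φ.1 : ℕ) : ℂ) := by
    rw [Cfsg.Agent.H82.indFun_one, Cfsg.Agent.H82.irr_one_eq_charDegree]
    push_cast
    rfl
  have hdeg : N.index * charDegree φ.1 = ∑ ψ : IrrCharacter X, a ψ * charDegree ψ.1 := by
    have := hA1'.symm.trans hA1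
    exact_mod_cast this
  -- the linear characters of X/N
  obtain ⟨Λ, hΛ⟩ : ∃ Λ : Finset (IrrCharacter X), ∀ l, l ∈ Λ ↔
      (charDegree l.1 = 1 ∧ ∀ h ∈ N, l.1 h = 1) :=
    ⟨Finset.univ.filter (fun l => charDegree l.1 = 1 ∧ ∀ h ∈ N, l.1 h = 1), fun l => by simp⟩
  have hΛcard : Λ.card = N.index := by
    have h1 := Cfsg.Agent.ThompsonDeg.card_linear_trivial N
    rw [sup_eq_right.mpr hN] at h1
    rw [← h1, Nat.card_eq_fintype_card, Fintype.card_subtype]
    congr 1
    ext l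
    simp [hΛ]
  -- the twists
  have hj : ∀ l ∈ Λ, IsIrrCharacter X (fun x => l.1 x * ϑ.1 x) := fun l hl =>
    Cfsg.Agent.H83.isIrrCharacter_linear_mul l ϑ
      (Cfsg.Agent.ThompsonDeg.one_of_charDegree ((hΛ l).mp hl).1)
  obtain ⟨j, hjdef⟩ : ∃ j : IrrCharacter X → IrrCharacter X, ∀ l ∈ Λ,
      (j l).1 = fun x => l.1 x * ϑ.1 x := by
    refine ⟨fun l => if hl : l ∈ Λ then ⟨fun x => l.1 x * ϑ.1 x, hj l hl⟩ else ϑ, ?_⟩
    intro l hl
    simp [hl]
  have hjinj : Set.InjOn j (Λ : Set (IrrCharacter X)) := by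
    intro l hl l' hl' hll
    have hl0 := Finset.mem_coe.mp hl
    have hl0' := Finset.mem_coe.mp hl'
    apply hinj l l' (Cfsg.Agent.ThompsonDeg.one_of_charDegree ((hΛ l).mp hl0).1)
      (Cfsg.Agent.ThompsonDeg.one_of_charDegree ((hΛ l').mp hl0').1) ((hΛ l).mp hl0).2
      ((hΛ l').mp hl0').2
    rw [← hjdef l hl0, ← hjdef l' hl0', hll]
  have hja : ∀ l ∈ Λ, 1 ≤ a (j l) := by
    intro l hl
    have h1 : classInner (indFun N φ.1) (j l).1 ≠ 0 := by
      rw [frobenius_reciprocity N φ.1 (j l).1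
        (isClassFunction_of_isCharacter (isCharacter_of_isIrrCharacter (j l).2))]
      have h2 : (fun n : N => (j l).1 n) = fun n : N => ϑ.1 n := by
        funext n
        rw [hjdef l hl]
        show l.1 n * ϑ.1 n = ϑ.1 n
        rw [((hΛ l).mp hl).2 n n.2, one_mul]
      rw [h2, ← classInner_conj_symm]
      simpa using hφin
    rw [hainner] at h1
    have h3 : a (j l) ≠ 0 := by exact_mod_cast h1
    omega
  have hjdeg : ∀ l ∈ Λ, charDegree (j l).1 = charDegree ϑ.1 := by
    intro l hl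
    have h1 : (j l).1 1 = ϑ.1 1 := by
      rw [hjdef l hl]
      show l.1 1 * ϑ.1 1 = ϑ.1 1
      rw [Cfsg.Agent.ThompsonDeg.one_of_charDegree ((hΛ l).mp hl).1, one_mul]
    rw [Cfsg.Agent.H82.irr_one_eq_charDegree, Cfsg.Agent.H82.irr_one_eq_charDegree] at h1
    exact_mod_cast h1
  have hbound : N.index * charDegree ϑ.1 ≤ N.index * charDegree φ.1 := by
    rw [hdeg]
    calc N.index * charDegree ϑ.1 = ∑ l ∈ Λ, charDegree ϑ.1 := by
          rw [Finset.sum_const, smul_eq_mul, hΛcard]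
      _ ≤ ∑ l ∈ Λ, a (j l) * charDegree (j l).1 := by
          refine Finset.sum_le_sum fun l hl => ?_
          rw [hjdeg l hl]
          exact Nat.le_mul_of_pos_left _ (hja l hl)
      _ = ∑ ψ ∈ Λ.image j, a ψ * charDegree ψ.1 := by
          rw [Finset.sum_image hjinj]
      _ ≤ ∑ ψ : IrrCharacter X, a ψ * charDegree ψ.1 :=
          Finset.sum_le_sum_of_subset (Finset.subset_univ _)
  have hipos : 0 < N.index := Nat.pos_of_ne_zero Subgroup.index_ne_zero_of_finite
  have hle : charDegree ϑ.1 ≤ charDegree φ.1 := Nat.le_of_mul_le_mul_left hbound hipos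
  obtain ⟨r, hr, hr0⟩ := Cfsg.Agent.H82.constituent_degree hϑN φ hφin
  have hr' : charDegree ϑ.1 = charDegree φ.1 + r := by
    have h2 : ϑ.1 1 = φ.1 1 + r := hr
    rw [Cfsg.Agent.H82.irr_one_eq_charDegree, Cfsg.Agent.H82.irr_one_eq_charDegree] at h2
    exact_mod_cast h2
  have hr00 : r = 0 := by omega
  rw [hr0 hr00]
  exact φ.2


/-- Clifford decomposition of the restriction to `L` of a `G`-invariant irreducible character
of `K`, where `L ≤ K` are normal in `G` and `K/L` is abelian: with `T` the inertia group in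
`K` of a constituent `φ` (which is normal in `G`), the restriction is `e • φ` if `T = K` and
`e` times a sum of `[K:L]` distinct irreducible characters if `T = L`. -/
theorem clifford_invariant_decomp {G : Type u} [Group G] [Fintype G] (K L : Subgroup G)
    [hK : K.Normal] [hL : L.Normal] (hLK : L ≤ K) (hab : ⁅K, K⁆ ≤ L) (ϑ : K → ℂ)
    (hϑ : IsIrrCharacter K ϑ)
    (hinv : ∀ (g : G) (n : K), ϑ ⟨g * n * g⁻¹, hK.conj_mem (n : G) n.2 g⟩ = ϑ n) :
    ∃ (φ : L → ℂ) (e : ℕ) (T : Subgroup G), IsIrrCharacter L φ ∧ e ≠ 0 ∧ T.Normal ∧ L ≤ T ∧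
      T ≤ K ∧
      (T = K → (fun x : L => ϑ ⟨x, hLK x.2⟩) = (e : ℂ) • φ) ∧
      (T = L → ∃ F : Finset (L → ℂ), (∀ ψ ∈ F, IsIrrCharacter L ψ) ∧ F.card = L.relIndex K ∧
        (fun x : L => ϑ ⟨x, hLK x.2⟩) = (e : ℂ) • ∑ ψ ∈ F, ψ) := by
  classical
  letI := fintypeIrr L
  haveI : Fintype L := Fintype.ofFinite L
  haveI : Fintype K := Fintype.ofFinite K
  haveI : Fintype (L.subgroupOf K) := Fintype.ofFinite _
  obtain ⟨ϑL, hϑLdef⟩ : ∃ ϑL : L → ℂ, ϑL = fun x : L => ϑ ⟨x, hLK x.2⟩ := ⟨_, rfl⟩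
  rw [← hϑLdef]
  have hϑLchar : IsCharacter L ϑL := by
    rw [hϑLdef]
    exact isCharacter_comp (Subgroup.inclusion hLK) (isCharacter_of_isIrrCharacter hϑ)
  have hinvL : ∀ g : G, conjChar L ϑL g = ϑL := by
    intro g
    funext x
    rw [hϑLdef]
    exact hinv g ⟨x, hLK x.2⟩
  obtain ⟨m, hm⟩ := isCharacter_iff.mp hϑLchar
  have hinner : ∀ ψ : IrrCharacter L, classInner ϑL ψ.1 = m ψ := by
    intro ψ
    conv_lhs => rw [hm]
    rw [classInner_finsum_irr]
  have hne : ∃ φ : IrrCharacter L, m φ ≠ 0 := by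
    by_contra hcon
    push Not at hcon
    have h0 : ϑL = 0 := by
      rw [hm, finsum_irr_eq_sum]
      refine Finset.sum_eq_zero fun ψ _ => ?_
      rw [hcon ψ]
      simp
    have h1 : ϑL 1 = ϑ 1 := by
      rw [hϑLdef]
      rfl
    rw [h0] at h1
    exact irr_one_ne_zero' hϑ h1.symm
  obtain ⟨φ, hφ⟩ := hne
  -- transport of Clifford's theorem from `L.subgroupOf K` to `L`
  obtain ⟨ι, hι⟩ : ∃ ι : L.subgroupOf K ≃* L, ∀ n, ((ι n : L) : G) = ((n : K) : G) :=
    ⟨Subgroup.subgroupOfEquivOfLe hLK, fun n => rfl⟩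
  have hιs : ∀ x : L, (((ι.symm x : L.subgroupOf K) : K) : G) = (x : G) := by
    intro x
    rw [← hι (ι.symm x), MulEquiv.apply_symm_apply]
  have hres : (fun n : L.subgroupOf K => ϑ n) = fun n => ϑL (ι n) := by
    funext n
    rw [hϑLdef]
    exact congrArg ϑ (Subtype.ext (hι n).symm)
  have hF2 : ∀ ψ : IrrCharacter L, m ψ ≠ 0 → ∃ k ∈ K, ψ.1 = conjChar L φ.1 k := by
    intro ψ hψ
    have h1 : classInner (fun n : L.subgroupOf K => ϑ n) (fun n => φ.1 (ι n)) ≠ 0 := by
      rw [hres, classInner_comp_equiv ι, hinner]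
      exact_mod_cast hφ
    have h2 : classInner (fun n : L.subgroupOf K => ϑ n) (fun n => ψ.1 (ι n)) ≠ 0 := by
      rw [hres, classInner_comp_equiv ι, hinner]
      exact_mod_cast hψ
    obtain ⟨k, hk⟩ := clifford_conj (L.subgroupOf K) hϑ (isIrrCharacter_comp_equiv ι φ.2)
      (isIrrCharacter_comp_equiv ι ψ.2) h1 h2
    refine ⟨k, k.2, ?_⟩
    funext x
    have h3 := congrFun hk (ι.symm x)
    simp only [MulEquiv.apply_symm_apply] at h3
    rw [h3, conjChar_apply, conjChar_apply]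
    refine congrArg φ.1 (Subtype.ext ?_)
    rw [hι]
    simp [hιs]
  have hmult : ∀ g : G, classInner ϑL (conjChar L φ.1 g) = classInner ϑL φ.1 := by
    intro g
    have h := classInner_conjChar L ϑL φ.1 g
    rw [hinvL g] at h
    exact h
  have hmconj : ∀ (ψ : IrrCharacter L) (g : G), ψ.1 = conjChar L φ.1 g → m ψ = m φ := by
    intro ψ g hψ
    have h1 := hinner ψ
    rw [hψ, hmult g, hinner φ] at h1
    exact_mod_cast h1.symm
  have hmeq : ∀ ψ : IrrCharacter L, m ψ ≠ 0 → m ψ = m φ := by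
    intro ψ hψ
    obtain ⟨k, -, hk⟩ := hF2 ψ hψ
    exact hmconj ψ k hk
  have hGK : ∀ g : G, ∃ k ∈ K, conjChar L φ.1 g = conjChar L φ.1 k := by
    intro g
    have h1 : m ⟨conjChar L φ.1 g, isIrrCharacter_conjChar L φ.2 g⟩ ≠ 0 := by
      rw [hmconj ⟨conjChar L φ.1 g, isIrrCharacter_conjChar L φ.2 g⟩ g rfl]
      exact hφ
    exact hF2 _ h1
  have hLI : L ≤ Clifford.inertia L φ.1 :=
    Clifford.le_inertia L (isClassFunction_of_isCharacter (isCharacter_of_isIrrCharacter φ.2))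
  have hTn : (Clifford.inertia L φ.1 ⊓ K).Normal := by
    constructor
    intro t ht g
    obtain ⟨k, hkK, hk⟩ := hGK g
    have ha : g * k⁻¹ ∈ Clifford.inertia L φ.1 := by
      rw [Clifford.mem_inertia, ← conjChar_conjChar, hk, conjChar_conjChar, mul_inv_cancel, conjChar_one]
    have hkt : k * t * k⁻¹ ∈ Clifford.inertia L φ.1 ⊓ K := by
      refine ⟨?_, K.mul_mem (K.mul_mem hkK ht.2) (K.inv_mem hkK)⟩
      have h1 : ⁅k, t⁆ ∈ L := hab (Subgroup.commutator_mem_commutator hkK ht.2)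
      have h2 : k * t * k⁻¹ = ⁅k, t⁆ * t := by
        rw [commutatorElement_def]
        group
      rw [h2]
      exact (Clifford.inertia L φ.1).mul_mem (hLI h1) ht.1
    have h3 : g * t * g⁻¹ = (g * k⁻¹) * (k * t * k⁻¹) * (g * k⁻¹)⁻¹ := by group
    rw [h3]
    exact ⟨(Clifford.inertia L φ.1).mul_mem ((Clifford.inertia L φ.1).mul_mem ha hkt.1)
      ((Clifford.inertia L φ.1).inv_mem ha), hK.conj_mem _ hkt.2 _⟩
  refine ⟨φ.1, m φ, Clifford.inertia L φ.1 ⊓ K, φ.2, hφ, hTn, le_inf hLI hLK, inf_le_right, ?_, ?_⟩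
  · intro hT
    have hall : ∀ ψ : IrrCharacter L, ψ ≠ φ → m ψ = 0 := by
      intro ψ hψ
      by_contra h0
      obtain ⟨k, hkK, hk⟩ := hF2 ψ h0
      have hkI : k ∈ Clifford.inertia L φ.1 := by
        have : k ∈ Clifford.inertia L φ.1 ⊓ K := by
          rw [hT]
          exact hkK
        exact this.1
      rw [(Clifford.mem_inertia L).mp hkI] at hk
      exact hψ (Subtype.ext hk)
    conv_lhs => rw [hm]
    rw [finsum_irr_eq_sum, Finset.sum_eq_single φ]
    · intro ψ _ hψ
      rw [hall ψ hψ]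
      simp
    · intro h
      exact absurd (Finset.mem_univ φ) h
  · intro hT
    obtain ⟨F', hF'⟩ : ∃ F' : Finset (IrrCharacter L), ∀ ψ, ψ ∈ F' ↔ m ψ ≠ 0 :=
      ⟨Finset.univ.filter (fun ψ => m ψ ≠ 0), fun ψ => by simp⟩
    refine ⟨F'.image (fun ψ : IrrCharacter L => ψ.1), ?_, ?_, ?_⟩
    · intro f hf
      obtain ⟨ψ, -, rfl⟩ := Finset.mem_image.mp hf
      exact ψ.2
    · -- orbit-stabilizer
      letI act : MulAction K (L → ℂ) :=
        { smul := fun k f => conjChar L f ((k : G)⁻¹)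
          one_smul := by
            intro f
            show conjChar L f (((1 : K) : G)⁻¹) = f
            rw [Subgroup.coe_one, inv_one, conjChar_one]
          mul_smul := by
            intro a b f
            show conjChar L f (((a * b : K) : G)⁻¹) =
              conjChar L (conjChar L f ((b : G)⁻¹)) ((a : G)⁻¹)
            rw [conjChar_conjChar, Subgroup.coe_mul, mul_inv_rev] }
      have hsmul : ∀ (k : K) (f : L → ℂ), k • f = conjChar L f ((k : G)⁻¹) := fun _ _ => rfl
      have hstab : MulAction.stabilizer K φ.1 = L.subgroupOf K := by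
        ext k
        rw [MulAction.mem_stabilizer_iff, hsmul, ← Clifford.mem_inertia, inv_mem_iff,
          Subgroup.mem_subgroupOf]
        constructor
        · intro h
          have h' : (k : G) ∈ Clifford.inertia L φ.1 ⊓ K := ⟨h, k.2⟩
          rw [hT] at h'
          exact h'
        · intro h
          have h' : (k : G) ∈ Clifford.inertia L φ.1 ⊓ K := by
            rw [hT]
            exact h
          exact h'.1
      have horb : MulAction.orbit K φ.1 =
          (↑(F'.image (fun ψ : IrrCharacter L => ψ.1)) : Set (L → ℂ)) := by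
        ext f
        rw [MulAction.mem_orbit_iff, Finset.mem_coe, Finset.mem_image]
        constructor
        · rintro ⟨k, rfl⟩
          rw [hsmul]
          refine ⟨⟨conjChar L φ.1 ((k : G)⁻¹), isIrrCharacter_conjChar L φ.2 _⟩, ?_, rfl⟩
          rw [hF', hmconj _ ((k : G)⁻¹) rfl]
          exact hφ
        · rintro ⟨ψ, hψ, rfl⟩
          obtain ⟨k, hkK, hk⟩ := hF2 ψ ((hF' ψ).mp hψ)
          refine ⟨(⟨k, hkK⟩ : K)⁻¹, ?_⟩
          rw [hsmul, hk]
          congr 1
          simp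
      have h1 := MulAction.index_stabilizer K φ.1
      rw [hstab, horb, Set.ncard_coe_finset] at h1
      exact h1.symm
    · conv_lhs => rw [hm]
      rw [finsum_irr_eq_sum, Finset.sum_image (fun a _ b _ h => Subtype.ext h), Finset.smul_sum]
      have h1 : ∑ ψ : IrrCharacter L, (m ψ : ℂ) • ψ.1 = ∑ ψ ∈ F', (m ψ : ℂ) • ψ.1 := by
        symm
        apply Finset.sum_subset (Finset.subset_univ _)
        intro ψ _ hψ
        rw [hF'] at hψ
        push Not at hψ
        rw [hψ]
        simp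
      rw [h1]
      refine Finset.sum_congr rfl fun ψ hψ => ?_
      rw [hmeq ψ ((hF' ψ).mp hψ)]

end Cfsg.Agent.H32
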