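import Mathlib
import Cfsg.Prelude.Def_Characters
import Cfsg.Agent.H32.BrolGar
import Cfsg.Agent.H32.Isaacs618
import Cfsg.Agent.H4.IrrCount
import Cfsg.Agent.H82.Extra
import Cfsg.Agent.H82.IndDeg

/-!
# Groups with character degrees `1` and `p` (Isaacs 12.11), helper32

Tools for the `p`-group case: an irreducible character avoiding two given non-identity
elements in its kernel, characters vanishing off centralisers, and the induction on the order.
-/

set_option autoImplicit false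

namespace Cfsg.Agent.H32

open Cfsg Cfsg.Agent.H4 Cfsg.Agent.Clifford Cfsg.Agent.H82
open scoped ComplexConjugate

universe u

section DegP

variable {G : Type u} [Group G]

/-- Two non-identity elements are simultaneously outside the kernel of some irreducible
character. -/
theorem exists_irr_two_ne [Finite G] {a b : G} (ha : a ≠ 1) (hb : b ≠ 1) :
    ∃ χ : IrrCharacter G, χ.1 a ≠ χ.1 1 ∧ χ.1 b ≠ χ.1 1 := by
  classical
  haveI := Fintype.ofFinite G
  by_contra hcon
  push Not at hcon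
  letI := fintypeIrr G
  have key : ∀ χ : IrrCharacter G, χ.1 (a * b) + χ.1 1 = χ.1 a + χ.1 b := by
    intro χ
    by_cases h : χ.1 a = χ.1 1
    · have h2 := (irr_mul_of_mem_irrKer χ (x := a) h b).1
      rw [h2, h]; ring
    · have hb' := hcon χ h
      have h2 := (irr_mul_of_mem_irrKer χ (x := b) hb' a).2
      rw [h2, hb']
  have hS : ∀ g : G, ∑ χ : IrrCharacter G, χ.1 g * conj (χ.1 1) =
      (Nat.card {c : G // c * g * c⁻¹ = 1} : ℂ) := by
    intro g
    rw [← column_orthogonality g 1, finsum_irr_eq_sum]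
  have hz : ∀ g : G, g ≠ 1 → Nat.card {c : G // c * g * c⁻¹ = 1} = 0 := by
    intro g hg
    rw [Nat.card_eq_zero]
    left
    constructor
    rintro ⟨c, hc⟩
    exact hg (conj_eq_one_iff.mp hc)
  have h1 : Nat.card {c : G // c * (1 : G) * c⁻¹ = 1} = Nat.card G :=
    Nat.card_congr (Equiv.subtypeUnivEquiv (fun c => by simp))
  have hsum : ∑ χ : IrrCharacter G, (χ.1 (a * b) + χ.1 1) * conj (χ.1 1) =
      ∑ χ : IrrCharacter G, (χ.1 a + χ.1 b) * conj (χ.1 1) :=
    Finset.sum_congr rfl fun χ _ => by rw [key χ]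
  simp only [add_mul, Finset.sum_add_distrib] at hsum
  rw [hS, hS, hS, hS, hz a ha, hz b hb, h1] at hsum
  have h3 : (Nat.card {c : G // c * (a * b) * c⁻¹ = 1} + Nat.card G : ℕ) = 0 := by
    have : ((Nat.card {c : G // c * (a * b) * c⁻¹ = 1} + Nat.card G : ℕ) : ℂ) = 0 := by
      push_cast
      simpa using hsum
    exact_mod_cast this
  have := Nat.card_pos (α := G)
  omega

/-- If `g` is conjugate to `κ g` with `κ` central and `χ g ≠ 0`, then `κ ∈ ker χ`. -/
theorem irr_ker_of_central_conj [Finite G] (χ : IrrCharacter G) {κ y g : G}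
    (hκ : ∀ x : G, x * κ = κ * x) (hy : y * g * y⁻¹ = κ * g) (hg : χ.1 g ≠ 0) :
    χ.1 κ = χ.1 1 := by
  obtain ⟨c, hc, -, hc1⟩ := irr_central_scalar χ κ hκ
  apply hc1
  have h1 : χ.1 (y * g * y⁻¹) = χ.1 g := irr_conj χ g y
  rw [hy, hc] at h1
  have h2 : (c - 1) * χ.1 g = 0 := by rw [sub_mul, h1]; ring
  rcases mul_eq_zero.mp h2 with h | h
  · exact sub_eq_zero.mp h
  · exact absurd h hg

/-- A subgroup of prime order is contained in any subgroup meeting it non-trivially. -/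
theorem le_of_prime_card_of_mem {p : ℕ} (hp : p.Prime) {K N : Subgroup G}
    (hK : Nat.card K = p) {κ : G} (hκK : κ ∈ K) (hκN : κ ∈ N) (hκ : κ ≠ 1) : K ≤ N := by
  haveI : Finite K := Nat.finite_of_card_ne_zero (by rw [hK]; exact hp.ne_zero)
  have hle : K ⊓ N ≤ K := inf_le_left
  have hdvd : Nat.card ↥(K ⊓ N) ∣ p := hK ▸ Subgroup.card_dvd_of_le hle
  have hne : Nat.card ↥(K ⊓ N) ≠ 1 := by
    intro h1
    have h2 : K ⊓ N = ⊥ := Subgroup.card_eq_one.mp h1
    have h3 : κ ∈ (⊥ : Subgroup G) := h2 ▸ (⟨hκK, hκN⟩ : κ ∈ K ⊓ N)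
    exact hκ (Subgroup.mem_bot.mp h3)
  have hcard : Nat.card ↥(K ⊓ N) = p := ((Nat.dvd_prime hp).mp hdvd).resolve_left hne
  have h4 : K ⊓ N = K := Subgroup.eq_of_le_of_card_ge hle (by rw [hcard, hK])
  exact inf_eq_left.mp h4

/-- A subgroup of the centre is normal. -/
theorem normal_of_le_center' {K : Subgroup G} (h : K ≤ Subgroup.center G) : K.Normal :=
  ⟨fun n hn g => by
    have h1 := Subgroup.mem_center_iff.mp (h hn) g
    rw [h1, mul_inv_cancel_right]
    exact hn⟩

/-- If all commutators `[z, g]` lie in a central subgroup `K` of prime order `p` and `z` is not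
central, then the centraliser of `z` is normal of index `p`. -/
theorem centralizer_normal_index [Finite G] {p : ℕ} (hp : p.Prime) {K : Subgroup G}
    (hK : Nat.card K = p) (hKc : K ≤ Subgroup.center G) {z : G}
    (hz : ∀ g : G, z * g * z⁻¹ * g⁻¹ ∈ K) (hzc : z ∉ Subgroup.center G) :
    (Subgroup.centralizer ({z} : Set G)).Normal ∧
      (Subgroup.centralizer ({z} : Set G)).index = p := by
  let f : G →* G :=
    { toFun := fun g => z * g * z⁻¹ * g⁻¹
      map_one' := by group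
      map_mul' := by
        intro g h
        have hc := Subgroup.mem_center_iff.mp (hKc (hz h)) g⁻¹
        calc z * (g * h) * z⁻¹ * (g * h)⁻¹
            = z * g * z⁻¹ * (z * h * z⁻¹ * h⁻¹ * g⁻¹) := by group
          _ = z * g * z⁻¹ * (g⁻¹ * (z * h * z⁻¹ * h⁻¹)) := by rw [hc]
          _ = z * g * z⁻¹ * g⁻¹ * (z * h * z⁻¹ * h⁻¹) := by group }
  have hf : ∀ g, f g = z * g * z⁻¹ * g⁻¹ := fun g => rfl
  have hker : f.ker = Subgroup.centralizer ({z} : Set G) := by
    ext g
    rw [MonoidHom.mem_ker, hf, Subgroup.mem_centralizer_iff]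
    constructor
    · intro h x hx
      rw [Set.mem_singleton_iff] at hx
      subst hx
      have : x * g = (x * g * x⁻¹ * g⁻¹) * (g * x) := by group
      rw [this, h, one_mul]
    · intro h
      have h1 := h z (Set.mem_singleton z)
      rw [h1]; group
  rw [← hker]
  refine ⟨inferInstance, ?_⟩
  rw [Subgroup.index_ker]
  have hle : f.range ≤ K := by
    rintro _ ⟨g, rfl⟩
    exact hz g
  have hdvd : Nat.card f.range ∣ p := hK ▸ Subgroup.card_dvd_of_le hle
  have hne : Nat.card f.range ≠ 1 := by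
    intro h1
    have h2 : f.range = ⊥ := Subgroup.card_eq_one.mp h1
    apply hzc
    rw [Subgroup.mem_center_iff]
    intro g
    have h3 : f g ∈ (⊥ : Subgroup G) := h2 ▸ (⟨g, rfl⟩ : f g ∈ f.range)
    rw [Subgroup.mem_bot, hf] at h3
    have : g * z = (z * g * z⁻¹ * g⁻¹)⁻¹ * (z * g) := by group
    rw [this, h3, inv_one, one_mul]
  exact ((Nat.dvd_prime hp).mp hdvd).resolve_left hne

/-- A character vanishing off a proper subgroup has reducible restriction to it. -/
theorem not_irr_res_of_vanish_off [Finite G] (C : Subgroup G) (hC : C ≠ ⊤) (χ : IrrCharacter G)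
    (hv : ∀ g : G, g ∉ C → χ.1 g = 0) : ¬ IsIrrCharacter C (fun c : C => χ.1 c) := by
  classical
  haveI := Fintype.ofFinite G
  intro hirr
  have h1 := res_norm_of_vanish C χ.1 hv
  rw [classInner_irr_irr hirr hirr, classInner_irr_irr χ.2 χ.2, if_pos rfl, if_pos rfl,
    mul_one] at h1
  have h2 : C.index = 1 := by exact_mod_cast h1.symm
  exact hC (Subgroup.index_eq_one.mp h2)

/-- In a `p`-group, if the restriction of an irreducible character of degree at most `p` to a
subgroup `C` is reducible, then all commutators of `C` lie in its kernel. -/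
theorem res_comm_eq_of_not_irr [Finite G] {p : ℕ} (hp : p.Prime) (hG : IsPGroup p G)
    (C : Subgroup G) (χ : IrrCharacter G) (hdeg : charDegree χ.1 ≤ p)
    (hnot : ¬ IsIrrCharacter C (fun c : C => χ.1 c)) {x y : G} (hx : x ∈ C) (hy : y ∈ C) :
    χ.1 (x * y * x⁻¹ * y⁻¹) = χ.1 1 := by
  classical
  haveI := Fintype.ofFinite G
  letI := fintypeIrr C
  have : Fact p.Prime := ⟨hp⟩
  obtain ⟨φ, hφdef⟩ : ∃ φ : C → ℂ, φ = fun c : C => χ.1 c := ⟨_, rfl⟩
  have hφ : IsCharacter C φ := by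
    rw [hφdef]; exact isCharacter_restrict C (isCharacter_of_isIrrCharacter χ.2)
  obtain ⟨m, hm⟩ := isCharacter_iff.mp hφ
  rw [finsum_irr_eq_sum] at hm
  have hval : ∀ c : C, φ c = ∑ θ : IrrCharacter C, (m θ : ℂ) * θ.1 c := by
    intro c
    rw [hm]
    simp only [Finset.sum_apply, Pi.smul_apply, smul_eq_mul]
  -- degree equation
  have hdegsum : charDegree χ.1 = ∑ θ : IrrCharacter C, m θ * charDegree θ.1 := by
    have h1 : φ 1 = χ.1 1 := by rw [hφdef]; rfl
    have h2 := hval 1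
    rw [h1, irr_one_eq_charDegree χ] at h2
    have h3 : (charDegree χ.1 : ℂ) = ((∑ θ : IrrCharacter C, m θ * charDegree θ.1 : ℕ) : ℂ) := by
      rw [h2]; push_cast
      exact Finset.sum_congr rfl fun θ _ => by rw [irr_one_eq_charDegree θ]
    exact_mod_cast h3
  have hlin : ∀ θ : IrrCharacter C, m θ ≠ 0 → charDegree θ.1 = 1 := by
    intro θ hmθ
    by_contra hne
    have hdvd : charDegree θ.1 ∣ Nat.card C := charDegree_dvd_card θ
    obtain ⟨n, hn⟩ := (IsPGroup.iff_card).mp (hG.to_subgroup C)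
    rw [hn] at hdvd
    obtain ⟨j, -, hj⟩ := (Nat.dvd_prime_pow hp).mp hdvd
    have hj0 : j ≠ 0 := by
      rintro rfl
      exact hne (by rw [hj, pow_zero])
    have hple : p ≤ charDegree θ.1 := by
      rw [hj]
      calc p = p ^ 1 := (pow_one p).symm
        _ ≤ p ^ j := Nat.pow_le_pow_right hp.pos (Nat.one_le_iff_ne_zero.mpr hj0)
    have hterm : m θ * charDegree θ.1 ≤ ∑ θ' : IrrCharacter C, m θ' * charDegree θ'.1 :=
      Finset.single_le_sum (f := fun θ' : IrrCharacter C => m θ' * charDegree θ'.1)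
        (fun i _ => Nat.zero_le _) (Finset.mem_univ θ)
    have hmpos : 1 ≤ m θ := Nat.one_le_iff_ne_zero.mpr hmθ
    have hge : charDegree θ.1 ≤ m θ * charDegree θ.1 := Nat.le_mul_of_pos_left _ hmpos
    have hdp : charDegree θ.1 = p := by omega
    have hmd : m θ * charDegree θ.1 = p := by omega
    have hm1 : m θ = 1 := by
      rw [hdp] at hmd
      have : m θ * p = 1 * p := by rw [hmd, one_mul]
      exact Nat.eq_of_mul_eq_mul_right hp.pos this
    have hrest : ∀ θ' : IrrCharacter C, θ' ≠ θ → m θ' = 0 := by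
      intro θ' hθ'
      have hsplit : m θ * charDegree θ.1 + ∑ θ' ∈ Finset.univ.erase θ, m θ' * charDegree θ'.1 =
          ∑ θ' : IrrCharacter C, m θ' * charDegree θ'.1 :=
        Finset.add_sum_erase Finset.univ
          (fun θ' : IrrCharacter C => m θ' * charDegree θ'.1) (Finset.mem_univ θ)
      have hzero : ∑ θ' ∈ Finset.univ.erase θ, m θ' * charDegree θ'.1 = 0 := by
        omega
      have h0 := (Finset.sum_eq_zero_iff.mp hzero) θ'
        (Finset.mem_erase.mpr ⟨hθ', Finset.mem_univ _⟩)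
      rcases Nat.mul_eq_zero.mp h0 with h | h
      · exact h
      · exact absurd h (charDegree_pos θ').ne'
    apply hnot
    have hφθ : φ = θ.1 := by
      rw [hm, Finset.sum_eq_single θ]
      · rw [hm1]; simp
      · intro θ' _ hθ'
        rw [hrest θ' hθ']; simp
      · intro h; exact absurd (Finset.mem_univ θ) h
    rw [← hφdef, hφθ]
    exact θ.2
  have hcomm : ∀ θ : IrrCharacter C, m θ ≠ 0 → ∀ a b : C, θ.1 (a * b * a⁻¹ * b⁻¹) = θ.1 1 := by
    intro θ hmθ a b
    have h1 : θ.1 1 = 1 := by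
      rw [irr_one_eq_charDegree θ, hlin θ hmθ]; simp
    have hmul := irr_linear_mul θ h1
    have ha : θ.1 a * θ.1 a⁻¹ = 1 := by rw [← hmul, mul_inv_cancel, h1]
    have hb : θ.1 b * θ.1 b⁻¹ = 1 := by rw [← hmul, mul_inv_cancel, h1]
    rw [hmul, hmul, hmul, h1]
    calc θ.1 a * θ.1 b * θ.1 a⁻¹ * θ.1 b⁻¹ = (θ.1 a * θ.1 a⁻¹) * (θ.1 b * θ.1 b⁻¹) := by ring
      _ = 1 := by rw [ha, hb, mul_one]
  have e1 : χ.1 (x * y * x⁻¹ * y⁻¹) =
      φ ((⟨x, hx⟩ : C) * ⟨y, hy⟩ * (⟨x, hx⟩ : C)⁻¹ * (⟨y, hy⟩ : C)⁻¹) := by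
    rw [hφdef]; rfl
  have e2 : χ.1 1 = φ 1 := by rw [hφdef]; rfl
  rw [e1, e2, hval, hval]
  refine Finset.sum_congr rfl fun θ _ => ?_
  by_cases hmθ : m θ = 0
  · rw [hmθ]; simp
  · rw [hcomm θ hmθ]

/-- If an irreducible character `θ` of degree at most `p` vanishes off a subgroup `Z`, then
`|A| ≤ |Z| p²`. -/
theorem card_le_of_vanish_off [Finite G] (Z : Subgroup G) (θ : IrrCharacter G) {p : ℕ}
    (hdeg : charDegree θ.1 ≤ p) (hv : ∀ g : G, g ∉ Z → θ.1 g = 0) :
    Nat.card G ≤ Nat.card Z * p ^ 2 := by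
  classical
  haveI := Fintype.ofFinite G
  have h1 := res_norm_of_vanish Z θ.1 hv
  rw [classInner_irr_irr θ.2 θ.2, if_pos rfl, mul_one] at h1
  unfold classInner at h1
  obtain ⟨n, hn1, hnle⟩ := char_norm_le_one (isCharacter_of_isIrrCharacter θ.2)
  have hnd : n = charDegree θ.1 := by
    have := irr_one_eq_charDegree θ
    rw [hn1] at this
    exact_mod_cast this
  have hterm : ∀ z : Z, θ.1 z * conj (θ.1 z) = ((‖θ.1 z‖ ^ 2 : ℝ) : ℂ) := by
    intro z
    rw [Complex.mul_conj, Complex.normSq_eq_norm_sq]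
  have hsum : (Nat.card Z : ℂ)⁻¹ * ∑ z : Z, θ.1 z * conj (θ.1 z) =
      (((Nat.card Z : ℝ)⁻¹ * ∑ z : Z, ‖θ.1 z‖ ^ 2 : ℝ) : ℂ) := by
    push_cast
    congr 1
    exact Finset.sum_congr rfl fun z _ => by rw [hterm z]; push_cast; rfl
  rw [hsum] at h1
  have h2 : (Nat.card Z : ℝ)⁻¹ * ∑ z : Z, ‖θ.1 z‖ ^ 2 = (Z.index : ℝ) := by exact_mod_cast h1
  have hZpos : (0 : ℝ) < Nat.card Z := by exact_mod_cast Nat.card_pos
  have h3 : ∑ z : Z, ‖θ.1 z‖ ^ 2 ≤ ∑ _z : Z, ((p : ℝ) ^ 2) := by
    refine Finset.sum_le_sum fun z _ => ?_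
    have hle : ‖θ.1 z‖ ≤ (p : ℝ) := by
      refine le_trans (hnle z) ?_
      rw [hnd]; exact_mod_cast hdeg
    exact pow_le_pow_left₀ (norm_nonneg _) hle 2
  rw [Finset.sum_const, Finset.card_univ, nsmul_eq_mul, ← Nat.card_eq_fintype_card] at h3
  have h4 : (Z.index : ℝ) ≤ (p : ℝ) ^ 2 := by
    rw [← h2, inv_mul_le_iff₀ hZpos]
    exact h3
  have h5 : Z.index ≤ p ^ 2 := by exact_mod_cast h4
  rw [← Subgroup.card_mul_index Z]
  exact Nat.mul_le_mul_left _ h5

/-- A subgroup of prime order has a non-identity element. -/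
theorem exists_ne_one_of_card_prime {p : ℕ} (hp : p.Prime) {K : Subgroup G}
    (hK : Nat.card K = p) : ∃ k ∈ K, k ≠ 1 := by
  have hKb : K ≠ ⊥ := by
    intro h
    rw [h, Subgroup.card_bot] at hK
    exact hp.one_lt.ne hK
  obtain ⟨⟨k, hk⟩, h⟩ := (Subgroup.ne_bot_iff_exists_ne_one).mp hKb
  exact ⟨k, hk, fun h1 => h (Subtype.ext h1)⟩

theorem comm_ne_one_of_ne {x y : G} (h : x * y ≠ y * x) : x * y * x⁻¹ * y⁻¹ ≠ 1 := by
  intro h1
  apply h
  have : x * y = (x * y * x⁻¹ * y⁻¹) * (y * x) := by group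
  rw [this, h1, one_mul]

/-- In a `p`-group with degrees at most `p` and no abelian normal subgroup of index `p`, an
element all of whose commutators lie in a central subgroup of order `p` is central. -/
theorem central_of_comm_mem [Finite G] {p : ℕ} (hp : p.Prime) (hG : IsPGroup p G)
    (hdeg : ∀ χ : IrrCharacter G, charDegree χ.1 ≤ p)
    (hno : ¬ ∃ A : Subgroup G, A.Normal ∧ (∀ a ∈ A, ∀ b ∈ A, a * b = b * a) ∧ A.index = p)
    {K : Subgroup G} (hK : Nat.card K = p) (hKc : K ≤ Subgroup.center G) {z : G}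
    (hz : ∀ g : G, z * g * z⁻¹ * g⁻¹ ∈ K) : z ∈ Subgroup.center G := by
  by_contra hzc
  obtain ⟨hCn, hCi⟩ := centralizer_normal_index hp hK hKc hz hzc
  apply hno
  refine ⟨_, hCn, ?_, hCi⟩
  intro x hx y hy
  by_contra hxy
  have hd : x * y * x⁻¹ * y⁻¹ ≠ 1 := comm_ne_one_of_ne hxy
  obtain ⟨k, hkK, hk1⟩ := exists_ne_one_of_card_prime hp hK
  obtain ⟨χ, hχd, hχk⟩ := exists_irr_two_ne hd hk1
  have hCtop : Subgroup.centralizer ({z} : Set G) ≠ ⊤ := by
    intro h
    rw [h, Subgroup.index_top] at hCi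
    exact hp.one_lt.ne hCi
  have hvan : ∀ g : G, g ∉ Subgroup.centralizer ({z} : Set G) → χ.1 g = 0 := by
    intro g hg
    by_contra hne
    have hκ1 : z * g * z⁻¹ * g⁻¹ ≠ 1 := by
      apply comm_ne_one_of_ne
      intro h
      apply hg
      rw [Subgroup.mem_centralizer_iff]
      intro w hw
      rw [Set.mem_singleton_iff] at hw
      subst hw
      exact h
    have hcen := Subgroup.mem_center_iff.mp (hKc (hz g))
    have hconj : z * g * z⁻¹ = (z * g * z⁻¹ * g⁻¹) * g := by group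
    have hker := irr_ker_of_central_conj χ hcen hconj hne
    have hle := le_of_prime_card_of_mem hp hK (hz g) (N := irrKer χ) hker hκ1
    exact hχk (hle hkK)
  have hnot := not_irr_res_of_vanish_off _ hCtop χ hvan
  exact hχd (res_comm_eq_of_not_irr hp hG _ χ (hdeg χ) hnot hx hy)

/-- A non-abelian `p`-group without abelian normal subgroups of index `p` has centre of index at
least `p³`. -/
theorem index_center_pow [Finite G] {p : ℕ} (hp : p.Prime) (hG : IsPGroup p G)
    (hnab : ¬ ∀ a b : G, a * b = b * a)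
    (hno : ¬ ∃ A : Subgroup G, A.Normal ∧ (∀ a ∈ A, ∀ b ∈ A, a * b = b * a) ∧ A.index = p) :
    ∃ j, 3 ≤ j ∧ (Subgroup.center G).index = p ^ j := by
  have : Fact p.Prime := ⟨hp⟩
  obtain ⟨n, hn⟩ := (IsPGroup.iff_card).mp hG
  have hdvd : (Subgroup.center G).index ∣ p ^ n := hn ▸ Subgroup.index_dvd_card _
  obtain ⟨j, -, hj⟩ := (Nat.dvd_prime_pow hp).mp hdvd
  refine ⟨j, ?_, hj⟩
  by_contra hj3
  push Not at hj3
  obtain ⟨x, hx⟩ : ∃ x : G, x ∉ Subgroup.center G := by
    by_contra h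
    push Not at h
    apply hnab
    intro a b
    exact (Subgroup.mem_center_iff.mp (h b) a)
  obtain ⟨S, hS⟩ : ∃ S : Set G, S = (Subgroup.center G : Set G) ∪ {x} := ⟨_, rfl⟩
  have hScomm : ∀ a ∈ S, ∀ b ∈ S, a * b = b * a := by
    intro a ha b hb
    rw [hS] at ha hb
    rcases ha with ha | ha
    · exact (Subgroup.mem_center_iff.mp ha b).symm
    · rcases hb with hb | hb
      · exact Subgroup.mem_center_iff.mp hb a
      · rw [Set.mem_singleton_iff] at ha hb; rw [ha, hb]
  obtain ⟨B, hB⟩ : ∃ B : Subgroup G, B = Subgroup.closure S := ⟨_, rfl⟩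
  have hBcomm : ∀ a ∈ B, ∀ b ∈ B, a * b = b * a := by
    intro a ha b hb
    rw [hB] at ha hb
    letI := Subgroup.closureCommGroupOfComm hScomm
    have := mul_comm (⟨a, ha⟩ : Subgroup.closure S) ⟨b, hb⟩
    exact congrArg Subtype.val this
  have hZB : Subgroup.center G ≤ B := fun g hg => by
    rw [hB]; exact Subgroup.subset_closure (by rw [hS]; exact Or.inl hg)
  have hxB : x ∈ B := by
    rw [hB]; exact Subgroup.subset_closure (by rw [hS]; exact Or.inr rfl)
  have hBdvd : B.index ∣ p ^ j := hj ▸ Subgroup.index_dvd_of_le hZB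
  obtain ⟨i, hij, hi⟩ := (Nat.dvd_prime_pow hp).mp hBdvd
  have hilt : i < j := by
    rcases Nat.lt_or_ge i j with h | h
    · exact h
    · exfalso
      have hij' : i = j := le_antisymm hij h
      have hidx : B.index = (Subgroup.center G).index := by rw [hi, hj, hij']
      have hcard : Nat.card B = Nat.card (Subgroup.center G) := by
        have h1 := Subgroup.card_mul_index B
        have h2 := Subgroup.card_mul_index (Subgroup.center G)
        rw [hidx] at h1
        have hpos : 0 < (Subgroup.center G).index :=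
          Nat.pos_of_ne_zero Subgroup.index_ne_zero_of_finite
        exact Nat.eq_of_mul_eq_mul_right hpos (h1.trans h2.symm)
      have hBZ : Subgroup.center G = B := Subgroup.eq_of_le_of_card_ge hZB (le_of_eq hcard)
      exact hx (hBZ ▸ hxB)
  have hi01 : i = 0 ∨ i = 1 := by omega
  rcases hi01 with rfl | rfl
  · rw [pow_zero] at hi
    have hBtop : B = ⊤ := Subgroup.index_eq_one.mp hi
    apply hnab
    intro a b
    exact hBcomm a (hBtop ▸ Subgroup.mem_top a) b (hBtop ▸ Subgroup.mem_top b)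
  · rw [pow_one] at hi
    apply hno
    refine ⟨B, ?_, hBcomm, hi⟩
    apply Subgroup.normal_of_index_eq_minFac_card
    rw [hi, hn]
    have hn0 : n ≠ 0 := by
      rintro rfl
      apply hnab
      rw [pow_zero] at hn
      have := (Nat.card_eq_one_iff_unique.mp hn).1
      intro a b; rw [Subsingleton.elim a b]
    exact (hp.pow_minFac hn0).symm

/-- The counting step: a non-abelian normal subgroup `A` of index `p` whose commutators lie in
a central subgroup of order `p` forces `|G| ≤ |Z(G)| p³`. -/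
theorem card_le_center_mul [Finite G] {p : ℕ} (hp : p.Prime) (hG : IsPGroup p G)
    (hdeg : ∀ χ : IrrCharacter G, charDegree χ.1 ≤ p)
    {K : Subgroup G} (hK : Nat.card K = p) (hKc : K ≤ Subgroup.center G)
    (A : Subgroup G) (hAn : A.Normal) (hAi : A.index = p)
    (hAK : ∀ a ∈ A, ∀ b ∈ A, a * b * a⁻¹ * b⁻¹ ∈ K)
    (hAnab : ¬ ∀ a ∈ A, ∀ b ∈ A, a * b = b * a) :
    Nat.card G ≤ Nat.card (Subgroup.center G) * p ^ 3 := by
  obtain ⟨k, hkK, hk1⟩ := exists_ne_one_of_card_prime hp hK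
  have claim1 : ∀ χ : IrrCharacter G, χ.1 k ≠ χ.1 1 →
      IsIrrCharacter A (fun a : A => χ.1 a) := by
    intro χ hχk
    by_contra hnot
    apply hAnab
    intro x hx y hy
    by_contra hxy
    have hd : x * y * x⁻¹ * y⁻¹ ≠ 1 := comm_ne_one_of_ne hxy
    have h1 := res_comm_eq_of_not_irr hp hG A χ (hdeg χ) hnot hx hy
    have hle := le_of_prime_card_of_mem hp hK (hAK x hx y hy) (N := irrKer χ) h1 hd
    exact hχk (hle hkK)
  have claim2 : ∀ z ∈ A, (∀ a ∈ A, a * z = z * a) → z ∈ Subgroup.center G := by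
    intro z hzA hzc
    rw [Subgroup.mem_center_iff]
    intro g
    by_contra hne
    have hd : z * g * z⁻¹ * g⁻¹ ≠ 1 := comm_ne_one_of_ne (fun h => hne h.symm)
    obtain ⟨χ, hχd, hχk⟩ := exists_irr_two_ne hd hk1
    have hθ := claim1 χ hχk
    obtain ⟨c, hc, -, -⟩ := irr_central_scalar (⟨_, hθ⟩ : IrrCharacter A) ⟨z, hzA⟩ (by
      rintro ⟨a, ha⟩
      exact Subtype.ext (hzc a ha))
    have hgz : g * z⁻¹ * g⁻¹ ∈ A := hAn.conj_mem _ (A.inv_mem hzA) g
    have e1 : χ.1 (z * g * z⁻¹ * g⁻¹) = c * χ.1 (g * z⁻¹ * g⁻¹) := by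
      have h1 := hc ⟨g * z⁻¹ * g⁻¹, hgz⟩
      have e : z * g * z⁻¹ * g⁻¹ = z * (g * z⁻¹ * g⁻¹) := by group
      rw [e]; exact h1
    have e2 : χ.1 (z * z⁻¹) = c * χ.1 z⁻¹ := hc ⟨z⁻¹, A.inv_mem hzA⟩
    rw [mul_inv_cancel] at e2
    rw [irr_conj χ z⁻¹ g] at e1
    exact hχd (e1.trans e2.symm)
  obtain ⟨χ, hχk, -⟩ := exists_irr_two_ne hk1 hk1
  have hθ := claim1 χ hχk
  have hvan : ∀ a : A, a ∉ (Subgroup.center G).subgroupOf A →
      (⟨_, hθ⟩ : IrrCharacter A).1 a = 0 := by
    rintro ⟨a, ha⟩ hnc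
    rw [Subgroup.mem_subgroupOf] at hnc
    have hex : ¬ ∀ b ∈ A, b * a = a * b := fun h => hnc (claim2 a ha h)
    push Not at hex
    obtain ⟨b, hb, hba⟩ := hex
    change χ.1 a = 0
    by_contra hne
    have hκK := hAK b hb a ha
    have hκ1 : b * a * b⁻¹ * a⁻¹ ≠ 1 := comm_ne_one_of_ne hba
    have hcen := Subgroup.mem_center_iff.mp (hKc hκK)
    have hconj : b * a * b⁻¹ = (b * a * b⁻¹ * a⁻¹) * a := by group
    have hker := irr_ker_of_central_conj χ hcen hconj hne
    have hle := le_of_prime_card_of_mem hp hK hκK (N := irrKer χ) hker hκ1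
    exact hχk (hle hkK)
  have hcount := card_le_of_vanish_off ((Subgroup.center G).subgroupOf A)
    (⟨_, hθ⟩ : IrrCharacter A) (p := p) (hdeg χ) hvan
  have hZle : Nat.card ((Subgroup.center G).subgroupOf A) ≤ Nat.card (Subgroup.center G) := by
    apply Nat.card_le_card_of_injective
      (fun z : (Subgroup.center G).subgroupOf A =>
        (⟨((z : A) : G), Subgroup.mem_subgroupOf.mp z.2⟩ : Subgroup.center G))
    intro z1 z2 h
    apply Subtype.ext
    apply Subtype.ext
    exact congrArg (fun w : Subgroup.center G => (w : G)) h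
  have hGA : Nat.card G = Nat.card A * p := by
    rw [← hAi]; exact (Subgroup.card_mul_index A).symm
  calc Nat.card G = Nat.card A * p := hGA
    _ ≤ (Nat.card ((Subgroup.center G).subgroupOf A) * p ^ 2) * p :=
        Nat.mul_le_mul_right _ hcount
    _ ≤ (Nat.card (Subgroup.center G) * p ^ 2) * p :=
        Nat.mul_le_mul_right _ (Nat.mul_le_mul_right _ hZle)
    _ = Nat.card (Subgroup.center G) * p ^ 3 := by ring

end DegP

/-- **Isaacs 12.11 for `p`-groups.** A `p`-group whose irreducible character degrees are `1`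
and `p` is abelian, or has an abelian normal subgroup of index `p`, or has centre of index
`p³`. -/
theorem pgroup_deg_p (p : ℕ) (hp : p.Prime) :
    ∀ (n : ℕ) (G : Type u) [Group G] [Finite G], Nat.card G = n → IsPGroup p G →
      (∀ χ : IrrCharacter G, charDegree χ.1 = 1 ∨ charDegree χ.1 = p) →
      (∀ a b : G, a * b = b * a) ∨
        (∃ A : Subgroup G, A.Normal ∧ (∀ a ∈ A, ∀ b ∈ A, a * b = b * a) ∧ A.index = p) ∨
        (Subgroup.center G).index = p ^ 3 := by
  intro n
  induction n using Nat.strong_induction_on with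
  | _ n ih =>
  intro G _ _ hn hG hcd
  by_cases hab : ∀ a b : G, a * b = b * a
  · exact Or.inl hab
  by_cases hno : ∃ A : Subgroup G, A.Normal ∧ (∀ a ∈ A, ∀ b ∈ A, a * b = b * a) ∧ A.index = p
  · exact Or.inr (Or.inl hno)
  right; right
  have : Fact p.Prime := ⟨hp⟩
  have hdeg : ∀ χ : IrrCharacter G, charDegree χ.1 ≤ p := by
    intro χ
    rcases hcd χ with h | h
    · rw [h]; exact hp.one_lt.le
    · rw [h]
  haveI : Nontrivial G := by
    by_contra h
    rw [not_nontrivial_iff_subsingleton] at h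
    exact hab (fun a b => by rw [Subsingleton.elim a b])
  haveI := hG.center_nontrivial
  have hZp : IsPGroup p (Subgroup.center G) := hG.to_subgroup _
  have hpdvd : p ∣ Nat.card (Subgroup.center G) := by
    rcases hZp.card_eq_or_dvd with h | h
    · exact absurd h (Finite.one_lt_card).ne'
    · exact h
  obtain ⟨k0, hk0⟩ := exists_prime_orderOf_dvd_card' p hpdvd
  obtain ⟨k, hkdef⟩ : ∃ k : G, k = (k0 : G) := ⟨_, rfl⟩
  have hko : orderOf k = p := by rw [hkdef, Subgroup.orderOf_coe]; exact hk0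
  obtain ⟨K, hKdef⟩ : ∃ K : Subgroup G, K = Subgroup.zpowers k := ⟨_, rfl⟩
  have hK : Nat.card K = p := by rw [hKdef, Nat.card_zpowers, hko]
  have hKc : K ≤ Subgroup.center G := by
    rw [hKdef, Subgroup.zpowers_le, hkdef]; exact k0.2
  haveI hKn : K.Normal := normal_of_le_center' hKc
  have hcentral : ∀ z : G, (∀ g : G, z * g * z⁻¹ * g⁻¹ ∈ K) → z ∈ Subgroup.center G :=
    fun z hz => central_of_comm_mem hp hG hdeg hno hK hKc hz
  have hQcard : Nat.card (G ⧸ K) < n := by
    have h1 := Subgroup.card_eq_card_quotient_mul_card_subgroup K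
    rw [hn, hK] at h1
    have hpos : 0 < Nat.card (G ⧸ K) := Nat.card_pos
    have := hp.one_lt
    nlinarith
  have hQcd : ∀ χ : IrrCharacter (G ⧸ K), charDegree χ.1 = 1 ∨ charDegree χ.1 = p := by
    intro χ
    have h1 := hcd (inflate K χ)
    rwa [charDegree_inflate] at h1
  have hmk : ∀ z g : G, ((QuotientGroup.mk z : G ⧸ K) * QuotientGroup.mk g =
      QuotientGroup.mk g * QuotientGroup.mk z) → z * g * z⁻¹ * g⁻¹ ∈ K := by
    intro z g h
    rw [← QuotientGroup.eq_one_iff]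
    rw [QuotientGroup.mk_mul, QuotientGroup.mk_mul, QuotientGroup.mk_mul, QuotientGroup.mk_inv,
      QuotientGroup.mk_inv, h]
    group
  rcases ih _ hQcard (G ⧸ K) rfl (hG.to_quotient K) hQcd with h | ⟨Abar, hAn, hAc, hAi⟩ | h
  · exfalso
    apply hab
    intro a b
    have h1 := hcentral b (fun g => hmk b g (h _ _))
    exact Subgroup.mem_center_iff.mp h1 a
  · obtain ⟨A, hAdef⟩ : ∃ A : Subgroup G, A = Abar.comap (QuotientGroup.mk' K) := ⟨_, rfl⟩
    have hAnorm : A.Normal := by rw [hAdef]; exact hAn.comap _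
    have hAidx : A.index = p := by
      rw [hAdef, Subgroup.index_comap_of_surjective _ (QuotientGroup.mk'_surjective K)]
      exact hAi
    have hAK : ∀ a ∈ A, ∀ b ∈ A, a * b * a⁻¹ * b⁻¹ ∈ K := by
      intro a ha b hb
      apply hmk
      rw [hAdef] at ha hb
      exact hAc _ ha _ hb
    have hAnab : ¬ ∀ a ∈ A, ∀ b ∈ A, a * b = b * a := fun h => hno ⟨A, hAnorm, h, hAidx⟩
    have hle := card_le_center_mul hp hG hdeg hK hKc A hAnorm hAidx hAK hAnab
    obtain ⟨j, hj3, hj⟩ := index_center_pow hp hG hab hno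
    have h1 := Subgroup.card_mul_index (Subgroup.center G)
    rw [hj] at h1
    rw [← h1] at hle
    have hZpos : 0 < Nat.card (Subgroup.center G) := Nat.card_pos
    have h2 : p ^ j ≤ p ^ 3 := Nat.le_of_mul_le_mul_left hle hZpos
    have h3 : j ≤ 3 := (Nat.pow_le_pow_iff_right hp.one_lt).mp h2
    rw [hj, show j = 3 by omega]
  · have hcomap : (Subgroup.center (G ⧸ K)).comap (QuotientGroup.mk' K) = Subgroup.center G := by
      ext z
      rw [Subgroup.mem_comap]
      constructor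
      · intro hz
        apply hcentral
        intro g
        apply hmk
        exact (Subgroup.mem_center_iff.mp hz (QuotientGroup.mk g)).symm
      · intro hz
        rw [Subgroup.mem_center_iff]
        intro q
        obtain ⟨g, rfl⟩ := QuotientGroup.mk_surjective q
        change (QuotientGroup.mk g : G ⧸ K) * QuotientGroup.mk z =
          QuotientGroup.mk z * QuotientGroup.mk g
        rw [← QuotientGroup.mk_mul, ← QuotientGroup.mk_mul, Subgroup.mem_center_iff.mp hz g]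
    rw [← hcomap, Subgroup.index_comap_of_surjective _ (QuotientGroup.mk'_surjective K)]
    exact h

section DegP2

variable {G : Type u} [Group G]

theorem comm_mem_of_mk_comm (K : Subgroup G) [K.Normal] (z g : G)
    (h : (QuotientGroup.mk z : G ⧸ K) * QuotientGroup.mk g =
      QuotientGroup.mk g * QuotientGroup.mk z) : z * g * z⁻¹ * g⁻¹ ∈ K := by
  rw [← QuotientGroup.eq_one_iff]
  rw [QuotientGroup.mk_mul, QuotientGroup.mk_mul, QuotientGroup.mk_mul, QuotientGroup.mk_inv,
    QuotientGroup.mk_inv, h]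
  group

theorem comm_of_comm_eq_one {x y : G} (h : x * y * x⁻¹ * y⁻¹ = 1) : x * y = y * x := by
  by_contra hne
  exact comm_ne_one_of_ne hne h

/-- A linear character is trivial on commutators. -/
theorem irr_linear_comm (θ : IrrCharacter G) (h1 : θ.1 1 = 1) (a b : G) :
    θ.1 (a * b * a⁻¹ * b⁻¹) = 1 := by
  have hmul := irr_linear_mul θ h1
  have ha : θ.1 a * θ.1 a⁻¹ = 1 := by rw [← hmul, mul_inv_cancel, h1]
  have hb : θ.1 b * θ.1 b⁻¹ = 1 := by rw [← hmul, mul_inv_cancel, h1]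
  rw [hmul, hmul, hmul]
  calc θ.1 a * θ.1 b * θ.1 a⁻¹ * θ.1 b⁻¹ = (θ.1 a * θ.1 a⁻¹) * (θ.1 b * θ.1 b⁻¹) := by ring
    _ = 1 := by rw [ha, hb, mul_one]

/-- A non-abelian group has a non-linear irreducible character. -/
theorem exists_nonlinear_of_nonabelian [Finite G] (hG : ∃ a b : G, a * b ≠ b * a) :
    ∃ χ : IrrCharacter G, charDegree χ.1 ≠ 1 := by
  obtain ⟨a, b, hab⟩ := hG
  have hd : a * b * a⁻¹ * b⁻¹ ≠ 1 := comm_ne_one_of_ne hab
  obtain ⟨χ, hχ, -⟩ := exists_irr_two_ne hd hd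
  refine ⟨χ, fun h => hχ ?_⟩
  have h1 : χ.1 1 = 1 := by rw [irr_one_eq_charDegree χ, h]; simp
  rw [irr_linear_comm χ h1, h1]

/-- `χ(1)² ≤ |G : Z(G)|` for irreducible `χ`. -/
theorem sq_le_index_center [Finite G] (χ : IrrCharacter G) :
    charDegree χ.1 ^ 2 ≤ (Subgroup.center G).index := by
  classical
  haveI := Fintype.ofFinite G
  have h1 := classInner_irr_irr χ.2 χ.2
  rw [if_pos rfl] at h1
  unfold classInner at h1
  have hterm : ∀ g : G, χ.1 g * conj (χ.1 g) = ((‖χ.1 g‖ ^ 2 : ℝ) : ℂ) := by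
    intro g
    rw [Complex.mul_conj, Complex.normSq_eq_norm_sq]
  have hsum : (Nat.card G : ℂ)⁻¹ * ∑ g : G, χ.1 g * conj (χ.1 g) =
      (((Nat.card G : ℝ)⁻¹ * ∑ g : G, ‖χ.1 g‖ ^ 2 : ℝ) : ℂ) := by
    push_cast
    congr 1
    exact Finset.sum_congr rfl fun g _ => by rw [hterm g]; push_cast; rfl
  rw [hsum] at h1
  have h2 : (Nat.card G : ℝ)⁻¹ * ∑ g : G, ‖χ.1 g‖ ^ 2 = 1 := by exact_mod_cast h1
  have hGpos : (0 : ℝ) < Nat.card G := by exact_mod_cast Nat.card_pos
  have h3 : ∑ g : G, ‖χ.1 g‖ ^ 2 = (Nat.card G : ℝ) := by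
    have := (inv_mul_eq_iff_eq_mul₀ hGpos.ne').mp h2
    rw [this, mul_one]
  have hcen : ∀ z ∈ Subgroup.center G, ‖χ.1 z‖ ^ 2 = ((charDegree χ.1 : ℕ) : ℝ) ^ 2 := by
    intro z hz
    obtain ⟨c, hc, hck, -⟩ := irr_central_scalar χ z (Subgroup.mem_center_iff.mp hz)
    have hc1 : ‖c‖ = 1 :=
      Complex.norm_eq_one_of_pow_eq_one (hck (orderOf z) (pow_orderOf_eq_one z))
        (orderOf_pos z).ne'
    have h4 := hc 1
    rw [mul_one] at h4
    rw [h4, norm_mul, hc1, one_mul, irr_one_eq_charDegree χ, Complex.norm_natCast]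
  have h5 : ∑ g ∈ Finset.univ.filter (fun g : G => g ∈ Subgroup.center G), ‖χ.1 g‖ ^ 2 ≤
      ∑ g : G, ‖χ.1 g‖ ^ 2 :=
    Finset.sum_le_sum_of_subset_of_nonneg (Finset.filter_subset _ _)
      (fun g _ _ => sq_nonneg _)
  have h6 : ∑ g ∈ Finset.univ.filter (fun g : G => g ∈ Subgroup.center G), ‖χ.1 g‖ ^ 2 =
      (Nat.card (Subgroup.center G) : ℝ) * ((charDegree χ.1 : ℕ) : ℝ) ^ 2 := by
    rw [Finset.sum_congr rfl (fun g hg => hcen g (Finset.mem_filter.mp hg).2),
      Finset.sum_const, nsmul_eq_mul]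
    congr 2
    rw [Nat.card_eq_fintype_card, Fintype.card_subtype]
  rw [h6, h3] at h5
  have h7 : Nat.card (Subgroup.center G) * charDegree χ.1 ^ 2 ≤ Nat.card G := by
    exact_mod_cast h5
  rw [← Subgroup.card_mul_index (Subgroup.center G)] at h7
  exact Nat.le_of_mul_le_mul_left h7 Nat.card_pos

end DegP2

end Cfsg.Agent.H32
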