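import Mathlib

set_option autoImplicit false

namespace Cfsg.Agent.H32

section LinChar

variable {G : Type*} [Group G]

/-- Two linear characters of `W₁ ⊔ W₂` agreeing on `W₁` and on `W₂` are equal. -/
theorem hom_eq_of_eqOn (W₁ W₂ : Subgroup G) (ω ω' : ↥(W₁ ⊔ W₂) →* ℂˣ)
    (h₁ : ∀ w : ↥(W₁ ⊔ W₂), (w : G) ∈ W₁ → ω w = ω' w)
    (h₂ : ∀ w : ↥(W₁ ⊔ W₂), (w : G) ∈ W₂ → ω w = ω' w) : ω = ω' := by
  have hE : MonoidHom.eqLocus ω ω' = ⊤ := by
    apply top_le_iff.mp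
    have htop : W₁.subgroupOf (W₁ ⊔ W₂) ⊔ W₂.subgroupOf (W₁ ⊔ W₂) = ⊤ := by
      rw [← Subgroup.subgroupOf_sup le_sup_left le_sup_right, Subgroup.subgroupOf_self]
    rw [← htop, sup_le_iff]
    constructor
    · intro w hw
      exact h₁ w (Subgroup.mem_subgroupOf.mp hw)
    · intro w hw
      exact h₂ w (Subgroup.mem_subgroupOf.mp hw)
  ext w
  have : w ∈ MonoidHom.eqLocus ω ω' := by rw [hE]; trivial
  exact congrArg Units.val this

/-- The linear characters of a group, as complex functions, are linearly independent. -/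
theorem linearIndependent_unitsHom (W : Type*) [Group W] :
    LinearIndependent ℂ (fun ω : W →* ℂˣ => fun w : W => ((ω w : ℂˣ) : ℂ)) := by
  have h := linearIndependent_monoidHom W ℂ
  have hinj : Function.Injective (fun ω : W →* ℂˣ => (Units.coeHom ℂ).comp ω) := by
    intro ω ω' h
    ext w
    have := DFunLike.congr_fun h w
    simpa using this
  exact h.comp _ hinj

/-- The functions `(1 - φ)(1 - ψ)` for `φ ≠ 1` trivial on `W₂` and `ψ ≠ 1` trivial on `W₁` are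
linearly independent. -/
theorem linearIndependent_one_sub_mul (W₁ W₂ : Subgroup G) :
    LinearIndependent ℂ (fun p : {p : (↥(W₁ ⊔ W₂) →* ℂˣ) × (↥(W₁ ⊔ W₂) →* ℂˣ) //
        p.1 ≠ 1 ∧ p.2 ≠ 1 ∧ (∀ w : ↥(W₁ ⊔ W₂), (w : G) ∈ W₂ → p.1 w = 1) ∧
          (∀ w : ↥(W₁ ⊔ W₂), (w : G) ∈ W₁ → p.2 w = 1)} =>
      fun w : ↥(W₁ ⊔ W₂) => 1 - (p.1.1 w : ℂ) - (p.1.2 w : ℂ) + (p.1.1 w : ℂ) * (p.1.2 w : ℂ)) := by
  classical
  set e : (↥(W₁ ⊔ W₂) →* ℂˣ) → (↥(W₁ ⊔ W₂) → ℂ) := fun ω w => ((ω w : ℂˣ) : ℂ) with he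
  have hli : LinearIndependent ℂ e := linearIndependent_unitsHom ↥(W₁ ⊔ W₂)
  set d : {p : (↥(W₁ ⊔ W₂) →* ℂˣ) × (↥(W₁ ⊔ W₂) →* ℂˣ) //
        p.1 ≠ 1 ∧ p.2 ≠ 1 ∧ (∀ w : ↥(W₁ ⊔ W₂), (w : G) ∈ W₂ → p.1 w = 1) ∧
          (∀ w : ↥(W₁ ⊔ W₂), (w : G) ∈ W₁ → p.2 w = 1)} → ((↥(W₁ ⊔ W₂) →* ℂˣ) →₀ ℂ) :=
    fun p => Finsupp.single 1 1 - Finsupp.single p.1.1 1 - Finsupp.single p.1.2 1
      + Finsupp.single (p.1.1 * p.1.2) 1 with hd
  have hdli : LinearIndependent ℂ d := by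
    rw [linearIndependent_iff']
    intro s g hsum p₀ hp₀
    have h0 := DFunLike.congr_fun hsum (p₀.1.1 * p₀.1.2)
    rw [Finsupp.finsetSum_apply] at h0
    have hval : ∀ p, (g p • d p) (p₀.1.1 * p₀.1.2) = if p = p₀ then g p else 0 := by
      intro p
      obtain ⟨⟨φ, ψ⟩, hφ1, hψ1, hφ₂, hψ₁⟩ := p
      obtain ⟨⟨φ₀, ψ₀⟩, hφ₀1, hψ₀1, hφ₀₂, hψ₀₁⟩ := p₀
      simp only at hφ1 hψ1 hφ₂ hψ₁ hφ₀1 hψ₀1 hφ₀₂ hψ₀₁
      have ha : (1 : ↥(W₁ ⊔ W₂) →* ℂˣ) ≠ φ₀ * ψ₀ := by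
        intro h
        apply hφ₀1
        apply hom_eq_of_eqOn
        · intro w hw
          have := DFunLike.congr_fun h w
          rw [MonoidHom.mul_apply, hψ₀₁ w hw, mul_one] at this
          exact this.symm
        · intro w hw
          rw [hφ₀₂ w hw]; rfl
      have hb : φ ≠ φ₀ * ψ₀ := by
        intro h
        apply hψ₀1
        apply hom_eq_of_eqOn
        · intro w hw
          rw [hψ₀₁ w hw]; rfl
        · intro w hw
          have := DFunLike.congr_fun h w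
          rw [MonoidHom.mul_apply, hφ₀₂ w hw, one_mul, hφ₂ w hw] at this
          rw [← this]; rfl
      have hc : ψ ≠ φ₀ * ψ₀ := by
        intro h
        apply hφ₀1
        apply hom_eq_of_eqOn
        · intro w hw
          have := DFunLike.congr_fun h w
          rw [MonoidHom.mul_apply, hψ₀₁ w hw, mul_one, hψ₁ w hw] at this
          rw [← this]; rfl
        · intro w hw
          rw [hφ₀₂ w hw]; rfl
      have hdd : φ * ψ = φ₀ * ψ₀ ↔
          (⟨(φ, ψ), hφ1, hψ1, hφ₂, hψ₁⟩ : {p : (↥(W₁ ⊔ W₂) →* ℂˣ) × (↥(W₁ ⊔ W₂) →* ℂˣ) //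
            p.1 ≠ 1 ∧ p.2 ≠ 1 ∧ (∀ w : ↥(W₁ ⊔ W₂), (w : G) ∈ W₂ → p.1 w = 1) ∧
            (∀ w : ↥(W₁ ⊔ W₂), (w : G) ∈ W₁ → p.2 w = 1)}) =
            ⟨(φ₀, ψ₀), hφ₀1, hψ₀1, hφ₀₂, hψ₀₁⟩ := by
        constructor
        · intro h
          have e1 : φ = φ₀ := by
            apply hom_eq_of_eqOn
            · intro w hw
              have := DFunLike.congr_fun h w
              rw [MonoidHom.mul_apply, MonoidHom.mul_apply, hψ₀₁ w hw, mul_one, hψ₁ w hw,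
                mul_one] at this
              exact this
            · intro w hw
              rw [hφ₂ w hw, hφ₀₂ w hw]
          have e2 : ψ = ψ₀ := by
            apply hom_eq_of_eqOn
            · intro w hw
              rw [hψ₁ w hw, hψ₀₁ w hw]
            · intro w hw
              have := DFunLike.congr_fun h w
              rw [MonoidHom.mul_apply, MonoidHom.mul_apply, hφ₀₂ w hw, one_mul, hφ₂ w hw,
                one_mul] at this
              exact this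
          subst e1 e2
          rfl
        · intro h
          have h' := congrArg Subtype.val h
          simp only [Prod.mk.injEq] at h'
          rw [h'.1, h'.2]
      simp only [hd, Finsupp.smul_apply, Finsupp.add_apply, Finsupp.sub_apply,
        Finsupp.single_apply, smul_eq_mul]
      by_cases hpp : (⟨(φ, ψ), hφ1, hψ1, hφ₂, hψ₁⟩ :
          {p : (↥(W₁ ⊔ W₂) →* ℂˣ) × (↥(W₁ ⊔ W₂) →* ℂˣ) //
            p.1 ≠ 1 ∧ p.2 ≠ 1 ∧ (∀ w : ↥(W₁ ⊔ W₂), (w : G) ∈ W₂ → p.1 w = 1) ∧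
            (∀ w : ↥(W₁ ⊔ W₂), (w : G) ∈ W₁ → p.2 w = 1)}) =
            ⟨(φ₀, ψ₀), hφ₀1, hψ₀1, hφ₀₂, hψ₀₁⟩
      · rw [if_pos hpp, if_neg ha, if_neg hb, if_neg hc, if_pos (hdd.mpr hpp)]
        ring
      · rw [if_neg hpp, if_neg ha, if_neg hb, if_neg hc, if_neg (fun h => hpp (hdd.mp h))]
        ring
    rw [Finset.sum_congr rfl (fun p _ => hval p), Finset.sum_ite_eq' s p₀ g, if_pos hp₀] at h0
    exact h0
  have hmap := hdli.map' (Finsupp.linearCombination ℂ e) (linearIndependent_iff_ker.mp hli)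
  have hfun : (fun p : {p : (↥(W₁ ⊔ W₂) →* ℂˣ) × (↥(W₁ ⊔ W₂) →* ℂˣ) //
        p.1 ≠ 1 ∧ p.2 ≠ 1 ∧ (∀ w : ↥(W₁ ⊔ W₂), (w : G) ∈ W₂ → p.1 w = 1) ∧
          (∀ w : ↥(W₁ ⊔ W₂), (w : G) ∈ W₁ → p.2 w = 1)} =>
      fun w : ↥(W₁ ⊔ W₂) => 1 - (p.1.1 w : ℂ) - (p.1.2 w : ℂ) + (p.1.1 w : ℂ) * (p.1.2 w : ℂ)) =
      (Finsupp.linearCombination ℂ e) ∘ d := by
    funext p
    funext w
    simp only [Function.comp_apply, hd, map_add, map_sub, Finsupp.linearCombination_single,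
      one_smul, he, Pi.add_apply, Pi.sub_apply, MonoidHom.one_apply, Units.val_one,
      MonoidHom.mul_apply, Units.val_mul]
  rw [hfun]
  exact hmap

end LinChar

end Cfsg.Agent.H32
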