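import Mathlib
import Cfsg.Prelude.Def_OddOrderChar
import Cfsg.Prelude.Def_OddOrderLocal
import Cfsg.Agent.H4.Induction
import Cfsg.Agent.H32.LinChar

set_option autoImplicit false

namespace Cfsg.Agent.H32

open Cfsg.Agent.H4

section SNC

variable {G : Type*} [Group G]

/-- In a finite cyclic subgroup `W`, a subgroup `K` consists of all elements of `W` killed by
its order. -/
theorem mem_of_pow_card_eq_one_of_cyclic [Finite G] (K W : Subgroup G) (hKW : K ≤ W)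
    (hcyc : IsCyclic ↥W) {w : G} (hw : w ∈ W) (hpow : w ^ Nat.card K = 1) : w ∈ K := by
  classical
  have := hcyc
  have : Fintype ↥W := Fintype.ofFinite _
  have : Fintype ↥K := Fintype.ofFinite _
  have hpos : 0 < Nat.card K := Nat.card_pos
  have hle := IsCyclic.card_pow_eq_one_le (α := ↥W) hpos
  set I : Finset ↥W := Finset.univ.image (fun x : ↥K => (⟨x.1, hKW x.2⟩ : ↥W)) with hI
  have hIcard : I.card = Nat.card K := by
    rw [hI, Finset.card_image_of_injective, Finset.card_univ, Nat.card_eq_fintype_card]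
    intro x y hxy
    exact Subtype.ext (congrArg (fun z : ↥W => (z : G)) hxy)
  have hIS : I ⊆ Finset.univ.filter (fun a : ↥W => a ^ Nat.card K = 1) := by
    intro x hx
    rw [hI, Finset.mem_image] at hx
    obtain ⟨y, _, rfl⟩ := hx
    rw [Finset.mem_filter]
    refine ⟨Finset.mem_univ _, ?_⟩
    apply Subtype.ext
    have h1 : y ^ Nat.card K = 1 := pow_card_eq_one'
    have h2 : (y : G) ^ Nat.card K = 1 := by rw [← Subgroup.coe_pow, h1, Subgroup.coe_one]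
    rw [Subgroup.coe_pow, Subgroup.coe_one]
    exact h2
  have hEq := Finset.eq_of_subset_of_card_le hIS (by rw [hIcard]; exact hle)
  have hwS : (⟨w, hw⟩ : ↥W) ∈ Finset.univ.filter (fun a : ↥W => a ^ Nat.card K = 1) := by
    rw [Finset.mem_filter]
    refine ⟨Finset.mem_univ _, Subtype.ext ?_⟩
    rw [Subgroup.coe_pow, Subgroup.coe_one]
    exact hpow
  rw [← hEq, hI, Finset.mem_image] at hwS
  obtain ⟨y, _, hy⟩ := hwS
  have : (y : G) = w := congrArg (fun z : ↥W => (z : G)) hy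
  rw [← this]; exact y.2

/-- A conjugation stabilising a finite cyclic subgroup stabilises each of its subgroups. -/
theorem conj_mem_of_cyclic [Finite G] (K W : Subgroup G) (hKW : K ≤ W) (hcyc : IsCyclic ↥W)
    (g : G) (hg : ∀ w ∈ W, g * w * g⁻¹ ∈ W) {k : G} (hk : k ∈ K) : g * k * g⁻¹ ∈ K := by
  apply mem_of_pow_card_eq_one_of_cyclic K W hKW hcyc (hg k (hKW hk))
  have h1 : (⟨k, hk⟩ : ↥K) ^ Nat.card K = 1 := pow_card_eq_one'
  have h2 : k ^ Nat.card K = 1 := by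
    have h3 : ((⟨k, hk⟩ : ↥K) : G) ^ Nat.card K = 1 := by
      rw [← Subgroup.coe_pow, h1, Subgroup.coe_one]
    exact h3
  rw [conj_pow, h2, mul_one, mul_inv_cancel]

/-- `W = W₁ ⊔ W₂` is commutative. -/
theorem snc_comm (W₁ W₂ : Subgroup G) (hW : Cfsg.IsSelfNormalizingCyclic W₁ W₂) {a b : G}
    (ha : a ∈ W₁ ⊔ W₂) (hb : b ∈ W₁ ⊔ W₂) : a * b = b * a := by
  obtain ⟨_, _, _, _, hcyc, _⟩ := hW
  have := hcyc
  have := (IsCyclic.isMulCommutative (α := ↥(W₁ ⊔ W₂))).is_comm.comm ⟨a, ha⟩ ⟨b, hb⟩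
  exact congrArg (fun z : ↥(W₁ ⊔ W₂) => (z : G)) this

/-- The centralizer of an element of `W \ (W₁ ∪ W₂)` is contained in `W`. -/
theorem snc_mem_of_commute (W₁ W₂ : Subgroup G) (hW : Cfsg.IsSelfNormalizingCyclic W₁ W₂)
    {t x : G} (ht : t ∈ W₁ ⊔ W₂) (ht₁ : t ∉ W₁) (ht₂ : t ∉ W₂) (hx : x * t = t * x) :
    x ∈ W₁ ⊔ W₂ := by
  obtain ⟨_, _, _, _, _, hN⟩ := hW
  have hX : ({t} : Set G) ⊆ (↑(W₁ ⊔ W₂) : Set G) \ (↑W₁ ∪ ↑W₂) := by
    intro y hy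
    rw [Set.mem_singleton_iff] at hy
    subst hy
    exact ⟨ht, fun h => h.elim ht₁ ht₂⟩
  rw [← hN {t} hX (Set.singleton_nonempty t), Subgroup.mem_set_normalizer_iff]
  intro n
  simp only [Set.mem_singleton_iff]
  constructor
  · rintro rfl
    rw [hx, mul_assoc, mul_inv_cancel, mul_one]
  · intro h
    have h2 : n = x⁻¹ * t * x := by rw [← h]; group
    rw [h2, mul_assoc, ← hx, ← mul_assoc, inv_mul_cancel, one_mul]

/-- The trivial-intersection property of `W \ (W₁ ∪ W₂)`, in a strong form: an element `g`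
conjugating some element of `W \ (W₁ ∪ W₂)` into `W` lies in `W`. -/
theorem snc_mem_of_conj_mem [Finite G] (W₁ W₂ : Subgroup G)
    (hW : Cfsg.IsSelfNormalizingCyclic W₁ W₂) {t g : G} (ht : t ∈ W₁ ⊔ W₂) (ht₁ : t ∉ W₁)
    (ht₂ : t ∉ W₂) (hg : g * t * g⁻¹ ∈ W₁ ⊔ W₂) : g ∈ W₁ ⊔ W₂ := by
  have hW' := hW
  obtain ⟨_, _, _, _, hcyc, hN⟩ := hW
  -- `g⁻¹` maps `W` into `W`
  have hA : ∀ w ∈ W₁ ⊔ W₂, g⁻¹ * w * g⁻¹⁻¹ ∈ W₁ ⊔ W₂ := by
    intro w hw
    apply snc_mem_of_commute W₁ W₂ hW' ht ht₁ ht₂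
    have hc := snc_comm W₁ W₂ hW' hw hg
    have e1 : g⁻¹ * w * g⁻¹⁻¹ * t = g⁻¹ * (w * (g * t * g⁻¹)) * g := by group
    have e2 : t * (g⁻¹ * w * g⁻¹⁻¹) = g⁻¹ * ((g * t * g⁻¹) * w) * g := by group
    rw [e1, e2, hc]
  have hnorm : g⁻¹ ∈ Subgroup.normalizer ((W₁ ⊔ W₂ : Subgroup G) : Set G) :=
    Subgroup.mem_normalizer_fintype hA
  have hnorm' : g ∈ Subgroup.normalizer ((W₁ ⊔ W₂ : Subgroup G) : Set G) := by
    have := Subgroup.inv_mem _ hnorm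
    rwa [inv_inv] at this
  have hB : ∀ w ∈ W₁ ⊔ W₂, g * w * g⁻¹ ∈ W₁ ⊔ W₂ := by
    intro w hw
    exact (Subgroup.mem_set_normalizer_iff.mp hnorm' w).mp hw
  have hT : ((↑(W₁ ⊔ W₂) : Set G) \ (↑W₁ ∪ ↑W₂)).Nonempty :=
    ⟨t, ht, fun h => h.elim ht₁ ht₂⟩
  rw [← hN _ (subset_refl _) hT, Subgroup.mem_set_normalizer_iff]
  intro n
  constructor
  · rintro ⟨hn, hn'⟩
    refine ⟨hB n hn, ?_⟩
    rintro (h | h)
    · apply hn'
      left
      have := conj_mem_of_cyclic W₁ (W₁ ⊔ W₂) le_sup_left hcyc g⁻¹ hA h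
      have e : g⁻¹ * (g * n * g⁻¹) * g⁻¹⁻¹ = n := by group
      rwa [e] at this
    · apply hn'
      right
      have := conj_mem_of_cyclic W₂ (W₁ ⊔ W₂) le_sup_right hcyc g⁻¹ hA h
      have e : g⁻¹ * (g * n * g⁻¹) * g⁻¹⁻¹ = n := by group
      rwa [e] at this
  · rintro ⟨hn, hn'⟩
    have e : g⁻¹ * (g * n * g⁻¹) * g⁻¹⁻¹ = n := by group
    refine ⟨by have := hA _ hn; rwa [e] at this, ?_⟩
    rintro (h | h)
    · apply hn'
      left
      exact conj_mem_of_cyclic W₁ (W₁ ⊔ W₂) le_sup_left hcyc g hB h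
    · apply hn'
      right
      exact conj_mem_of_cyclic W₂ (W₁ ⊔ W₂) le_sup_right hcyc g hB h

/-- Induction from `W` restricts to the identity on `W \ (W₁ ∪ W₂)`. -/
theorem snc_indFun_apply [Fintype G] (W₁ W₂ : Subgroup G)
    (hW : Cfsg.IsSelfNormalizingCyclic W₁ W₂) (α : ↥(W₁ ⊔ W₂) → ℂ) (w : ↥(W₁ ⊔ W₂))
    (hw₁ : (w : G) ∉ W₁) (hw₂ : (w : G) ∉ W₂) :
    Cfsg.indFun (W₁ ⊔ W₂) α (w : G) = α w := by
  classical
  have : Fintype ↥(W₁ ⊔ W₂) := Fintype.ofFinite _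
  have hN : (Nat.card ↥(W₁ ⊔ W₂) : ℂ) ≠ 0 := by
    have : 0 < Nat.card ↥(W₁ ⊔ W₂) := Nat.card_pos
    exact_mod_cast this.ne'
  have claim : ∀ x : G, Cfsg.extendByZero (W₁ ⊔ W₂) α (x⁻¹ * (w : G) * x) =
      if x ∈ W₁ ⊔ W₂ then α w else 0 := by
    intro x
    split_ifs with hx
    · have e : x⁻¹ * (w : G) * x = (w : G) := by
        rw [mul_assoc, snc_comm W₁ W₂ hW w.2 hx, ← mul_assoc, inv_mul_cancel, one_mul]
      rw [e, extendByZero_coe]
    · apply extendByZero_of_not_mem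
      intro hmem
      apply hx
      have h1 : x⁻¹ * (w : G) * x⁻¹⁻¹ ∈ W₁ ⊔ W₂ := by rwa [inv_inv]
      have := snc_mem_of_conj_mem W₁ W₂ hW w.2 hw₁ hw₂ h1
      have h2 := Subgroup.inv_mem _ this
      rwa [inv_inv] at h2
  have hsum : ∑ x : G, (if x ∈ W₁ ⊔ W₂ then α w else 0) =
      (Nat.card ↥(W₁ ⊔ W₂) : ℂ) * α w := by
    rw [← Finset.sum_filter, Finset.sum_const, nsmul_eq_mul]
    congr 2
    exact (Nat.subtype_card _ (fun x => by simp)).symm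
  unfold Cfsg.indFun
  rw [Finset.sum_congr rfl (fun x _ => claim x), hsum, ← mul_assoc, inv_mul_cancel₀ hN, one_mul]

/-- Induction from `W` is an isometry on functions vanishing on `W₁ ∪ W₂`. -/
theorem snc_classInner_indFun [Fintype G] (W₁ W₂ : Subgroup G)
    (hW : Cfsg.IsSelfNormalizingCyclic W₁ W₂) [Fintype ↥(W₁ ⊔ W₂)] (α β : ↥(W₁ ⊔ W₂) → ℂ)
    (hα : ∀ w : ↥(W₁ ⊔ W₂), ((w : G) ∈ W₁ ∨ (w : G) ∈ W₂) → α w = 0) :
    Cfsg.classInner (Cfsg.indFun (W₁ ⊔ W₂) α) (Cfsg.indFun (W₁ ⊔ W₂) β) =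
      Cfsg.classInner α β := by
  rw [frobenius_reciprocity _ _ _ (indFun_isClassFunction _ _)]
  unfold Cfsg.classInner
  congr 1
  apply Finset.sum_congr rfl
  intro w _
  by_cases hw : (w : G) ∈ W₁ ∨ (w : G) ∈ W₂
  · rw [hα w hw, zero_mul, zero_mul]
  · push Not at hw
    show α w * (starRingEnd ℂ) (Cfsg.indFun (W₁ ⊔ W₂) β (w : G)) = _
    rw [snc_indFun_apply W₁ W₂ hW β w hw.1 hw.2]

/-- Unique factorisation of linear characters of `W₁ ⊔ W₂` as (trivial on `W₂`) times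
(trivial on `W₁`). -/
theorem snc_mul_eq_mul (W₁ W₂ : Subgroup G) (φ φ' ψ ψ' : ↥(W₁ ⊔ W₂) →* ℂˣ)
    (hφ : ∀ w : ↥(W₁ ⊔ W₂), (w : G) ∈ W₂ → φ w = 1)
    (hφ' : ∀ w : ↥(W₁ ⊔ W₂), (w : G) ∈ W₂ → φ' w = 1)
    (hψ : ∀ w : ↥(W₁ ⊔ W₂), (w : G) ∈ W₁ → ψ w = 1)
    (hψ' : ∀ w : ↥(W₁ ⊔ W₂), (w : G) ∈ W₁ → ψ' w = 1)
    (h : φ * ψ = φ' * ψ') : φ = φ' ∧ ψ = ψ' := by
  constructor
  · apply hom_eq_of_eqOn
    · intro w hw
      have := DFunLike.congr_fun h w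
      rw [MonoidHom.mul_apply, MonoidHom.mul_apply, hψ w hw, hψ' w hw, mul_one, mul_one] at this
      exact this
    · intro w hw
      rw [hφ w hw, hφ' w hw]
  · apply hom_eq_of_eqOn
    · intro w hw
      rw [hψ w hw, hψ' w hw]
    · intro w hw
      have := DFunLike.congr_fun h w
      rw [MonoidHom.mul_apply, MonoidHom.mul_apply, hφ w hw, hφ' w hw, one_mul, one_mul] at this
      exact this

end SNC

section LinOrth

variable {W : Type*} [Group W]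

/-- Complex conjugation inverts the values of a linear character of a finite group. -/
theorem unitsHom_conj [Finite W] (ω : W →* ℂˣ) (w : W) :
    (starRingEnd ℂ) ((ω w : ℂˣ) : ℂ) = ((ω⁻¹ w : ℂˣ) : ℂ) := by
  have h1 : ((ω w : ℂˣ) : ℂ) ^ (orderOf w) = 1 := by
    rw [← Units.val_pow_eq_pow_val, ← map_pow, pow_orderOf_eq_one, map_one, Units.val_one]
  have hn : ‖((ω w : ℂˣ) : ℂ)‖ = 1 :=
    Complex.norm_eq_one_of_pow_eq_one h1 (orderOf_pos w).ne'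
  rw [MonoidHom.inv_apply, Units.val_inv_eq_inv_val, Complex.inv_eq_conj hn]

/-- The values of a nontrivial linear character sum to zero. -/
theorem sum_unitsHom_eq_zero [Fintype W] (ω : W →* ℂˣ) (hω : ω ≠ 1) :
    ∑ w : W, ((ω w : ℂˣ) : ℂ) = 0 := by
  have : ∃ w₀, ω w₀ ≠ 1 := by
    by_contra h
    push Not at h
    exact hω (MonoidHom.ext h)
  obtain ⟨w₀, hw₀⟩ := this
  have h1 : ∑ w : W, ((ω w : ℂˣ) : ℂ) = ((ω w₀ : ℂˣ) : ℂ) * ∑ w : W, ((ω w : ℂˣ) : ℂ) := by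
    rw [Finset.mul_sum, ← Equiv.sum_comp (Equiv.mulLeft w₀) (fun w => ((ω w : ℂˣ) : ℂ))]
    apply Finset.sum_congr rfl
    intro w _
    simp [map_mul]
  have h2 : ((ω w₀ : ℂˣ) : ℂ) ≠ 1 := by
    intro h
    exact hw₀ (Units.ext h)
  have h3 : (1 - ((ω w₀ : ℂˣ) : ℂ)) * ∑ w : W, ((ω w : ℂˣ) : ℂ) = 0 := by
    linear_combination h1
  rcases mul_eq_zero.mp h3 with h | h
  · exact absurd (by linear_combination -h) h2
  · exact h

/-- Orthonormality of the linear characters of a finite group. -/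
theorem classInner_unitsHom [Fintype W] (ω ω' : W →* ℂˣ) [Decidable (ω = ω')] :
    Cfsg.classInner (fun w => ((ω w : ℂˣ) : ℂ)) (fun w => ((ω' w : ℂˣ) : ℂ)) =
      if ω = ω' then 1 else 0 := by
  unfold Cfsg.classInner
  have hN : (Nat.card W : ℂ) ≠ 0 := by
    have : 0 < Nat.card W := Nat.card_pos
    exact_mod_cast this.ne'
  have e : ∀ w, ((ω w : ℂˣ) : ℂ) * (starRingEnd ℂ) ((ω' w : ℂˣ) : ℂ) =
      (((ω * ω'⁻¹) w : ℂˣ) : ℂ) := by
    intro w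
    rw [unitsHom_conj, MonoidHom.mul_apply, Units.val_mul]
  rw [Finset.sum_congr rfl (fun w _ => e w)]
  split_ifs with h
  · subst h
    have h1 : ω * ω⁻¹ = 1 := mul_inv_cancel ω
    rw [h1]
    simp only [MonoidHom.one_apply, Units.val_one, Finset.sum_const, Finset.card_univ,
      nsmul_eq_mul, mul_one]
    rw [← Nat.card_eq_fintype_card, inv_mul_cancel₀ hN]
  · rw [sum_unitsHom_eq_zero, mul_zero]
    intro h'
    apply h
    exact mul_inv_eq_one.mp h'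

end LinOrth

end Cfsg.Agent.H32
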