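import Mathlib
import Cfsg.Prelude.Def_Characters
import Cfsg.Agent.H32.SNC

set_option autoImplicit false

namespace Cfsg.Agent.H32

section Dual

variable {A : Type*} [Group A] [Finite A]

/-- In a finite abelian group, an element outside a subgroup `H` is detected by a linear
character trivial on `H`. -/
theorem exists_hom_ne_one_of_not_mem (hcomm : ∀ a b : A, a * b = b * a) (H : Subgroup A)
    {x : A} (hx : x ∉ H) : ∃ φ : A →* ℂˣ, (∀ y ∈ H, φ y = 1) ∧ φ x ≠ 1 := by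
  letI : CommGroup A := { ‹Group A› with mul_comm := hcomm }
  have h := (CommGroup.forall_monoidHom_apply_eq_one_iff (M := ℂ) H x).not.mpr hx
  push Not at h
  exact h

/-- The linear characters trivial on `H` sum to zero at an element outside `H`. -/
theorem sum_dual_eq_zero (hcomm : ∀ a b : A, a * b = b * a) [Fintype (A →* ℂˣ)]
    (H : Subgroup A) [DecidablePred (fun φ : A →* ℂˣ => ∀ y ∈ H, φ y = 1)] {x : A}
    (hx : x ∉ H) :
    ∑ φ ∈ Finset.univ.filter (fun φ : A →* ℂˣ => ∀ y ∈ H, φ y = 1), ((φ x : ℂˣ) : ℂ) = 0 := by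
  obtain ⟨φ₀, h₀, hx₀⟩ := exists_hom_ne_one_of_not_mem hcomm H hx
  set S := Finset.univ.filter (fun φ : A →* ℂˣ => ∀ y ∈ H, φ y = 1) with hS
  have h1 : ∑ φ ∈ S, ((φ₀ x : ℂˣ) : ℂ) * ((φ x : ℂˣ) : ℂ) = ∑ φ ∈ S, ((φ x : ℂˣ) : ℂ) := by
    apply Finset.sum_equiv (Equiv.mulLeft φ₀)
    · intro φ
      simp only [hS, Finset.mem_filter, Finset.mem_univ, true_and, Equiv.coe_mulLeft,
        MonoidHom.mul_apply]
      constructor
      · intro h y hy
        rw [h₀ y hy, h y hy, one_mul]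
      · intro h y hy
        have := h y hy
        rwa [h₀ y hy, one_mul] at this
    · intro φ _
      simp only [Equiv.coe_mulLeft, MonoidHom.mul_apply, Units.val_mul]
  rw [← Finset.mul_sum] at h1
  have h2 : ((φ₀ x : ℂˣ) : ℂ) ≠ 1 := by
    intro h
    exact hx₀ (Units.ext h)
  have h3 : (((φ₀ x : ℂˣ) : ℂ) - 1) * ∑ φ ∈ S, ((φ x : ℂˣ) : ℂ) = 0 := by
    linear_combination h1
  rcases mul_eq_zero.mp h3 with h | h
  · exact absurd (by linear_combination h) h2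
  · exact h

/-- The key sum: for `w ∉ H`, `∑_φ conj(φ w) (1 - φ x)` over the linear characters trivial
on `H` is `-|{φ}|` if `w⁻¹ x ∈ H` and `0` otherwise. -/
theorem sum_dual_conj_one_sub (hcomm : ∀ a b : A, a * b = b * a) [Fintype (A →* ℂˣ)]
    (H : Subgroup A) [DecidablePred (fun φ : A →* ℂˣ => ∀ y ∈ H, φ y = 1)] {w : A}
    (hw : w ∉ H) (x : A) [Decidable (w⁻¹ * x ∈ H)] :
    ∑ φ ∈ Finset.univ.filter (fun φ : A →* ℂˣ => ∀ y ∈ H, φ y = 1),
      (starRingEnd ℂ) ((φ w : ℂˣ) : ℂ) * (1 - ((φ x : ℂˣ) : ℂ)) =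
      if w⁻¹ * x ∈ H then
        -((Finset.univ.filter (fun φ : A →* ℂˣ => ∀ y ∈ H, φ y = 1)).card : ℂ) else 0 := by
  set S := Finset.univ.filter (fun φ : A →* ℂˣ => ∀ y ∈ H, φ y = 1) with hS
  have e : ∀ φ : A →* ℂˣ, (starRingEnd ℂ) ((φ w : ℂˣ) : ℂ) * (1 - ((φ x : ℂˣ) : ℂ)) =
      ((φ w⁻¹ : ℂˣ) : ℂ) - ((φ (w⁻¹ * x) : ℂˣ) : ℂ) := by
    intro φ
    rw [unitsHom_conj, MonoidHom.inv_apply, map_mul, map_inv, Units.val_mul]
    ring
  rw [Finset.sum_congr rfl (fun φ _ => e φ), Finset.sum_sub_distrib,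
    sum_dual_eq_zero hcomm H (x := w⁻¹) (fun h => hw (by simpa using H.inv_mem h)), zero_sub]
  split_ifs with h
  · congr 1
    have : ∀ φ ∈ S, ((φ (w⁻¹ * x) : ℂˣ) : ℂ) = 1 := by
      intro φ hφ
      rw [hS, Finset.mem_filter] at hφ
      rw [hφ.2 _ h, Units.val_one]
    rw [Finset.sum_congr rfl this, Finset.sum_const, nsmul_eq_mul, mul_one]
  · rw [sum_dual_eq_zero hcomm H h, neg_zero]

/-- Every linear character of a finite abelian group factors as (trivial on `H₂`) times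
(trivial on `H₁`) when `H₁ ⊓ H₂ = ⊥`. -/
theorem dual_decomp (hcomm : ∀ a b : A, a * b = b * a) (H₁ H₂ : Subgroup A)
    (hinf : H₁ ⊓ H₂ = ⊥) (ω : A →* ℂˣ) :
    ∃ φ ψ : A →* ℂˣ, (∀ y ∈ H₂, φ y = 1) ∧ (∀ y ∈ H₁, ψ y = 1) ∧ ω = φ * ψ := by
  letI : CommGroup A := { ‹Group A› with mul_comm := hcomm }
  have h1 : CommGroup.subgroupOrderIsoSubgroupMonoidHom A ℂ (H₁ ⊓ H₂) =
      CommGroup.subgroupOrderIsoSubgroupMonoidHom A ℂ H₁ ⊓
        CommGroup.subgroupOrderIsoSubgroupMonoidHom A ℂ H₂ :=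
    (CommGroup.subgroupOrderIsoSubgroupMonoidHom A ℂ).map_inf H₁ H₂
  have h2 : CommGroup.subgroupOrderIsoSubgroupMonoidHom A ℂ ⊥ = ⊥ :=
    (CommGroup.subgroupOrderIsoSubgroupMonoidHom A ℂ).map_bot
  rw [hinf, h2] at h1
  have h3 : (⊤ : Subgroup (A →* ℂˣ)) =
      OrderDual.ofDual (CommGroup.subgroupOrderIsoSubgroupMonoidHom A ℂ H₁) ⊔
        OrderDual.ofDual (CommGroup.subgroupOrderIsoSubgroupMonoidHom A ℂ H₂) := by
    have := congrArg OrderDual.ofDual h1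
    exact this
  have hω : ω ∈ OrderDual.ofDual (CommGroup.subgroupOrderIsoSubgroupMonoidHom A ℂ H₁) ⊔
        OrderDual.ofDual (CommGroup.subgroupOrderIsoSubgroupMonoidHom A ℂ H₂) := by
    rw [← h3]; trivial
  rw [Subgroup.mem_sup] at hω
  obtain ⟨ψ, hψ, φ, hφ, hmul⟩ := hω
  rw [CommGroup.mem_subgroupOrderIsoSubgroupMonoidHom_iff] at hψ hφ
  exact ⟨φ, ψ, hφ, hψ, hmul.symm.trans (mul_comm ψ φ)⟩

/-- The number of linear characters trivial on `H₂` is `|H₁|` when `H₁`, `H₂` are complementary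
subgroups of a finite abelian group. -/
theorem dual_card (hcomm : ∀ a b : A, a * b = b * a) (H₁ H₂ : Subgroup A)
    (hinf : H₁ ⊓ H₂ = ⊥) (hsup : H₁ ⊔ H₂ = ⊤) :
    Nat.card {φ : A →* ℂˣ // ∀ y ∈ H₂, φ y = 1} = Nat.card H₁ := by
  letI : CommGroup A := { ‹Group A› with mul_comm := hcomm }
  have h1 := CommGroup.card_subgroupOrderIsoSubgroupMonoidHom (M := ℂ) H₂
  have h2 : Nat.card {φ : A →* ℂˣ // ∀ y ∈ H₂, φ y = 1} =
      Nat.card ↥(OrderDual.ofDual (CommGroup.subgroupOrderIsoSubgroupMonoidHom A ℂ H₂)) := by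
    apply Nat.card_congr
    exact Equiv.subtypeEquivRight
      (fun φ => (CommGroup.mem_subgroupOrderIsoSubgroupMonoidHom_iff ℂ H₂ φ).symm)
  rw [h2, h1]
  have hcomp : Subgroup.IsComplement' H₁ H₂ := by
    apply Subgroup.isComplement'_of_disjoint_and_mul_eq_univ (disjoint_iff.mpr hinf)
    rw [← Subgroup.normal_mul, hsup]
    rfl
  exact hcomp.index_eq_card

end Dual

end Cfsg.Agent.H32
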