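import Mathlib
import Cfsg.Agent.H42.JtDefs
import Cfsg.Agent.H64.JtShift

set_option autoImplicit false

/-! EL-NILP (team project S5949/S5951/S5950, helper42): a nilpotent matrix of prescribed
Jordan type. -/

namespace Cfsg.Agent.H32.El

open Cfsg.Agent.H42.Jt

/-- sum over the positions of a list. -/
theorem sum_fin_get_map (l : List ℕ) (f : ℕ → ℕ) :
    ∑ k : Fin l.length, f (l.get k) = (l.map f).sum := by
  induction l with
  | nil => simp
  | cons a t ih =>
    rw [List.map_cons, List.sum_cons, ← ih]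
    simp only [List.length_cons]
    rw [Fin.sum_univ_succ]
    simp

theorem exists_nilpotent_of_type {F : Type*} [Field F] (n : ℕ) (μ : Multiset ℕ)
    (hμ : ∀ a ∈ μ, 0 < a) (hsum : μ.sum = n) :
    ∃ N : Matrix (Fin n) (Fin n) F, ∀ e : ℕ,
      Cfsg.Agent.H42.Jt.kd (Matrix.toLin' N) e = (μ.map (fun s => min e s)).sum := by
  classical
  set l : List ℕ := μ.toList with hl
  have hlμ : (l : Multiset ℕ) = μ := Multiset.coe_toList μ
  let sz : Fin l.length → ℕ := fun k => l.get k
  have hcard : Fintype.card (Σ k : Fin l.length, Fin (sz k)) = Fintype.card (Fin n) := by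
    rw [Fintype.card_sigma, Fintype.card_fin]
    simp only [Fintype.card_fin]
    have h1 := sum_fin_get_map l id
    rw [List.map_id] at h1
    simp only [id] at h1
    have h2 : l.sum = μ.sum := by
      rw [← hlμ, Multiset.sum_coe]
    show ∑ k : Fin l.length, l.get k = n
    rw [h1, h2, hsum]
  let eq : (Σ k : Fin l.length, Fin (sz k)) ≃ Fin n := Fintype.equivOfCardEq hcard
  let b : Module.Basis (Σ k : Fin l.length, Fin (sz k)) F (Fin n → F) :=
    (Pi.basisFun F (Fin n)).reindex eq.symm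
  let N : Module.End F (Fin n → F) :=
    b.constr F (fun i : Σ k : Fin l.length, Fin (sz k) =>
      if (i.2 : ℕ) = 0 then (0 : Fin n → F)
      else b ⟨i.1, ⟨(i.2 : ℕ) - 1, lt_of_le_of_lt (Nat.sub_le _ _) i.2.2⟩⟩)
  have h0 : ∀ (k : Fin l.length) (j : Fin (sz k)), (j : ℕ) = 0 → N (b ⟨k, j⟩) = 0 := by
    intro k j hj
    show (b.constr F _) (b ⟨k, j⟩) = 0
    rw [Module.Basis.constr_basis, if_pos hj]
  have hs : ∀ (k : Fin l.length) (j j' : Fin (sz k)), (j : ℕ) = (j' : ℕ) + 1 →
      N (b ⟨k, j⟩) = b ⟨k, j'⟩ := by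
    intro k j j' hj
    show (b.constr F _) (b ⟨k, j⟩) = b ⟨k, j'⟩
    rw [Module.Basis.constr_basis, if_neg (by simp only; omega)]
    congr 2
    apply Fin.ext
    simp only
    omega
  refine ⟨LinearMap.toMatrix' N, fun e => ?_⟩
  rw [Matrix.toLin'_toMatrix']
  rw [Cfsg.Agent.H64.Jt.kd_of_chains sz b N h0 hs e]
  have h3 := sum_fin_get_map l (fun s => min e s)
  show ∑ k : Fin l.length, min e (l.get k) = _
  rw [h3, ← hlμ, Multiset.map_coe, Multiset.sum_coe]

/-- verbatim check of the posted statement. -/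
example {F : Type*} [Field F] (n : ℕ) (μ : Multiset ℕ)
    (hμ : ∀ a ∈ μ, 0 < a) (hsum : μ.sum = n) :
    ∃ N : Matrix (Fin n) (Fin n) F, ∀ e : ℕ,
      Cfsg.Agent.H42.Jt.kd (Matrix.toLin' N) e = (μ.map (fun s => min e s)).sum :=
  exists_nilpotent_of_type n μ hμ hsum

end Cfsg.Agent.H32.El
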