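import Mathlib
import Cfsg.Prelude.Def_Characters
import Cfsg.Agent.H82.Rep

set_option autoImplicit false
set_option linter.style.haveILetI false

namespace Cfsg.Agent.H32

open Cfsg

/-- Irreducible characters of a commutative group are linear (multiplicative of degree one). -/
theorem irr_linear_of_comm {A : Type*} [Group A] (hA : ∀ a b : A, a * b = b * a)
    {μ : A → ℂ} (hμ : IsIrrCharacter A μ) : μ 1 = 1 ∧ ∀ a b : A, μ (a * b) = μ a * μ b := by
  obtain ⟨m, ρ, hρ, rfl⟩ := hμ
  haveI : IsMulCommutative A := ⟨⟨hA⟩⟩
  haveI := hρ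
  have hm : Module.finrank ℂ (Fin m → ℂ) = 1 :=
    Representation.IsIrreducible.finrank_eq_one_of_isMulCommutative ρ
  have hsc : ∀ a : A, ρ a = (ρ.character a) • LinearMap.id := by
    intro a
    obtain ⟨c, hc⟩ := Cfsg.Agent.H82.schur_scalar ρ (ρ a) (fun g => by
      have h1 : ρ a * ρ g = ρ g * ρ a := by rw [← map_mul, ← map_mul, hA]
      exact h1)
    have h2 : ρ.character a = c := by
      simp only [Representation.character, hc, map_smul, LinearMap.trace_id, hm, Nat.cast_one,
        smul_eq_mul, mul_one]
    rw [h2]; exact hc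
  refine ⟨?_, fun a b => ?_⟩
  · rw [Representation.char_one, hm, Nat.cast_one]
  · have h3 : ρ (a * b) = (ρ.character a * ρ.character b) • LinearMap.id := by
      rw [map_mul]
      conv_lhs => rw [hsc a, hsc b]
      refine LinearMap.ext fun v => ?_
      simp only [LinearMap.smul_apply, LinearMap.id_coe, id_eq, Module.End.mul_apply, mul_smul]
    conv_lhs => rw [Representation.character, h3]
    simp only [map_smul, LinearMap.trace_id, hm, Nat.cast_one, smul_eq_mul, mul_one]

end Cfsg.Agent.H32
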