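import Mathlib
import Cfsg.Prelude.Def_Characters
import Cfsg.Prelude.Def_Solvable
import Cfsg.Agent.Lib.CliffordCorr
import Cfsg.Agent.H5.GaloisTwist
import Cfsg.Agent.H4.BrauerBasic
import Cfsg.Agent.H4.RealClasses
import Cfsg.Agent.H82.Extra
import Cfsg.Agent.H32.LinAb
import Cfsg.Agent.H1.Fitting

/-!
# Products `χ · χ^σ` of an irreducible character with a Galois conjugate (helper32)

If `χ ∈ Irr(G)` and `g ↦ χ(g) χ(g^k)` is irreducible (`k` coprime to `|G|`), then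
`[χ χ̄, (χ χ̄)^σ] = 1`, so `χ χ̄` and its Galois twist have no common nontrivial irreducible
constituent (`gp_key`).  Consequences: `χ` is primitive (`gp_prim`), abelian normal subgroups are
central when `χ` is faithful (`gp_abelian_central`), and `F(G) = Z(G)` (`gp_main`).
-/

set_option autoImplicit false
set_option linter.style.haveILetI false
set_option linter.unusedSectionVars false

namespace Cfsg.Agent.H32

open Cfsg Cfsg.Agent.H4 Cfsg.Agent.Clifford Cfsg.Agent.H5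
open scoped ComplexConjugate

universe u

section GalProd

variable {G : Type u} [Group G] [Fintype G]

theorem gp_isIrr_one (H : Type*) [Group H] : IsIrrCharacter H (fun _ => (1 : ℂ)) := by
  have h := isIrrCharacter_of_hom (1 : H →* ℂˣ)
  simpa using h

theorem gp_exists_constituent (K : Subgroup G) [Fintype K] {χ : G → ℂ}
    (hχ : IsIrrCharacter G χ) :
    ∃ θ : K → ℂ, IsIrrCharacter K θ ∧ classInner (fun n : K => χ n) θ ≠ 0 := by
  by_contra hne
  push Not at hne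
  have hres : IsClassFunction K (fun n : K => χ n) :=
    isClassFunction_of_isCharacter (isCharacter_restrict K (isCharacter_of_isIrrCharacter hχ))
  have h0 := eq_zero_of_inner_irr_eq_zero hres (fun θ => hne θ.1 θ.2)
  have h1 := congrFun h0 1
  exact Cfsg.Agent.H82.irr_one_ne_zero ⟨χ, hχ⟩ (by simpa using h1)

/-- If `χ · χ^σ` is irreducible, `χ χ̄` and `(χ χ̄)^σ` have no common nontrivial irreducible
constituent. -/
theorem gp_key {χ : G → ℂ} (hχ : IsIrrCharacter G χ) (k : ℕ) (hk : k.Coprime (Nat.card G))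
    (hirr : IsIrrCharacter G (fun g => χ g * χ (g ^ k))) {Ξ : G → ℂ} (hΞ : IsIrrCharacter G Ξ)
    (hΞ1 : Ξ ≠ fun _ => 1)
    (h1 : classInner (fun g => χ g * conj (χ g)) Ξ ≠ 0)
    (h2 : classInner (fun g => χ (g ^ k) * conj (χ (g ^ k))) Ξ ≠ 0) : False := by
  classical
  letI := fintypeIrr G
  have hχc := isCharacter_of_isIrrCharacter hχ
  have hχ' : IsIrrCharacter G (fun g => χ (g ^ k)) :=
    Cfsg.Agent.H79.isIrrCharacter_comp_pow k hk hχ
  have hχ'c := isCharacter_of_isIrrCharacter hχ'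
  have hA : IsCharacter G (fun g => χ g * conj (χ g)) := isCharacter_mul hχc (isCharacter_conj hχc)
  have hB : IsCharacter G (fun g => χ (g ^ k) * conj (χ (g ^ k))) :=
    isCharacter_mul hχ'c (isCharacter_conj hχ'c)
  have hAB : classInner (fun g => χ g * conj (χ g)) (fun g => χ (g ^ k) * conj (χ (g ^ k))) = 1 := by
    have h := irr_inner_self ⟨_, hirr⟩
    refine Eq.trans ?_ h
    unfold classInner
    congr 1
    refine Finset.sum_congr rfl fun g _ => ?_
    simp only [map_mul, Complex.conj_conj]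
    ring
  obtain ⟨a, b, ha, hb, hab⟩ := classInner_char_eq_natCast_sum hA hB
  rw [hAB, finsum_irr_eq_sum] at hab
  have h1irr : IsIrrCharacter G (fun _ => (1 : ℂ)) := gp_isIrr_one G
  have hA1 : classInner (fun g => χ g * conj (χ g)) (fun _ => (1 : ℂ)) = 1 := by
    have h := irr_inner_self ⟨χ, hχ⟩
    refine Eq.trans ?_ h
    unfold classInner
    congr 1
    refine Finset.sum_congr rfl fun g _ => ?_
    simp
  have hB1 : classInner (fun g => χ (g ^ k) * conj (χ (g ^ k))) (fun _ => (1 : ℂ)) = 1 := by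
    have h := irr_inner_self ⟨_, hχ'⟩
    refine Eq.trans ?_ h
    unfold classInner
    congr 1
    refine Finset.sum_congr rfl fun g _ => ?_
    simp
  have hne : (⟨_, h1irr⟩ : IrrCharacter G) ≠ ⟨Ξ, hΞ⟩ := by
    intro h
    exact hΞ1 (congrArg Subtype.val h).symm
  have ha0 : a ⟨_, h1irr⟩ ≠ 0 := by
    intro h0
    have := ha ⟨_, h1irr⟩
    rw [h0, hA1] at this
    simp at this
  have hb0 : b ⟨_, h1irr⟩ ≠ 0 := by
    intro h0
    have := hb ⟨_, h1irr⟩
    rw [h0, ← classInner_conj_symm, hB1] at this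
    simp at this
  have ha1 : a ⟨Ξ, hΞ⟩ ≠ 0 := by
    intro h0
    have := ha ⟨Ξ, hΞ⟩
    rw [h0] at this
    exact h1 (by simpa using this)
  have hb1 : b ⟨Ξ, hΞ⟩ ≠ 0 := by
    intro h0
    have := hb ⟨Ξ, hΞ⟩
    rw [h0, ← classInner_conj_symm] at this
    apply h2
    simpa using this
  have hsum : 2 ≤ ∑ ψ : IrrCharacter G, a ψ * b ψ := by
    calc 2 ≤ a ⟨_, h1irr⟩ * b ⟨_, h1irr⟩ + a ⟨Ξ, hΞ⟩ * b ⟨Ξ, hΞ⟩ := by
            have e1 := Nat.mul_pos (Nat.pos_of_ne_zero ha0) (Nat.pos_of_ne_zero hb0)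
            have e2 := Nat.mul_pos (Nat.pos_of_ne_zero ha1) (Nat.pos_of_ne_zero hb1)
            omega
      _ = ∑ ψ ∈ ({⟨_, h1irr⟩, ⟨Ξ, hΞ⟩} : Finset (IrrCharacter G)), a ψ * b ψ :=
            (Finset.sum_pair (f := fun ψ => a ψ * b ψ) hne).symm
      _ ≤ _ := Finset.sum_le_sum_of_subset (Finset.subset_univ _)
  have h3 : (∑ ψ : IrrCharacter G, a ψ * b ψ) = 1 := by exact_mod_cast hab.symm
  omega

/-- If `χ δ = χ` on a subgroup `T`, then `δ^G` and `χ χ̄` are not orthogonal. -/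
theorem gp_ind {χ : G → ℂ} (hχ : IsIrrCharacter G χ) (T : Subgroup G) (δ : T → ℂ)
    (hδ : ∀ t : T, χ t * δ t = χ t) :
    classInner (fun g => χ g * conj (χ g)) (indFun T δ) ≠ 0 := by
  classical
  letI : Fintype T := Fintype.ofFinite T
  have hχc := isCharacter_of_isIrrCharacter hχ
  have hA : IsCharacter G (fun g => χ g * conj (χ g)) := isCharacter_mul hχc (isCharacter_conj hχc)
  rw [← classInner_conj_symm, frobenius_reciprocity T δ _ (isClassFunction_of_isCharacter hA)]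
  intro h0
  rw [map_eq_zero] at h0
  unfold classInner at h0
  have hsum : ∑ t : T, δ t * conj (χ t * conj (χ t)) =
      ((∑ t : T, Complex.normSq (χ t) : ℝ) : ℂ) := by
    rw [Complex.ofReal_sum]
    refine Finset.sum_congr rfl fun t _ => ?_
    rw [map_mul, Complex.conj_conj, ← Complex.mul_conj]
    calc δ t * (conj (χ t) * χ t) = (χ t * δ t) * conj (χ t) := by ring
      _ = χ t * conj (χ t) := by rw [hδ t]
  rw [hsum] at h0
  have hT0 : (Nat.card T : ℂ) ≠ 0 := by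
    have : 0 < Nat.card T := Nat.card_pos
    exact_mod_cast this.ne'
  rcases mul_eq_zero.mp h0 with h | h
  · exact hT0 (inv_eq_zero.mp h)
  · have h' : ∑ t : T, Complex.normSq (χ t) = 0 := by exact_mod_cast h
    have h'' := (Finset.sum_eq_zero_iff_of_nonneg (fun t _ => Complex.normSq_nonneg _)).mp h'
      (1 : T) (Finset.mem_univ _)
    rw [Complex.normSq_eq_zero] at h''
    exact Cfsg.Agent.H82.irr_one_ne_zero ⟨χ, hχ⟩ h''

/-- If `χ = χ₀^G` from `I` and `Ξ` is a constituent of the permutation character `(1_I)^G`, then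
`Ξ` is a constituent of `χ χ̄`. -/
theorem gp_perm {χ : G → ℂ} (hχ : IsIrrCharacter G χ) (I : Subgroup G) [Fintype I] {χ₀ : I → ℂ}
    (hχ₀ : IsCharacter I χ₀) (hind : indFun I χ₀ = χ) {Ξ : G → ℂ} (hΞ : IsIrrCharacter G Ξ)
    (hΞI : classInner (fun i : I => Ξ i) (fun _ => (1 : ℂ)) ≠ 0) :
    classInner (fun g => χ g * conj (χ g)) Ξ ≠ 0 := by
  classical
  have hχc := isCharacter_of_isIrrCharacter hχ
  have hΞc := isCharacter_of_isIrrCharacter hΞ
  have e1 : classInner (fun g => χ g * conj (χ g)) Ξ = classInner χ (fun g => χ g * Ξ g) := by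
    unfold classInner
    congr 1
    refine Finset.sum_congr rfl fun g _ => ?_
    simp only [map_mul]
    ring
  have e2 : classInner χ (fun g => χ g * Ξ g) = classInner χ₀ (fun i : I => χ i * Ξ i) := by
    have h := frobenius_reciprocity I χ₀ (fun g => χ g * Ξ g)
      (isClassFunction_of_isCharacter (isCharacter_mul hχc hΞc))
    rw [hind] at h
    exact h
  have e3 : classInner χ₀ (fun i : I => χ i * Ξ i) =
      classInner (fun i : I => χ₀ i * conj (χ i)) (fun i : I => Ξ i) := by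
    unfold classInner
    congr 1
    refine Finset.sum_congr rfl fun g _ => ?_
    simp only [map_mul]
    ring
  rw [e1, e2, e3]
  have hA : IsCharacter I (fun i : I => χ₀ i * conj (χ i)) :=
    isCharacter_mul hχ₀ (isCharacter_conj (isCharacter_restrict I hχc))
  have hB : IsCharacter I (fun i : I => Ξ i) := isCharacter_restrict I hΞc
  refine classInner_ne_zero_of_common hA hB (gp_isIrr_one I) ?_ hΞI
  have e4 : classInner (fun i : I => χ₀ i * conj (χ i)) (fun _ => (1 : ℂ)) =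
      classInner χ₀ (fun i : I => χ i) := by
    unfold classInner
    congr 1
    refine Finset.sum_congr rfl fun g _ => ?_
    simp
  rw [e4, ← frobenius_reciprocity I χ₀ χ (isClassFunction_of_isCharacter hχc), hind,
    irr_inner_self ⟨χ, hχ⟩]
  exact one_ne_zero

/-- If `χ · χ^σ` is irreducible then `χ` is not induced from a proper subgroup. -/
theorem gp_prim {χ : G → ℂ} (hχ : IsIrrCharacter G χ) (k : ℕ) (hk : k.Coprime (Nat.card G))
    (hirr : IsIrrCharacter G (fun g => χ g * χ (g ^ k))) (I : Subgroup G) {χ₀ : I → ℂ}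
    (hχ₀ : IsCharacter I χ₀) (hind : indFun I χ₀ = χ) : I = ⊤ := by
  classical
  letI : Fintype I := Fintype.ofFinite I
  letI := fintypeIrr G
  by_contra hI
  have h1I : IsIrrCharacter I (fun _ => (1 : ℂ)) := gp_isIrr_one I
  have h1G : IsIrrCharacter G (fun _ => (1 : ℂ)) := gp_isIrr_one G
  obtain ⟨π, hπ⟩ : ∃ π : G → ℂ, π = indFun I (fun _ => (1 : ℂ)) := ⟨_, rfl⟩
  have hπc : IsCharacter G π := by
    rw [hπ]
    exact isCharacter_indFun I _ (isCharacter_of_isIrrCharacter h1I)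
  have hπ1 : classInner π (fun _ => (1 : ℂ)) = 1 := by
    rw [hπ, frobenius_reciprocity I _ _
      (isClassFunction_of_isCharacter (isCharacter_of_isIrrCharacter h1G))]
    exact irr_inner_self ⟨_, h1I⟩
  have hπone : π 1 = (Nat.card I : ℂ)⁻¹ * (Nat.card G : ℂ) := by
    rw [hπ, indFun_apply]
    congr 1
    have : ∀ x : G, extendByZero I (fun _ => (1 : ℂ)) (x⁻¹ * 1 * x) = 1 := by
      intro x
      have hx : x⁻¹ * 1 * x ∈ I := by simp
      rw [extendByZero_of_mem I _ hx]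
    rw [Finset.sum_congr rfl (fun x _ => this x)]
    simp [Nat.card_eq_fintype_card]
  have hex : ∃ Ξ : IrrCharacter G, Ξ.1 ≠ (fun _ => (1 : ℂ)) ∧ classInner π Ξ.1 ≠ 0 := by
    by_contra hno
    push Not at hno
    have hexp := classFunction_eq_finsum (isClassFunction_of_isCharacter hπc)
    rw [finsum_irr_eq_sum] at hexp
    rw [Finset.sum_eq_single (⟨_, h1G⟩ : IrrCharacter G)] at hexp
    · have h2 := congrFun hexp 1
      rw [hπone] at h2
      simp only [Pi.smul_apply, smul_eq_mul, mul_one] at h2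
      rw [hπ1] at h2
      have hI0 : (Nat.card I : ℂ) ≠ 0 := by
        have : 0 < Nat.card I := Nat.card_pos
        exact_mod_cast this.ne'
      have h3 : (Nat.card G : ℂ) = (Nat.card I : ℂ) := by
        field_simp at h2
        exact h2
      have h4 : Nat.card I = Nat.card G := by exact_mod_cast h3.symm
      exact hI (Subgroup.eq_top_of_card_eq I h4)
    · intro ψ _ hψ
      have hψ1 : ψ.1 ≠ fun _ => (1 : ℂ) := fun h => hψ (Subtype.ext h)
      rw [hno ψ hψ1, zero_smul]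
    · intro h
      exact absurd (Finset.mem_univ _) h
  obtain ⟨Ξ, hΞ1, hΞπ⟩ := hex
  have hΞI : classInner (fun i : I => Ξ.1 i) (fun _ => (1 : ℂ)) ≠ 0 := by
    rw [hπ, frobenius_reciprocity I _ _
      (isClassFunction_of_isCharacter (isCharacter_of_isIrrCharacter Ξ.2))] at hΞπ
    rw [← classInner_conj_symm]
    simpa using hΞπ
  refine gp_key hχ k hk hirr Ξ.2 hΞ1 (gp_perm hχ I hχ₀ hind Ξ.2 hΞI) ?_
  have hχ' : IsIrrCharacter G (fun g => χ (g ^ k)) :=
    Cfsg.Agent.H79.isIrrCharacter_comp_pow k hk hχ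
  have hind' : indFun I (fun w : I => χ₀ (w ^ k)) = fun g => χ (g ^ k) := by
    have h := tw_indFun k hk I χ₀
    rw [hind] at h
    exact h.symm
  have hkI : k.Coprime (Nat.card I) :=
    Nat.Coprime.coprime_dvd_right (Subgroup.card_subgroup_dvd_card I) hk
  exact gp_perm hχ' I (Cfsg.Agent.H79.isCharacter_comp_pow k hkI hχ₀) hind' Ξ.2 hΞI

/-- If `χ` is faithful and `χ · χ^σ` is irreducible, every abelian normal subgroup is central. -/
theorem gp_abelian_central (χ : IrrCharacter G) (hfaith : ∀ g : G, χ.1 g = χ.1 1 → g = 1)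
    (k : ℕ) (hk : k.Coprime (Nat.card G))
    (hirr : IsIrrCharacter G (fun g => χ.1 g * χ.1 (g ^ k)))
    (A : Subgroup G) [hA : A.Normal] (hcomm : ∀ x ∈ A, ∀ y ∈ A, x * y = y * x) :
    A ≤ Subgroup.center G := by
  classical
  letI : Fintype A := Fintype.ofFinite A
  obtain ⟨θ, hθ, h1⟩ := gp_exists_constituent A χ.2
  have hθcl := isClassFunction_of_isCharacter (isCharacter_of_isIrrCharacter hθ)
  obtain ⟨T, hT⟩ : ∃ T : Subgroup G, T = Cfsg.Agent.Clifford.inertia A θ := ⟨_, rfl⟩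
  letI : Fintype T := Fintype.ofFinite T
  have hNT : A ≤ T := by
    rw [hT]
    exact Cfsg.Agent.Clifford.le_inertia A hθcl
  obtain ⟨χ₀, hχ₀, hind, -⟩ := clifford_corr_surj hθ hNT hT χ.2 h1
  have hTtop : T = ⊤ := gp_prim χ.2 k hk hirr T (isCharacter_of_isIrrCharacter hχ₀) hind
  have hinv : ∀ (g : G) (n : A), θ ⟨g * n * g⁻¹, hA.conj_mem n n.2 g⟩ = θ n := by
    intro g
    have hg : g ∈ Cfsg.Agent.Clifford.inertia A θ := by
      rw [← hT, hTtop]
      trivial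
    exact (Cfsg.Agent.Clifford.mem_inertia_iff A).mp hg
  obtain ⟨hθ1, hθmul⟩ := irr_linear_of_comm (fun a b => Subtype.ext (hcomm a a.2 b b.2)) hθ
  have hres := clifford_res A χ.2 hθ h1
  have hset : {ψ : A → ℂ | ∃ g : G, ψ = conjChar A θ g} = {θ} := by
    ext ψ
    constructor
    · rintro ⟨g, rfl⟩
      show conjChar A θ g = θ
      funext n
      exact hinv g n
    · intro h
      have h' : ψ = θ := h
      exact ⟨1, by rw [h', conjChar_one]⟩
  rw [hset, finsum_mem_singleton] at hres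
  have hc : ∀ n : A, χ.1 n = classInner (fun n : A => χ.1 n) θ * θ n := fun n => congrFun hres n
  intro a ha
  rw [Subgroup.mem_center_iff]
  intro g
  have hmem : g * a * g⁻¹ * a⁻¹ ∈ A := A.mul_mem (hA.conj_mem a ha g) (A.inv_mem ha)
  have h2 : χ.1 (g * a * g⁻¹ * a⁻¹) = χ.1 1 := by
    have e1 := hc ⟨g * a * g⁻¹ * a⁻¹, hmem⟩
    have e2 := hc 1
    have e3 : θ ⟨g * a * g⁻¹ * a⁻¹, hmem⟩ = 1 := by
      have e4 : (⟨g * a * g⁻¹ * a⁻¹, hmem⟩ : A) =
          ⟨g * a * g⁻¹, hA.conj_mem a ha g⟩ * (⟨a, ha⟩ : A)⁻¹ := rfl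
      rw [e4, hθmul, hinv g ⟨a, ha⟩, ← hθmul, mul_inv_cancel, hθ1]
    rw [e3, mul_one] at e1
    rw [hθ1, mul_one] at e2
    rw [e1]
    exact e2.symm
  have h3 := hfaith _ h2
  calc g * a = (g * a * g⁻¹ * a⁻¹) * a * g := by group
    _ = a * g := by rw [h3, one_mul]

/-- A central element acts on an irreducible character by the scalar `χ(z)/χ(1)`. -/
theorem gp_central (χ : IrrCharacter G) {z : G} (hz : z ∈ Subgroup.center G) (g : G) :
    χ.1 (z * g) = χ.1 z / χ.1 1 * χ.1 g := by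
  obtain ⟨c, hc, -, -⟩ := Cfsg.Agent.H82.irr_central_scalar χ z
    (fun g => Subgroup.mem_center_iff.mp hz g)
  have h1 := hc 1
  rw [mul_one] at h1
  have h0 := Cfsg.Agent.H82.irr_one_ne_zero χ
  rw [hc g, h1, mul_div_assoc, div_self h0, mul_one]

theorem gp_cs_mul (χ : IrrCharacter G) {z : G} (hz : z ∈ Subgroup.center G) (z' : G) :
    χ.1 (z * z') / χ.1 1 = (χ.1 z / χ.1 1) * (χ.1 z' / χ.1 1) := by
  rw [gp_central χ hz z']
  ring

theorem gp_cs_inv (χ : IrrCharacter G) {z : G} (hz : z ∈ Subgroup.center G) :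
    (χ.1 z / χ.1 1) * (χ.1 z⁻¹ / χ.1 1) = 1 := by
  rw [← gp_cs_mul χ hz, mul_inv_cancel, div_self (Cfsg.Agent.H82.irr_one_ne_zero χ)]

theorem gp_cs_ne_zero (χ : IrrCharacter G) {z : G} (hz : z ∈ Subgroup.center G) :
    χ.1 z / χ.1 1 ≠ 0 := by
  intro h0
  have h := gp_cs_inv χ hz
  rw [h0, zero_mul] at h
  exact zero_ne_one h

/-- The linear character `h ↦ ω([h, a])` of a subgroup `H` with `[H, a] ≤ Z(G)`, where `ω` is the
central character of `χ`. -/
noncomputable def gpHom (χ : IrrCharacter G) (H : Subgroup G) (a : G)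
    (hH : ∀ h ∈ H, h * a * h⁻¹ * a⁻¹ ∈ Subgroup.center G) : H →* ℂˣ :=
  MonoidHom.mk'
    (fun h => Units.mk0 (χ.1 (h.1 * a * h.1⁻¹ * a⁻¹) / χ.1 1) (gp_cs_ne_zero χ (hH h.1 h.2)))
    (by
      intro x y
      apply Units.ext
      have hy := Subgroup.mem_center_iff.mp (hH y.1 y.2)
      have e : (x * y : H).1 * a * (x * y : H).1⁻¹ * a⁻¹ =
          (y.1 * a * y.1⁻¹ * a⁻¹) * (x.1 * a * x.1⁻¹ * a⁻¹) := by
        calc (x * y : H).1 * a * (x * y : H).1⁻¹ * a⁻¹
            = x.1 * (y.1 * a * y.1⁻¹ * a⁻¹) * (a * x.1⁻¹ * a⁻¹) := by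
              rw [Subgroup.coe_mul]; group
          _ = (y.1 * a * y.1⁻¹ * a⁻¹) * x.1 * (a * x.1⁻¹ * a⁻¹) := by rw [hy x.1]
          _ = _ := by group
      rw [Units.val_mul]
      simp only [Units.val_mk0]
      rw [e, gp_cs_mul χ (hH y.1 y.2)]
      ring)

theorem gpHom_apply (χ : IrrCharacter G) (H : Subgroup G) (a : G)
    (hH : ∀ h ∈ H, h * a * h⁻¹ * a⁻¹ ∈ Subgroup.center G) (h : H) :
    ((gpHom χ H a hH h : ℂˣ) : ℂ) = χ.1 (h.1 * a * h.1⁻¹ * a⁻¹) / χ.1 1 := rfl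

/-- `χ · δ = χ` on `H`. -/
theorem gpHom_fix (χ : IrrCharacter G) (H : Subgroup G) (a : G)
    (hH : ∀ h ∈ H, h * a * h⁻¹ * a⁻¹ ∈ Subgroup.center G) (t : H) :
    χ.1 t * ((gpHom χ H a hH t : ℂˣ) : ℂ) = χ.1 t := by
  rw [gpHom_apply]
  have hz := hH t.1 t.2
  have hcl := isClassFunction_of_isCharacter (isCharacter_of_isIrrCharacter χ.2)
  have h1 : χ.1 (a * t.1 * a⁻¹) = χ.1 t.1 := hcl t.1 a
  have h2 : a * t.1 * a⁻¹ = (t.1 * a * t.1⁻¹ * a⁻¹)⁻¹ * t.1 := by group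
  rw [h2, gp_central χ (Subgroup.inv_mem _ hz)] at h1
  have h3 := gp_cs_inv χ hz
  calc χ.1 t.1 * (χ.1 (t.1 * a * t.1⁻¹ * a⁻¹) / χ.1 1)
      = (χ.1 (t.1 * a * t.1⁻¹ * a⁻¹)⁻¹ / χ.1 1 * χ.1 t.1) *
          (χ.1 (t.1 * a * t.1⁻¹ * a⁻¹) / χ.1 1) := by rw [h1]
    _ = ((χ.1 (t.1 * a * t.1⁻¹ * a⁻¹) / χ.1 1) * (χ.1 (t.1 * a * t.1⁻¹ * a⁻¹)⁻¹ / χ.1 1)) *
          χ.1 t.1 := by ring
    _ = χ.1 t.1 := by rw [h3, one_mul]

/-- `χ^σ · δ = χ^σ` on `H`. -/
theorem gpHom_fix_pow (χ : IrrCharacter G) (H : Subgroup G) (a : G)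
    (hH : ∀ h ∈ H, h * a * h⁻¹ * a⁻¹ ∈ Subgroup.center G) (k : ℕ)
    (hk : k.Coprime (Nat.card G)) (t : H) :
    χ.1 (t.1 ^ k) * ((gpHom χ H a hH t : ℂˣ) : ℂ) = χ.1 (t.1 ^ k) := by
  by_cases h0 : χ.1 (t.1 ^ k) = 0
  · rw [h0, zero_mul]
  · have h1 := gpHom_fix χ H a hH (t ^ k)
    rw [Subgroup.coe_pow] at h1
    have h2 : ((gpHom χ H a hH (t ^ k) : ℂˣ) : ℂ) = 1 := by
      have := mul_right_cancel₀ h0 (a := ((gpHom χ H a hH (t ^ k) : ℂˣ) : ℂ)) (c := 1)
        (by rw [mul_comm, h1, one_mul])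
      exact this
    have h3 : (gpHom χ H a hH t) ^ k = 1 := by
      rw [← map_pow]
      exact Units.ext h2
    have h4 : (gpHom χ H a hH t) ^ (orderOf t) = 1 := by
      rw [← map_pow, pow_orderOf_eq_one, map_one]
    have h5 : k.Coprime (orderOf t) := by
      have hd : orderOf t ∣ Nat.card G := by
        rw [← Subgroup.orderOf_coe]
        exact orderOf_dvd_natCard _
      exact Nat.Coprime.coprime_dvd_right hd hk
    have h6 := pow_gcd_eq_one.mpr ⟨h3, h4⟩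
    rw [h5.gcd_eq_one, pow_one] at h6
    rw [h6, Units.val_one, mul_one]

/-- Elements of the inertia group of `β = gpHom χ F a` move `a` by a central element. -/
theorem gp_inertia_comm (χ : IrrCharacter G) (hfaith : ∀ g : G, χ.1 g = χ.1 1 → g = 1)
    (F : Subgroup G) [hF : F.Normal] (a : G) (ha : a ∈ F)
    (hFa : ∀ h ∈ F, h * a * h⁻¹ * a⁻¹ ∈ Subgroup.center G)
    (hZF : ∀ u ∈ F, (∀ n ∈ F, u * n = n * u) → u ∈ Subgroup.center G)
    (g : G)
    (hg : g ∈ Cfsg.Agent.Clifford.inertia F (fun n : F => ((gpHom χ F a hFa n : ℂˣ) : ℂ))) :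
    g * a * g⁻¹ * a⁻¹ ∈ Subgroup.center G := by
  have hinv := (Cfsg.Agent.Clifford.mem_inertia_iff F).mp hg
  have key : ∀ n ∈ F, g * n * g⁻¹ * a * (g * n * g⁻¹)⁻¹ * a⁻¹ = n * a * n⁻¹ * a⁻¹ := by
    intro n hn
    have h1 := hinv ⟨n, hn⟩
    rw [gpHom_apply, gpHom_apply] at h1
    have hc1 : g * n * g⁻¹ * a * (g * n * g⁻¹)⁻¹ * a⁻¹ ∈ Subgroup.center G :=
      hFa _ (hF.conj_mem n hn g)
    have hc2 : n * a * n⁻¹ * a⁻¹ ∈ Subgroup.center G := hFa n hn
    have h2 : χ.1 (g * n * g⁻¹ * a * (g * n * g⁻¹)⁻¹ * a⁻¹ * (n * a * n⁻¹ * a⁻¹)⁻¹) / χ.1 1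
        = 1 := by
      rw [gp_cs_mul χ hc1, h1, gp_cs_inv χ hc2]
    have h0 := Cfsg.Agent.H82.irr_one_ne_zero χ
    have h3 : χ.1 (g * n * g⁻¹ * a * (g * n * g⁻¹)⁻¹ * a⁻¹ * (n * a * n⁻¹ * a⁻¹)⁻¹) = χ.1 1 :=
      (div_eq_one_iff_eq h0).mp h2
    have h4 := hfaith _ h3
    exact mul_inv_eq_one.mp h4
  obtain ⟨u, hu⟩ : ∃ u : G, u = a⁻¹ * g⁻¹ * a * g := ⟨_, rfl⟩
  have huF : u ∈ F := by
    have h1 : g⁻¹ * a * g ∈ F := by
      have := hF.conj_mem a ha g⁻¹
      simpa using this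
    have h2 : u = a⁻¹ * (g⁻¹ * a * g) := by rw [hu]; group
    rw [h2]
    exact F.mul_mem (F.inv_mem ha) h1
  have hucomm : ∀ n ∈ F, u * n = n * u := by
    intro n hn
    have h := key n⁻¹ (F.inv_mem hn)
    have hc : g * n⁻¹ * g⁻¹ * a * (g * n⁻¹ * g⁻¹)⁻¹ * a⁻¹ ∈ Subgroup.center G :=
      hFa _ (hF.conj_mem _ (F.inv_mem hn) g)
    have hc' := Subgroup.mem_center_iff.mp hc g
    have h' : g⁻¹ * (g * n⁻¹ * g⁻¹ * a * (g * n⁻¹ * g⁻¹)⁻¹ * a⁻¹) * g
        = n⁻¹ * a * n⁻¹⁻¹ * a⁻¹ := by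
      rw [mul_assoc, ← hc', inv_mul_cancel_left, h]
    calc u * n = a⁻¹ * n * (g⁻¹ * (g * n⁻¹ * g⁻¹ * a * (g * n⁻¹ * g⁻¹)⁻¹ * a⁻¹) * g)
          * (g⁻¹ * a * g) := by rw [hu]; group
      _ = a⁻¹ * n * (n⁻¹ * a * n⁻¹⁻¹ * a⁻¹) * (g⁻¹ * a * g) := by rw [h']
      _ = n * u := by rw [hu]; group
  have huZ := hZF u huF hucomm
  have h5 : g * a * g⁻¹ * a⁻¹ = (g * a) * u⁻¹ * (g * a)⁻¹ := by rw [hu]; group
  rw [h5]
  exact (inferInstance : (Subgroup.center G).Normal).conj_mem _ (Subgroup.inv_mem _ huZ) _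

/-- **`F(G) = Z(G)`** when `χ` is faithful irreducible and `χ · χ^σ` is irreducible. -/
theorem gp_main (χ : IrrCharacter G) (hfaith : ∀ g : G, χ.1 g = χ.1 1 → g = 1)
    (k : ℕ) (hk : k.Coprime (Nat.card G))
    (hirr : IsIrrCharacter G (fun g => χ.1 g * χ.1 (g ^ k))) :
    fittingSubgroup G = Subgroup.center G := by
  classical
  obtain ⟨F, hFdef⟩ : ∃ F : Subgroup G, F = fittingSubgroup G := ⟨_, rfl⟩
  rw [← hFdef]
  have hFn : F.Normal := by
    rw [hFdef]
    exact Cfsg.Agent.H1.fitting_normal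
  have hFnil : Group.IsNilpotent F := by
    rw [hFdef]
    exact Cfsg.Agent.H1.fitting_nilpotent
  apply le_antisymm
  swap
  · rw [hFdef]
    have hnilZ : Group.IsNilpotent (Subgroup.center G) :=
      ⟨⟨1, Subgroup.upperCentralSeries_one_eq_top_iff.mpr inferInstance⟩⟩
    exact le_sSup ⟨inferInstance, hnilZ⟩
  by_contra hnot
  haveI := hFn
  have hZF : ∀ u ∈ F, (∀ n ∈ F, u * n = n * u) → u ∈ Subgroup.center G := by
    intro u hu hcomm
    have hle := gp_abelian_central χ hfaith k hk hirr (F ⊓ Subgroup.centralizer (F : Set G)) (by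
      rintro x ⟨hx1, hx2⟩ y ⟨hy1, hy2⟩
      exact (hx2 y hy1).symm)
    exact hle ⟨hu, fun n hn => (hcomm n hn).symm⟩
  have hnab : ¬ ∀ x : F, ∀ y : F, x * y = y * x := by
    intro hab
    apply hnot
    intro u hu
    exact hZF u hu (fun n hn => congrArg Subtype.val (hab ⟨u, hu⟩ ⟨n, hn⟩))
  have hex : ∃ a' : F, a' ∈ Subgroup.upperCentralSeries F 2 ∧ a' ∉ Subgroup.center F := by
    by_contra hno
    push Not at hno
    have h21 : Subgroup.upperCentralSeries F 2 = Subgroup.upperCentralSeries F 1 := by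
      apply le_antisymm
      · intro x hx
        rw [Subgroup.upperCentralSeries_one]
        exact hno x hx
      · exact Subgroup.upperCentralSeries_mono F (by norm_num)
    have hall : ∀ n : ℕ, Subgroup.upperCentralSeries F (n + 1) = Subgroup.upperCentralSeries F 1 := by
      intro n
      induction n with
      | zero => rfl
      | succ n ih =>
        ext x
        rw [Subgroup.mem_upperCentralSeries_succ_iff, ih]
        have h2 : x ∈ Subgroup.upperCentralSeries F 1 ↔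
            x ∈ Subgroup.upperCentralSeries F (1 + 1) := by rw [← h21]
        rw [h2, Subgroup.mem_upperCentralSeries_succ_iff]
    obtain ⟨n, hn⟩ := hFnil.nilpotent'
    apply hnab
    have hcen : Subgroup.center F = ⊤ := by
      cases n with
      | zero =>
        rw [Subgroup.upperCentralSeries_zero] at hn
        rw [eq_top_iff, ← hn]
        exact bot_le
      | succ n => rw [← Subgroup.upperCentralSeries_one, ← hall n, hn]
    intro x y
    have hy : y ∈ Subgroup.center F := by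
      rw [hcen]
      trivial
    exact Subgroup.mem_center_iff.mp hy x
  obtain ⟨a', ha2, hacen⟩ := hex
  have hFa : ∀ h ∈ F, h * a'.1 * h⁻¹ * a'.1⁻¹ ∈ Subgroup.center G := by
    intro h hh
    rw [show (2 : ℕ) = 1 + 1 from rfl, Subgroup.mem_upperCentralSeries_succ_iff] at ha2
    have h1 := ha2 ⟨h, hh⟩
    rw [Subgroup.upperCentralSeries_one] at h1
    have h2 : a'.1 * h * a'.1⁻¹ * h⁻¹ ∈ Subgroup.center G := by
      apply hZF _ (a' * ⟨h, hh⟩ * a'⁻¹ * (⟨h, hh⟩ : F)⁻¹).2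
      intro n hn
      have h3 := Subgroup.mem_center_iff.mp h1 ⟨n, hn⟩
      exact (congrArg Subtype.val h3).symm
    have h4 : h * a'.1 * h⁻¹ * a'.1⁻¹ = (a'.1 * h * a'.1⁻¹ * h⁻¹)⁻¹ := by group
    rw [h4]
    exact Subgroup.inv_mem _ h2
  obtain ⟨n₀, hn₀⟩ : ∃ n₀ : F, n₀.1 * a'.1 * n₀.1⁻¹ * a'.1⁻¹ ≠ 1 := by
    by_contra hno
    push Not at hno
    apply hacen
    rw [Subgroup.mem_center_iff]
    intro n
    apply Subtype.ext
    have h1 := hno n
    show n.1 * a'.1 = a'.1 * n.1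
    calc n.1 * a'.1 = (n.1 * a'.1 * n.1⁻¹ * a'.1⁻¹) * a'.1 * n.1 := by group
      _ = a'.1 * n.1 := by rw [h1, one_mul]
  obtain ⟨β, hβ⟩ : ∃ β : F →* ℂˣ, β = gpHom χ F a'.1 hFa := ⟨_, rfl⟩
  obtain ⟨T, hT⟩ : ∃ T : Subgroup G,
      T = Cfsg.Agent.Clifford.inertia F (fun n : F => ((β n : ℂˣ) : ℂ)) := ⟨_, rfl⟩
  letI : Fintype F := Fintype.ofFinite F
  letI : Fintype T := Fintype.ofFinite T
  have hβirr : IsIrrCharacter F (fun n : F => ((β n : ℂˣ) : ℂ)) := isIrrCharacter_of_hom β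
  have hNT : F ≤ T := by
    rw [hT]
    exact Cfsg.Agent.Clifford.le_inertia F
      (isClassFunction_of_isCharacter (isCharacter_of_isIrrCharacter hβirr))
  have hTa : ∀ h ∈ T, h * a'.1 * h⁻¹ * a'.1⁻¹ ∈ Subgroup.center G := by
    intro g hg
    rw [hT, hβ] at hg
    exact gp_inertia_comm χ hfaith F a'.1 a'.2 hFa hZF g hg
  obtain ⟨δ, hδ⟩ : ∃ δ : T →* ℂˣ, δ = gpHom χ T a'.1 hTa := ⟨_, rfl⟩
  have hδirr : IsIrrCharacter T (fun t : T => ((δ t : ℂˣ) : ℂ)) := isIrrCharacter_of_hom δ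
  have hres : (fun n : F => ((δ ⟨n, hNT n.2⟩ : ℂˣ) : ℂ)) = fun n : F => ((β n : ℂˣ) : ℂ) := by
    rw [hδ, hβ]
    rfl
  have hov : classInner (fun n : F => ((δ ⟨n, hNT n.2⟩ : ℂˣ) : ℂ))
      (fun n : F => ((β n : ℂˣ) : ℂ)) ≠ 0 := by
    rw [hres, irr_inner_self ⟨_, hβirr⟩]
    exact one_ne_zero
  obtain ⟨hΞirr, -⟩ := clifford_corr_irr hβirr hNT hT hδirr hov
  have hΞ1 : indFun T (fun t : T => ((δ t : ℂˣ) : ℂ)) ≠ fun _ => (1 : ℂ) := by
    intro h
    have h1 : classInner (indFun T (fun t : T => ((δ t : ℂˣ) : ℂ))) (fun _ => (1 : ℂ)) = 1 := by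
      rw [h]
      exact irr_inner_self ⟨_, gp_isIrr_one G⟩
    rw [frobenius_reciprocity T _ _
      (isClassFunction_of_isCharacter (isCharacter_of_isIrrCharacter (gp_isIrr_one G))),
      classInner_irr_irr hδirr (gp_isIrr_one T)] at h1
    split_ifs at h1 with h2
    · have h3 := congrFun h2 ⟨n₀.1, hNT n₀.2⟩
      rw [hδ] at h3
      have h3' : χ.1 (n₀.1 * a'.1 * n₀.1⁻¹ * a'.1⁻¹) / χ.1 1 = 1 := h3
      have h0 := Cfsg.Agent.H82.irr_one_ne_zero χ
      exact hn₀ (hfaith _ ((div_eq_one_iff_eq h0).mp h3'))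
    · exact zero_ne_one h1
  refine gp_key χ.2 k hk hirr hΞirr hΞ1 (gp_ind χ.2 T _ (fun t => ?_)) ?_
  · rw [hδ]
    exact gpHom_fix χ T a'.1 hTa t
  · have hχ' : IsIrrCharacter G (fun g => χ.1 (g ^ k)) :=
      Cfsg.Agent.H79.isIrrCharacter_comp_pow k hk χ.2
    refine gp_ind hχ' T _ (fun t => ?_)
    rw [hδ]
    exact gpHom_fix_pow χ T a'.1 hTa k hk t

end GalProd

end Cfsg.Agent.H32
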