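import Mathlib
import Cfsg.Agent.H99.I2Defs
import Cfsg.Agent.H49.RankParity
import Cfsg.Agent.H49.Plus

/-!
# I2-RANKP (helper32, for helper99): characteristic `2`, for `x ∈ Ω⁺_{2d}` the rank of `x - 1`
is even.
-/

set_option autoImplicit false

namespace Cfsg.Agent.H32.I2

open Cfsg.Agent.H45 Cfsg.Agent.H48.Ep Cfsg.Agent.H99.I2 Module

universe u

theorem rankParP : StRankParP.{u} := by
  intro F _ _ d h2 hd x hx
  classical
  obtain ⟨y, hy, rfl⟩ := hx
  have hV : Module.finrank F (Fin d ⊕ Fin d → F) = 2 * d := by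
    rw [Module.finrank_fintype_fun_eq_card]
    simp
    omega
  have h := (Cfsg.Agent.H49.mem_commutator_iff_even_rank_two (Cfsg.Agent.H49.QP d F) h2
    (Cfsg.Agent.H49.QP_nondeg d F) hV (Or.inr (by omega)) (by omega) y).mp hy
  rw [Matrix.rank] at h
  have e : Matrix.toLin' (((Cfsg.isometryGroup F (Cfsg.quadFormPlus d F)).subtype y :
        Matrix.GeneralLinearGroup (Fin d ⊕ Fin d) F) :
        Matrix (Fin d ⊕ Fin d) (Fin d ⊕ Fin d) F) - 1 =
      Matrix.mulVecLin (((y : Matrix.GeneralLinearGroup (Fin d ⊕ Fin d) F) :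
        Matrix (Fin d ⊕ Fin d) (Fin d ⊕ Fin d) F) - 1) := by
    apply LinearMap.ext
    intro v
    simp
  rw [e]
  exact h

example : StRankParP.{u} := rankParP

end Cfsg.Agent.H32.I2
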