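import Mathlib

set_option autoImplicit false

namespace Cfsg.Agent.H32.J3C

/-- A finite multiplicatively closed family containing `1` in a finite group, as a subgroup. -/
def rangeSubgroup {C : Type*} [Group C] [Finite C] {n : ℕ} (e : Fin n → C) (z : Fin n)
    (m : Fin n → Fin n → Fin n) (h1 : e z = 1) (hm : ∀ a a', e a * e a' = e (m a a')) :
    Subgroup C where
  carrier := Set.range e
  mul_mem' := by
    rintro _ _ ⟨a, rfl⟩ ⟨a', rfl⟩
    exact ⟨m a a', (hm a a').symm⟩
  one_mem' := ⟨z, h1⟩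
  inv_mem' := by
    rintro _ ⟨a, rfl⟩
    let M : Submonoid C :=
      { carrier := Set.range e
        mul_mem' := by
          rintro _ _ ⟨a, rfl⟩ ⟨a', rfl⟩
          exact ⟨m a a', (hm a a').symm⟩
        one_mem' := ⟨z, h1⟩ }
    have hx : e a ∈ M := ⟨a, rfl⟩
    have h2 : (e a)⁻¹ ∈ Submonoid.powers (e a) :=
      (isOfFinOrder_of_finite (e a)).mem_powers_iff_mem_zpowers.mpr
        (Subgroup.inv_mem _ (Subgroup.mem_zpowers (e a)))
    exact (Submonoid.powers_le.mpr hx) h2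

theorem mem_rangeSubgroup {C : Type*} [Group C] [Finite C] {n : ℕ} (e : Fin n → C) (z : Fin n)
    (m : Fin n → Fin n → Fin n) (h1 : e z = 1) (hm : ∀ a a', e a * e a' = e (m a a')) (x : C) :
    x ∈ rangeSubgroup e z m h1 hm ↔ ∃ a, e a = x := Iff.rfl

theorem card_rangeSubgroup {C : Type*} [Group C] [Finite C] {n : ℕ} (e : Fin n → C) (z : Fin n)
    (m : Fin n → Fin n → Fin n) (h1 : e z = 1) (hm : ∀ a a', e a * e a' = e (m a a'))
    (hinj : Function.Injective e) : Nat.card (rangeSubgroup e z m h1 hm) = n := by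
  have hb : Function.Bijective (fun a : Fin n =>
      (⟨e a, ⟨a, rfl⟩⟩ : rangeSubgroup e z m h1 hm)) := by
    constructor
    · intro a a' h
      exact hinj (Subtype.ext_iff.mp h)
    · rintro ⟨_, ⟨a, rfl⟩⟩
      exact ⟨a, rfl⟩
  rw [← Nat.card_congr (Equiv.ofBijective _ hb)]
  simp

theorem cent_structure {J : Type*} [Group J] [Finite J] (t : J)
    (eq : Fin 32 → J) (eh : Fin 60 → J) (qm : Fin 32 → Fin 32 → Fin 32)
    (hm : Fin 60 → Fin 60 → Fin 60) (act : Fin 60 → Fin 32 → Fin 32)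
    (hq1 : eq 0 = 1) (hqm : ∀ a a', eq a * eq a' = eq (qm a a'))
    (hh1 : eh 0 = 1) (hhm : ∀ b b', eh b * eh b' = eh (hm b b'))
    (hact : ∀ b a, eh b * eq a = eq (act b a) * eh b)
    (hqinj : Function.Injective eq) (hhinj : Function.Injective eh)
    (hdisj : ∀ a b, eq a = eh b → a = 0)
    (hqt : ∀ a, eq a * t = t * eq a) (hht : ∀ b, eh b * t = t * eh b)
    (hC : Nat.card (Subgroup.centralizer ({t} : Set J)) ≤ 1920) :
    ∃ (Q H : Subgroup (Subgroup.centralizer ({t} : Set J))) (_ : Q.Normal)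
      (fq : Fin 32 → Q) (fh : Fin 60 → H),
      Function.Bijective fq ∧ fq 0 = 1 ∧ (∀ a a', fq a * fq a' = fq (qm a a')) ∧
      Function.Bijective fh ∧ fh 0 = 1 ∧ (∀ b b', fh b * fh b' = fh (hm b b')) ∧
      Q.IsComplement' H := by
  classical
  have hqC : ∀ a, eq a ∈ Subgroup.centralizer ({t} : Set J) := by
    intro a
    rw [Subgroup.mem_centralizer_iff]
    intro x hx
    rw [Set.mem_singleton_iff] at hx
    subst hx
    exact (hqt a).symm
  have hhC : ∀ b, eh b ∈ Subgroup.centralizer ({t} : Set J) := by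
    intro b
    rw [Subgroup.mem_centralizer_iff]
    intro x hx
    rw [Set.mem_singleton_iff] at hx
    subst hx
    exact (hht b).symm
  let eq' : Fin 32 → Subgroup.centralizer ({t} : Set J) := fun a => ⟨eq a, hqC a⟩
  let eh' : Fin 60 → Subgroup.centralizer ({t} : Set J) := fun b => ⟨eh b, hhC b⟩
  have hq1' : eq' 0 = 1 := Subtype.ext hq1
  have hh1' : eh' 0 = 1 := Subtype.ext hh1
  have hqm' : ∀ a a', eq' a * eq' a' = eq' (qm a a') := fun a a' => Subtype.ext (hqm a a')
  have hhm' : ∀ b b', eh' b * eh' b' = eh' (hm b b') := fun b b' => Subtype.ext (hhm b b')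
  have hqinj' : Function.Injective eq' := fun a a' h => hqinj (Subtype.ext_iff.mp h)
  have hhinj' : Function.Injective eh' := fun b b' h => hhinj (Subtype.ext_iff.mp h)
  have hact' : ∀ b a, eh' b * eq' a = eq' (act b a) * eh' b := fun b a => Subtype.ext (hact b a)
  set Q := rangeSubgroup eq' 0 qm hq1' hqm' with hQ
  set H := rangeSubgroup eh' 0 hm hh1' hhm' with hH
  have hcQ : Nat.card Q = 32 := card_rangeSubgroup eq' 0 qm hq1' hqm' hqinj'
  have hcH : Nat.card H = 60 := card_rangeSubgroup eh' 0 hm hh1' hhm' hhinj'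
  have hdisjQH : Disjoint Q H := by
    rw [Subgroup.disjoint_def]
    rintro x ⟨a, rfl⟩ ⟨b, hb⟩
    have h1 : eq a = eh b := (Subtype.ext_iff.mp hb).symm
    have h2 : a = 0 := hdisj a b h1
    rw [h2]
    exact hq1'
  have hinj : Function.Injective (fun x : Q × H => (x.1 : Subgroup.centralizer ({t} : Set J)) * x.2) :=
    Subgroup.mul_injective_of_disjoint hdisjQH
  have hcard_le : Nat.card (Q × H) ≤ Nat.card (Subgroup.centralizer ({t} : Set J)) :=
    Nat.card_le_card_of_injective _ hinj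
  have hcard : Nat.card Q * Nat.card H = Nat.card (Subgroup.centralizer ({t} : Set J)) := by
    rw [Nat.card_prod, hcQ, hcH] at hcard_le
    rw [hcQ, hcH]
    omega
  have hcompl : Q.IsComplement' H := Subgroup.isComplement'_of_card_mul_and_disjoint hcard hdisjQH
  have hnormal : Q.Normal := by
    constructor
    intro n hn c
    obtain ⟨⟨⟨q, hqQ⟩, ⟨h, hhH⟩⟩, hqh⟩ := hcompl.2 c
    have hc : c = q * h := hqh.symm
    obtain ⟨a, rfl⟩ := hn
    obtain ⟨b, rfl⟩ := hhH
    have h1 : eh' b * eq' a * (eh' b)⁻¹ = eq' (act b a) := by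
      rw [hact' b a]; group
    have h2 : c * eq' a * c⁻¹ = q * (eh' b * eq' a * (eh' b)⁻¹) * q⁻¹ := by
      rw [hc]; group
    rw [h2, h1]
    exact Q.mul_mem (Q.mul_mem hqQ ⟨act b a, rfl⟩) (Q.inv_mem hqQ)
  refine ⟨Q, H, hnormal, fun a => ⟨eq' a, ⟨a, rfl⟩⟩, fun b => ⟨eh' b, ⟨b, rfl⟩⟩, ?_, ?_, ?_, ?_, ?_, ?_, hcompl⟩
  · constructor
    · intro a a' h
      exact hqinj' (Subtype.ext_iff.mp h)
    · rintro ⟨_, ⟨a, rfl⟩⟩
      exact ⟨a, rfl⟩
  · exact Subtype.ext hq1'
  · intro a a'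
    exact Subtype.ext (hqm' a a')
  · constructor
    · intro b b' h
      exact hhinj' (Subtype.ext_iff.mp h)
    · rintro ⟨_, ⟨b, rfl⟩⟩
      exact ⟨b, rfl⟩
  · exact Subtype.ext hh1'
  · intro b b'
    exact Subtype.ext (hhm' b b')

end Cfsg.Agent.H32.J3C
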