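import Mathlib

set_option autoImplicit false

namespace Cfsg.Agent.H32.J3C

theorem card_centralizer_mul_le {J : Type*} [Group J] [Finite J] (t : J) (n : ℕ) (f : Fin n → J)
    (hf : Function.Injective f) (hc : ∀ k, ∃ g : J, f k = g * t * g⁻¹) :
    Nat.card (Subgroup.centralizer ({t} : Set J)) * n ≤ Nat.card J := by
  classical
  set C : Subgroup J := Subgroup.centralizer ({t} : Set J) with hC
  choose g hg using hc
  have hinj : Function.Injective (fun k : Fin n => (QuotientGroup.mk (g k) : J ⧸ C)) := by
    intro k l hkl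
    apply hf
    have h1 : (g k)⁻¹ * g l ∈ C := QuotientGroup.eq.mp hkl
    have h2 : (g k)⁻¹ * g l * t = t * ((g k)⁻¹ * g l) := by
      have := Subgroup.mem_centralizer_iff.mp h1 t (Set.mem_singleton t)
      exact this.symm
    rw [hg k, hg l]
    have h3 : g l = g k * ((g k)⁻¹ * g l) := by group
    have h4 : g l * t * (g l)⁻¹ = g k * ((g k)⁻¹ * g l * t) * (g l)⁻¹ := by group
    rw [h4, h2]
    group
  have hle : n ≤ C.index := by
    have := Nat.card_le_card_of_injective _ hinj
    simpa [Subgroup.index] using this
  calc Nat.card C * n ≤ Nat.card C * C.index := Nat.mul_le_mul_left _ hle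
    _ = Nat.card J := Subgroup.card_mul_index C

end Cfsg.Agent.H32.J3C
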