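import Cfsg.Agent.H64.JzDefs
import Cfsg.Agent.H63.SnIfV
import Cfsg.Agent.H59.SoConj
import Cfsg.Agent.H3.Critical

/-!
# S2951 / S2952 (team project JZ, lead helper64) piece JZ-RESN, CLASH-FREE form

`resN_of (h46 : St46) (hZ2 : StZ2) : StResN`: in the residual situation, if `S` normalizes `K`
then clause 1 holds.  Same proof as helper72's `Cfsg.Agent.H72.Jz.resN` (H72/JzResN.lean), with
the statement S2946 taken as a hypothesis `St46` (verbatim, as a closed `Prop`) instead of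
importing `Cfsg.Agent.S2946`, whose closure (H29.ThompsonInt) cannot be imported next to the one
of S2950 (H29.Transport).  The closure of this file contains neither.
-/

set_option autoImplicit false
set_option linter.style.haveILetI false
open Cfsg

universe u

namespace Cfsg.Agent.H32.Jz

open Cfsg.Agent.H64.Jz

/-- The statement S2946, verbatim, as a closed `Prop`. -/
def St46 : Prop := ∀ {G : Type u} [Group G] [Finite G] (_hL : Cfsg.IsCharacteristicTwoType G)
    (_hN : ∀ N : Subgroup G, Cfsg.IsTwoLocal N → Group.IsSolvable ↥N)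
    (_hZ : ∀ S : Sylow 2 G, Subgroup.centralizer (Cfsg.omegaCenterOf (S : Subgroup G) : Set G) ≤
      Subgroup.normalizer ((S : Subgroup G) : Set G)) (T : Subgroup G) (_hT : IsPGroup 2 ↥T)
    (_hT1 : T ≠ ⊥) (K : Subgroup G) (_hK : Cfsg.IsJComponent T K)
    (Z₀ : Subgroup G) (_hZ₀ : Z₀ = Cfsg.omegaCenterOf (Cfsg.thompsonSubgroupOf 2 T)),
    Nat.card ↥(Z₀ ⊓ Cfsg.wOf K) = 2 ∧
      (Z₀ ⊓ ((K ⊔ Cfsg.thompsonSubgroupOf 2 T) ⊓
        Subgroup.centralizer ((K ⊔ Cfsg.thompsonSubgroupOf 2 T) : Set G))) ⊔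
        (Z₀ ⊓ Cfsg.wOf K) = Z₀

/-- in a subgroup of order 2 two non-identity elements are equal -/
theorem eq_of_card_two' {G : Type u} [Group G] (H : Subgroup G) (h : Nat.card ↥H = 2) {a b : G}
    (ha : a ∈ H) (hb : b ∈ H) (ha1 : a ≠ 1) (hb1 : b ≠ 1) : a = b := by
  obtain ⟨y, -, hy⟩ := (Nat.card_eq_two_iff' (1 : ↥H)).mp h
  have h1 : (⟨a, ha⟩ : ↥H) = y := hy _ (fun h0 => ha1 (congrArg Subtype.val h0))
  have h2 : (⟨b, hb⟩ : ↥H) = y := hy _ (fun h0 => hb1 (congrArg Subtype.val h0))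
  exact congrArg Subtype.val (h1.trans h2.symm)

/-- JZ-RESN, clash-free. -/
theorem resN_of (h46 : St46.{u}) (hZ2 : StZ2.{u}) : StResN.{u} := by
  intro G _ _ S M K L T' K' L' hR hSK
  obtain ⟨hB, -, hB', hT'⟩ := hR
  have hcardZ : Nat.card ↥(omegaCenterOf (S : Subgroup G)) = 2 := hZ2 S L T' K' L' hB' hT'
  obtain ⟨⟨hL, hN, hZ⟩, -, -, -, hSmax, -, hKout, -, -⟩ := hB
  have hS1 : (S : Subgroup G) ≠ ⊥ := hSmax.1.2.1
  have hS2 : IsPGroup 2 ↥(S : Subgroup G) := S.isPGroup'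
  have hJc : IsJComponent (S : Subgroup G) K := hKout.1.1
  obtain ⟨hc1, hc2, hc3, -, -, -⟩ := hJc
  have h46 := h46 hL hN hZ (S : Subgroup G) hS2 hS1 K hKout.1.1
    (omegaCenterOf (thompsonSubgroupOf 2 (S : Subgroup G))) rfl
  obtain ⟨h46a, h46b⟩ := h46
  -- abbreviations are avoided: J = thompsonSubgroupOf 2 ↑S
  have hJS : thompsonSubgroupOf 2 (S : Subgroup G) ≤ (S : Subgroup G) :=
    Subgroup.map_subtype_le _
  -- conjugation by `S` preserves `J`, `Z₀`, `K ⊔ J`
  have hconjJ : ∀ s ∈ (S : Subgroup G), ∀ j ∈ thompsonSubgroupOf 2 (S : Subgroup G),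
      s * j * s⁻¹ ∈ thompsonSubgroupOf 2 (S : Subgroup G) := by
    intro s hs j hj
    have h1 := Cfsg.Agent.H59.So.thompson_map_conj_self (T := (S : Subgroup G)) hs
    have h2 : (MulAut.conj s).toMonoidHom j ∈
        (thompsonSubgroupOf 2 (S : Subgroup G)).map (MulAut.conj s).toMonoidHom :=
      Subgroup.mem_map_of_mem _ hj
    rw [h1] at h2
    simpa using h2
  have hconjZ0 : ∀ s ∈ (S : Subgroup G),
      ∀ x ∈ omegaCenterOf (thompsonSubgroupOf 2 (S : Subgroup G)),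
      s * x * s⁻¹ ∈ omegaCenterOf (thompsonSubgroupOf 2 (S : Subgroup G)) := by
    intro s hs x hx
    have h1 := Cfsg.Agent.H59.So.thompson_map_conj_self (T := (S : Subgroup G)) hs
    have h3 := Cfsg.Agent.H59.So.omegaCenterOf_map_conj s (thompsonSubgroupOf 2 (S : Subgroup G))
    rw [h1] at h3
    have h2 : (MulAut.conj s).toMonoidHom x ∈
        (omegaCenterOf (thompsonSubgroupOf 2 (S : Subgroup G))).map (MulAut.conj s).toMonoidHom :=
      Subgroup.mem_map_of_mem _ hx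
    rw [← h3] at h2
    simpa using h2
  have hconjK : ∀ s ∈ (S : Subgroup G), ∀ k ∈ K, s * k * s⁻¹ ∈ K := by
    intro s hs k hk
    exact (Subgroup.mem_normalizer_iff.mp (hSK hs) k).mp hk
  have hconjKJ : ∀ s ∈ (S : Subgroup G), ∀ y ∈ K ⊔ thompsonSubgroupOf 2 (S : Subgroup G),
      s * y * s⁻¹ ∈ K ⊔ thompsonSubgroupOf 2 (S : Subgroup G) := by
    intro s hs y hy
    have h2 : (MulAut.conj s).toMonoidHom y ∈
        (K ⊔ thompsonSubgroupOf 2 (S : Subgroup G)).map (MulAut.conj s).toMonoidHom :=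
      Subgroup.mem_map_of_mem _ hy
    rw [Subgroup.map_sup] at h2
    have h3 : K.map (MulAut.conj s).toMonoidHom ⊔
        (thompsonSubgroupOf 2 (S : Subgroup G)).map (MulAut.conj s).toMonoidHom ≤
        K ⊔ thompsonSubgroupOf 2 (S : Subgroup G) := by
      apply sup_le_sup
      · rintro _ ⟨k, hk, rfl⟩
        simpa using hconjK s hs k hk
      · rintro _ ⟨j, hj, rfl⟩
        simpa using hconjJ s hs j hj
    simpa using h3 h2
  -- `Z₁ = ⊥`
  have hZ1 : omegaCenterOf (thompsonSubgroupOf 2 (S : Subgroup G)) ⊓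
      ((K ⊔ thompsonSubgroupOf 2 (S : Subgroup G)) ⊓
        Subgroup.centralizer ((K ⊔ thompsonSubgroupOf 2 (S : Subgroup G)) : Set G))
      = ⊥ := by
    by_contra hne
    set Z1 : Subgroup G := omegaCenterOf (thompsonSubgroupOf 2 (S : Subgroup G)) ⊓
      ((K ⊔ thompsonSubgroupOf 2 (S : Subgroup G)) ⊓
        Subgroup.centralizer ((K ⊔ thompsonSubgroupOf 2 (S : Subgroup G)) : Set G))
      with hZ1def
    have hZ1S : Z1 ≤ (S : Subgroup G) := by
      intro x hx
      exact hJS (Cfsg.Agent.H63.Sn.mem_omegaCenterOf _ (Subgroup.mem_inf.mp hx).1).1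
    have hconjZ1 : ∀ s ∈ (S : Subgroup G), ∀ x ∈ Z1, s * x * s⁻¹ ∈ Z1 := by
      intro s hs x hx
      obtain ⟨hx0, hx1⟩ := Subgroup.mem_inf.mp hx
      obtain ⟨hx1, hx2⟩ := Subgroup.mem_inf.mp hx1
      refine Subgroup.mem_inf.mpr ⟨hconjZ0 s hs x hx0, Subgroup.mem_inf.mpr
        ⟨hconjKJ s hs x hx1, ?_⟩⟩
      rw [Subgroup.mem_centralizer_iff]
      intro y hy
      have hyu : y ∈ (K : Set G) ∪ (thompsonSubgroupOf 2 (S : Subgroup G) : Set G) := hy
      have hy' : s⁻¹ * y * s ∈ (K : Set G) ∪ (thompsonSubgroupOf 2 (S : Subgroup G) : Set G) := by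
        rcases hyu with h | h
        · left
          have := hconjK s⁻¹ (inv_mem hs) y h
          rwa [inv_inv] at this
        · right
          have := hconjJ s⁻¹ (inv_mem hs) y h
          rwa [inv_inv] at this
      have h1 := (Subgroup.mem_centralizer_iff.mp hx2) _ hy'
      -- h1 : s⁻¹ * y * s * x = x * (s⁻¹ * y * s)
      calc y * (s * x * s⁻¹) = s * (s⁻¹ * y * s * x) * s⁻¹ := by group
        _ = s * (x * (s⁻¹ * y * s)) * s⁻¹ := by rw [h1]
        _ = s * x * s⁻¹ * y := by group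
    haveI hnorm : (Z1.subgroupOf (S : Subgroup G)).Normal := by
      constructor
      intro n hn g
      rw [Subgroup.mem_subgroupOf] at hn ⊢
      exact hconjZ1 g g.2 n hn
    have hne' : Z1.subgroupOf (S : Subgroup G) ≠ ⊥ := by
      intro h0
      rw [Subgroup.subgroupOf_eq_bot] at h0
      exact hne (h0.eq_bot_of_le hZ1S)
    obtain ⟨z, hzN, hzc, hz1⟩ :=
      Cfsg.Agent.H3.normal_inf_center_ne_bot hS2 (Z1.subgroupOf (S : Subgroup G)) hne'
    have hzZ1 : (z : G) ∈ Z1 := Subgroup.mem_subgroupOf.mp hzN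
    have hzne : (z : G) ≠ 1 := fun h0 => hz1 (Subtype.ext h0)
    have hzcS : (z : G) ∈ Subgroup.centralizer ((S : Subgroup G) : Set G) := by
      rw [Subgroup.mem_centralizer_iff]
      intro h hh
      have := (Subgroup.mem_center_iff.mp hzc) ⟨h, hh⟩
      exact congrArg Subtype.val this
    obtain ⟨hz0, hzKJ⟩ := Subgroup.mem_inf.mp hzZ1
    obtain ⟨-, hzC⟩ := Subgroup.mem_inf.mp hzKJ
    have hzsq : (z : G) ^ 2 = 1 := (Cfsg.Agent.H63.Sn.mem_omegaCenterOf _ hz0).2.2
    have hzZ : (z : G) ∈ omegaCenterOf (S : Subgroup G) :=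
      Cfsg.Agent.H63.Sn.omegaCenterOf_mem _ z.2 hzcS hzsq
    -- `K` centralizes `Z`
    have hKC : K ≤ Subgroup.centralizer (omegaCenterOf (S : Subgroup G) : Set G) := by
      intro k hk
      rw [Subgroup.mem_centralizer_iff]
      intro y hy
      by_cases hy1 : y = 1
      · rw [hy1, one_mul, mul_one]
      · have hyz : y = (z : G) := eq_of_card_two' _ hcardZ hy hzZ hy1 hzne
        rw [hyz]
        exact ((Subgroup.mem_centralizer_iff.mp hzC) k (Or.inl hk)).symm
    have hKN : K ≤ Subgroup.normalizer ((S : Subgroup G) : Set G) := hKC.trans (hZ S)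
    -- so `K = [K, J] ≤ S`
    have hKS : K ≤ (S : Subgroup G) := by
      rw [← hc2, Subgroup.commutator_le]
      intro k hk j hj
      have h1 : k * j * k⁻¹ ∈ (S : Subgroup G) :=
        (Subgroup.mem_normalizer_iff.mp (hKN hk) j).mp (hJS hj)
      rw [commutatorElement_def]
      exact mul_mem h1 (inv_mem (hJS hj))
    -- so `K = ⊥`
    have hKbot : K = ⊥ := by
      rw [← hc1, Subgroup.closure_eq_bot_iff]
      rintro g ⟨hgK, hodd⟩
      obtain ⟨n, hn⟩ := hS2 ⟨g, hKS hgK⟩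
      have hn' : g ^ 2 ^ n = 1 := congrArg Subtype.val hn
      have hdvd : orderOf g ∣ 2 ^ n := orderOf_dvd_of_pow_eq_one hn'
      have hcop : Nat.Coprime (orderOf g) (2 ^ n) :=
        Nat.Coprime.pow_right n (Nat.coprime_two_right.mpr hodd)
      have h1 : orderOf g = 1 := Nat.Coprime.eq_one_of_dvd hcop hdvd
      exact orderOf_eq_one_iff.mp h1
    rw [hKbot, Subgroup.relIndex_bot_right] at hc3
    omega
  -- `Z₀` has order 2
  rw [hZ1, bot_sup_eq] at h46b
  have hcard0 : Nat.card ↥(omegaCenterOf (thompsonSubgroupOf 2 (S : Subgroup G))) = 2 := by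
    rw [h46b] at h46a
    exact h46a
  -- `Z₀ ≤ Z`
  have hle : omegaCenterOf (thompsonSubgroupOf 2 (S : Subgroup G)) ≤
      omegaCenterOf (S : Subgroup G) := by
    intro x hx
    obtain ⟨hxJ, -, hxsq⟩ := Cfsg.Agent.H63.Sn.mem_omegaCenterOf _ hx
    refine Cfsg.Agent.H63.Sn.omegaCenterOf_mem _ (hJS hxJ) ?_ hxsq
    rw [Subgroup.mem_centralizer_iff]
    intro s hs
    by_cases hx1 : x = 1
    · rw [hx1, one_mul, mul_one]
    · have h1 := hconjZ0 s hs x hx
      have h2 : s * x * s⁻¹ ≠ 1 := by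
        intro h0
        apply hx1
        have : x = s⁻¹ * (s * x * s⁻¹) * s := by group
        rw [this, h0]
        group
      have h3 : s * x * s⁻¹ = x := eq_of_card_two' _ hcard0 h1 hx h2 hx1
      calc s * x = s * x * s⁻¹ * s := by group
        _ = x * s := by rw [h3]
  have heq : omegaCenterOf (thompsonSubgroupOf 2 (S : Subgroup G)) =
      omegaCenterOf (S : Subgroup G) :=
    Subgroup.eq_of_le_of_card_ge hle (by rw [hcardZ, hcard0])
  exact Or.inl ⟨heq.symm, hcard0⟩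

end Cfsg.Agent.H32.Jz

example : Cfsg.Agent.H32.Jz.St46.{u} → Cfsg.Agent.H64.Jz.StZ2.{u} → Cfsg.Agent.H64.Jz.StResN.{u} :=
  Cfsg.Agent.H32.Jz.resN_of
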