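import Mathlib
import Cfsg.Prelude.Def_Blocks
import Cfsg.Agent.S0960
import Cfsg.Agent.S4441
import Cfsg.Agent.S4502
import Cfsg.Agent.H4.PSection2
import Cfsg.Agent.H82.Irr

/-!
# Piece S0435-PDV (helper32, for helper93): principal block data with values

Adapted from helper59's `Cfsg.Agent.H59.Ord7920.principal_data` (H59/Ord7920Chab.lean): the same
data, keeping the values on `P` and the relations on all `p`-regular elements.
-/

set_option autoImplicit false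

namespace Cfsg.Agent.H32.M11

open Subgroup

theorem principal_data_values {G : Type*} [Group G] [Finite G] (p : ℕ) [Fact p.Prime] (hodd : p ≠ 2)
    (P : Sylow p G) (hP : Nat.card P = p) (e : ℕ)
    (he : (centralizer ((P : Subgroup G) : Set G)).relIndex
      (normalizer ((P : Subgroup G) : Set G)) = e)
    (hk : Nat.card (ConjClasses ↥(normalizer ((P : Subgroup G) : Set G))) = e + (p - 1) / e)
    (he0 : 0 < e) (hep : e < p) :
    ∃ (X Y : Finset (Cfsg.IrrCharacter G)) (εX : Cfsg.IrrCharacter G → ℤ) (ε : ℤ),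
      (∀ χ, χ ∈ X ∨ χ ∈ Y ↔ ¬ p ∣ Cfsg.charDegree (χ : G → ℂ)) ∧ Disjoint X Y ∧
      X.card = e ∧ Y.card = (p - 1) / e ∧
      (∀ χ ∈ X, (εX χ = 1 ∨ εX χ = -1) ∧
        (Cfsg.charDegree (χ : G → ℂ) : ℤ) ≡ εX χ [ZMOD (p : ℤ)] ∧
        ∀ x ∈ (P : Subgroup G), x ≠ 1 → (χ : G → ℂ) x = (εX χ : ℂ)) ∧
      (ε = 1 ∨ ε = -1) ∧
      (∀ θ ∈ Y, (Cfsg.charDegree (θ : G → ℂ) : ℤ) ≡ ε * (e : ℤ) [ZMOD (p : ℤ)]) ∧
      (∀ θ ∈ Y, ∀ θ' ∈ Y, ∀ g : G, ¬ p ∣ orderOf g → (θ : G → ℂ) g = (θ' : G → ℂ) g) ∧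
      ∀ θ ∈ Y, ∀ g : G, ¬ p ∣ orderOf g →
        (ε : ℂ) * (θ : G → ℂ) g = ∑ χ ∈ X, (εX χ : ℂ) * (χ : G → ℂ) g := by
  classical
  have hp : p.Prime := Fact.out
  have hp3 : 3 ≤ p := by
    have := hp.two_le
    omega
  have : Fintype G := Fintype.ofFinite G
  haveI hfin : Finite (Cfsg.IrrCharacter G) := Cfsg.Agent.H4.finite_irr G
  obtain ⟨M, hM⟩ := Cfsg.Agent.H4.exists_isPModular hp
  obtain ⟨X, Y, hB, hdisj, hX, hY, εX, ε, hXp, hε, hYdeg, hYeq, hrel⟩ :=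
    Cfsg.Agent.S4441.result p M hM hodd P hP e he
  -- p-part of |G|
  have hdiv : p ∣ Nat.card G := by
    have h1 : Nat.card (P : Subgroup G) ∣ Nat.card G := Subgroup.card_subgroup_dvd_card _
    have h2 : Nat.card (P : Subgroup G) = p := hP
    rw [h2] at h1
    exact h1
  have hsq : ¬ p ^ 2 ∣ Nat.card G := by
    intro h
    have h1 := Sylow.card_eq_multiplicity P
    have h2 : Nat.card (P : Subgroup G) = p := hP
    rw [h2] at h1
    have h3 : (Nat.card G).factorization p = 1 := by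
      have h4 : p ^ 1 = p ^ (Nat.card G).factorization p := by simpa using h1
      exact (Nat.pow_right_injective hp.two_le h4).symm
    have h5 : 2 ≤ (Nat.card G).factorization p :=
      (hp.pow_dvd_iff_le_factorization (Nat.card_pos.ne')).mp h
    omega
  have hcount := Cfsg.Agent.S4502.result p hdiv hsq P
  rw [hk] at hcount
  -- the set of p'-degree characters
  set D : Set (Cfsg.IrrCharacter G) := {χ | ¬ p ∣ Cfsg.charDegree (χ : G → ℂ)} with hD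
  have hDcard : D.ncard = e + (p - 1) / e := by
    rw [← Nat.card_coe_set_eq]
    exact hcount
  have hXYcard : (X ∪ Y).ncard = e + (p - 1) / e := by
    rw [Set.ncard_union_eq hdisj (Set.toFinite X) (Set.toFinite Y), ← Nat.card_coe_set_eq,
      ← Nat.card_coe_set_eq, hX, hY]
  have hpe : ¬ (p : ℤ) ∣ (e : ℤ) := by
    intro h
    have h1 : p ∣ e := by exact_mod_cast h
    have := Nat.le_of_dvd he0 h1
    omega
  have hp1 : ¬ (p : ℤ) ∣ 1 := by
    intro h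
    have h1 : p ∣ 1 := by exact_mod_cast h
    have := Nat.le_of_dvd one_pos h1
    omega
  have hsub : X ∪ Y ⊆ D := by
    intro χ hχ
    rw [hD, Set.mem_ofPred_eq]
    intro hdvd
    have hdvd' : (p : ℤ) ∣ (Cfsg.charDegree (χ : G → ℂ) : ℤ) := by exact_mod_cast hdvd
    rcases hχ with h | h
    · obtain ⟨h1, h2, -⟩ := hXp χ h
      have h3 : (p : ℤ) ∣ εX χ := (Int.ModEq.dvd_iff h2).mp hdvd'
      rcases h1 with h1 | h1
      · rw [h1] at h3; exact hp1 h3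
      · rw [h1] at h3; exact hp1 ((Int.dvd_neg).mp h3)
    · have h2 := hYdeg χ h
      have h3 : (p : ℤ) ∣ ε * (e : ℤ) := (Int.ModEq.dvd_iff h2).mp hdvd'
      rcases hε with h1 | h1
      · rw [h1, one_mul] at h3; exact hpe h3
      · rw [h1] at h3
        have e1 : (-1 : ℤ) * (e : ℤ) = -(e : ℤ) := by ring
        rw [e1] at h3
        exact hpe ((Int.dvd_neg).mp h3)
  have hXYD : X ∪ Y = D :=
    Set.eq_of_subset_of_ncard_le hsub (by rw [hDcard, hXYcard]) (Set.toFinite D)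
  have hone : ¬ p ∣ orderOf (1 : G) := by
    rw [orderOf_one]
    intro h
    have := Nat.le_of_dvd one_pos h
    omega
  refine ⟨(Set.toFinite X).toFinset, (Set.toFinite Y).toFinset, εX, ε, ?_, ?_, ?_, ?_, ?_, hε,
    ?_, ?_, ?_⟩
  · intro χ
    rw [Set.Finite.mem_toFinset, Set.Finite.mem_toFinset, ← Set.mem_union, hXYD, hD,
      Set.mem_ofPred_eq]
  · rw [Set.Finite.disjoint_toFinset]
    exact hdisj
  · rw [← Set.ncard_eq_toFinset_card X (Set.toFinite X), ← Nat.card_coe_set_eq]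
    exact hX
  · rw [← Set.ncard_eq_toFinset_card Y (Set.toFinite Y), ← Nat.card_coe_set_eq]
    exact hY
  · intro χ hχ
    rw [Set.Finite.mem_toFinset] at hχ
    obtain ⟨h1, h2, h3⟩ := hXp χ hχ
    refine ⟨h1, h2, ?_⟩
    intro x hx hx1
    have h4 := h3 x hx hx1 1 (Subgroup.one_mem _) hone
    rwa [mul_one] at h4
  · intro θ hθ
    rw [Set.Finite.mem_toFinset] at hθ
    exact hYdeg θ hθ
  · intro θ hθ θ' hθ' g hg
    rw [Set.Finite.mem_toFinset] at hθ hθ'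
    exact hYeq θ hθ θ' hθ' g hg
  · intro θ hθ g hg
    rw [Set.Finite.mem_toFinset] at hθ
    have h1 := hrel θ hθ g hg
    rw [finsum_mem_eq_finite_toFinset_sum _ (Set.toFinite X)] at h1
    exact h1

end Cfsg.Agent.H32.M11

namespace Cfsg.Agent.H32.M11

open Subgroup

example {G : Type*} [Group G] [Finite G] (p : ℕ) [Fact p.Prime]
    (hodd : p ≠ 2) (P : Sylow p G) (hP : Nat.card P = p) (e : ℕ)
    (he : (centralizer ((P : Subgroup G) : Set G)).relIndex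
      (normalizer ((P : Subgroup G) : Set G)) = e)
    (hk : Nat.card (ConjClasses ↥(normalizer ((P : Subgroup G) : Set G))) = e + (p - 1) / e)
    (he0 : 0 < e) (hep : e < p) :
    ∃ (X Y : Finset (Cfsg.IrrCharacter G)) (εX : Cfsg.IrrCharacter G → ℤ) (ε : ℤ),
      (∀ χ, χ ∈ X ∨ χ ∈ Y ↔ ¬ p ∣ Cfsg.charDegree (χ : G → ℂ)) ∧ Disjoint X Y ∧
      X.card = e ∧ Y.card = (p - 1) / e ∧
      (∀ χ ∈ X, (εX χ = 1 ∨ εX χ = -1) ∧
        (Cfsg.charDegree (χ : G → ℂ) : ℤ) ≡ εX χ [ZMOD (p : ℤ)] ∧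
        ∀ x ∈ (P : Subgroup G), x ≠ 1 → (χ : G → ℂ) x = (εX χ : ℂ)) ∧
      (ε = 1 ∨ ε = -1) ∧
      (∀ θ ∈ Y, (Cfsg.charDegree (θ : G → ℂ) : ℤ) ≡ ε * (e : ℤ) [ZMOD (p : ℤ)]) ∧
      (∀ θ ∈ Y, ∀ θ' ∈ Y, ∀ g : G, ¬ p ∣ orderOf g → (θ : G → ℂ) g = (θ' : G → ℂ) g) ∧
      ∀ θ ∈ Y, ∀ g : G, ¬ p ∣ orderOf g →
        (ε : ℂ) * (θ : G → ℂ) g = ∑ χ ∈ X, (εX χ : ℂ) * (χ : G → ℂ) g :=
  principal_data_values p hodd P hP e he hk he0 hep

end Cfsg.Agent.H32.M11
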