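import Mathlib
import Cfsg.Prelude.Def_Blocks
import Cfsg.Agent.H82.Irr
import Cfsg.Agent.H4.Burnside

/-!
# Piece S0435-REAL3VAL (helper32, for helper93)

The value of an irreducible character at a real element of order 3 is an integer congruent to the
degree modulo 3.
-/

set_option autoImplicit false

namespace Cfsg.Agent.H32.M11

open Subgroup

open scoped ComplexConjugate

theorem real3_value {G : Type*} [Group G] [Finite G] (χ : Cfsg.IrrCharacter G) (x r : G)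
    (hx : orderOf x = 3) (hr : r * x * r⁻¹ = x⁻¹) :
    ∃ n : ℤ, (χ : G → ℂ) x = (n : ℂ) ∧
      n ≡ (Cfsg.charDegree (χ : G → ℂ) : ℤ) [ZMOD 3] := by
  obtain ⟨n, ρ, -, hχ, -, h1, hdeg⟩ := Cfsg.Agent.H82.irr_rep χ
  have hx3 : x ^ 3 = 1 := by rw [← hx]; exact pow_orderOf_eq_one x
  obtain ⟨A, hA⟩ : ∃ A : Module.End ℂ (Fin n → ℂ), A = ρ x := ⟨_, rfl⟩
  have hA3 : A ^ 3 = 1 := by rw [hA, ← map_pow, hx3, map_one]
  obtain ⟨S, hS⟩ : ∃ S : Module.End ℂ (Fin n → ℂ), S = 1 + A + A ^ 2 := ⟨_, rfl⟩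
  have hAA : A * A ^ 2 = 1 := by
    rw [← pow_succ']; exact hA3
  have hAS : A * S = S := by
    rw [hS, mul_add, mul_add, mul_one, hAA, ← pow_two]
    abel
  have hSS : S * S = (3 : ℂ) • S := by
    calc S * S = (1 + A + A ^ 2) * S := by rw [← hS]
      _ = S + A * S + A * (A * S) := by rw [add_mul, add_mul, one_mul, pow_two, mul_assoc]
      _ = S + S + S := by rw [hAS, hAS]
      _ = (3 : ℂ) • S := by
        rw [show (3 : ℂ) = 1 + 1 + 1 by norm_num, add_smul, add_smul, one_smul]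
  obtain ⟨π, hπ⟩ : ∃ π : Module.End ℂ (Fin n → ℂ), π = (3 : ℂ)⁻¹ • S := ⟨_, rfl⟩
  have hπi : IsIdempotentElem π := by
    unfold IsIdempotentElem
    rw [hπ, smul_mul_smul_comm, hSS, smul_smul]
    congr 1
    norm_num
  have htr : LinearMap.trace ℂ (Fin n → ℂ) π = (Module.finrank ℂ (LinearMap.range π) : ℂ) :=
    (LinearMap.IsIdempotentElem.isProj_range π hπi).trace
  have hchar : ∀ g : G, (χ : G → ℂ) g = LinearMap.trace ℂ (Fin n → ℂ) (ρ g) := by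
    intro g
    rw [← hχ]
    rfl
  have htr2 : LinearMap.trace ℂ (Fin n → ℂ) π =
      (3 : ℂ)⁻¹ * ((χ : G → ℂ) 1 + (χ : G → ℂ) x + (χ : G → ℂ) (x ^ 2)) := by
    have hS' : S = ρ 1 + ρ x + ρ (x ^ 2) := by rw [hS, hA, map_one, map_pow]
    rw [hπ, hS', map_smul, map_add, map_add, ← hchar, ← hchar, ← hchar, smul_eq_mul]
  have hx2 : x ^ 2 = x⁻¹ := by
    apply eq_inv_of_mul_eq_one_left
    rw [← pow_succ, hx3]
  have hconj : (χ : G → ℂ) (x ^ 2) = (χ : G → ℂ) x := by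
    rw [hx2, ← hr]
    exact (Cfsg.Agent.H82.irr_isConj χ (isConj_iff.mpr ⟨r, rfl⟩)).symm
  rw [htr2, hconj, h1] at htr
  set m₀ : ℕ := Module.finrank ℂ (LinearMap.range π) with hm₀
  -- χ x = (3 m₀ - n) / 2
  have hval : (χ : G → ℂ) x = (((3 * (m₀ : ℤ) - (n : ℤ) : ℤ) : ℚ) / 2 : ℚ) := by
    push_cast
    have h3 : (3 : ℂ) ≠ 0 := by norm_num
    field_simp at htr
    linear_combination (1 / 2 : ℂ) * htr
  have hint : IsIntegral ℤ ((((3 * (m₀ : ℤ) - (n : ℤ) : ℤ) : ℚ) / 2 : ℚ) : ℂ) := by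
    rw [← hval]
    exact Cfsg.Agent.H82.irr_isIntegral χ x
  obtain ⟨y, hy⟩ := Cfsg.Agent.H4.exists_int_of_isIntegral_ratCast _ hint
  refine ⟨y, ?_, ?_⟩
  · rw [hval, ← hy]
    push_cast
    rfl
  · rw [hdeg]
    have h2 : (2 * y : ℚ) = 3 * (m₀ : ℚ) - (n : ℚ) := by
      rw [hy]
      push_cast
      ring
    have h3 : 2 * y = 3 * (m₀ : ℤ) - (n : ℤ) := by exact_mod_cast h2
    unfold Int.ModEq
    omega

example {G : Type*} [Group G] [Finite G] (χ : Cfsg.IrrCharacter G) (x r : G)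
    (hx : orderOf x = 3) (hr : r * x * r⁻¹ = x⁻¹) :
    ∃ n : ℤ, (χ : G → ℂ) x = (n : ℂ) ∧
      n ≡ (Cfsg.charDegree (χ : G → ℂ) : ℤ) [ZMOD 3] :=
  real3_value χ x r hx hr

end Cfsg.Agent.H32.M11
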