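import Mathlib
import Cfsg.Agent.H71.Ord7920A
import Cfsg.Agent.H69.Ord7920N
import Cfsg.Agent.H64.Ord7920NPC
import Cfsg.Agent.H92.Aut8

/-!
# S4429 piece H120 (helper32, for helper93)

A group of order 7920 whose Sylow 5-normalizers have order 20 has no involution with
centralizer of order 120.  The proof is parametrized by the statements of the pieces
NPCREL and AUT8 (`centralizer_involution_ne_120_of`).
-/

set_option autoImplicit false
set_option linter.unusedSectionVars false
set_option linter.unusedVariables false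
set_option linter.deprecated false
set_option linter.style.haveILetI false

namespace Cfsg.Agent.H32.Ord7920

open Subgroup

/-- The statement of piece NPCREL, for a fixed group. -/
def NPCRelStmt (G : Type*) [Group G] [Finite G] : Prop :=
  ∀ (H : Subgroup G) (p : ℕ) [Fact p.Prime] (S : Subgroup G) (_ : S ≤ H)
    (_ : IsPGroup p S) (_ : ¬ p ∣ Nat.card H / Nat.card S)
    (_ : H ⊓ normalizer (S : Set G) ≤ centralizer (S : Set G)),
    ∃ K : Subgroup G, K ≤ H ∧ H ≤ normalizer (K : Set G) ∧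
      Nat.card K * Nat.card S = Nat.card H ∧
      ∀ n ∈ H, (orderOf n).Coprime p → n ∈ K

/-- The statement of piece AUT8, for a fixed group. -/
def Aut8Stmt (E : Type*) [Group E] [Finite E] : Prop :=
  ∀ (_ : Nat.card E = 8) (_ : ∀ a b : E, a * b = b * a) (α : E ≃* E)
    (_ : ∀ e : E, (α ^ 15) e = e) (_ : ∃ e : E, α e ≠ e)
    (t : E) (_ : t ≠ 1) (_ : α t = t),
    (∀ e : E, α e = e → e = 1 ∨ e = t) ∧ (∀ e : E, (α ^ 3) e = e) ∧
      ∀ u w : E, u ≠ 1 → u ≠ t → w ≠ 1 → w ≠ t → w ≠ u → w ≠ α u → w ≠ (α ^ 2) u →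
        ∀ y : E, y = 1 ∨ y = t ∨ y = u ∨ y = α u ∨ y = (α ^ 2) u ∨
          y = w ∨ y = α w ∨ y = (α ^ 2) w

/-- Conjugation by a normalizing element, as an automorphism of the subgroup. -/
def conjE {G : Type*} [Group G] (E : Subgroup G) (h : G)
    (hh : h ∈ normalizer (E : Set G)) : ↥E ≃* ↥E where
  toFun e := ⟨h * e * h⁻¹, (mem_normalizer_iff.mp hh e).mp e.2⟩
  invFun e := ⟨h⁻¹ * e * h, by
    have := (mem_normalizer_iff.mp hh (h⁻¹ * e * h)).mpr (by simpa [mul_assoc] using e.2)
    exact this⟩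
  left_inv e := by ext; simp [mul_assoc]
  right_inv e := by ext; simp [mul_assoc]
  map_mul' a b := by ext; simp [mul_assoc]

lemma conjE_apply {G : Type*} [Group G] (E : Subgroup G) (h : G)
    (hh : h ∈ normalizer (E : Set G)) (e : ↥E) :
    ((conjE E h hh e : ↥E) : G) = h * e * h⁻¹ := rfl

lemma conjE_pow_apply {G : Type*} [Group G] (E : Subgroup G) (h : G)
    (hh : h ∈ normalizer (E : Set G)) (n : ℕ) (e : ↥E) :
    (((conjE E h hh ^ n) e : ↥E) : G) = h ^ n * e * (h ^ n)⁻¹ := by
  induction n generalizing e with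
  | zero =>
    have : ((conjE E h hh) ^ 0) e = e := by rw [pow_zero]; rfl
    rw [this]; simp
  | succ n ih =>
    have : ((conjE E h hh) ^ (n + 1)) e = ((conjE E h hh) ^ n) (conjE E h hh e) := by
      rw [pow_succ]; rfl
    rw [this, ih, conjE_apply, pow_succ]
    simp [mul_assoc]

lemma comm_of_card_eight {E : Type*} [Group E] [Finite E] (hE : Nat.card E = 8) (a b : E)
    (ha : a ≠ 1) (hb : b ≠ 1) (hab : a ≠ b) (hac : ∀ x, x * a = a * x)
    (hbc : ∀ x, x * b = b * x) : ∀ x y : E, x * y = y * x := by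
  classical
  have haZ : a ∈ center E := mem_center_iff.mpr hac
  have hbZ : b ∈ center E := mem_center_iff.mpr hbc
  have h3 : 3 ≤ Nat.card (center E) := by
    have hfin : Fintype (center E) := Fintype.ofFinite _
    rw [Nat.card_eq_fintype_card]
    have hc : ({1, ⟨a, haZ⟩, ⟨b, hbZ⟩} : Finset (center E)).card = 3 := by
      rw [Finset.card_insert_of_notMem, Finset.card_insert_of_notMem, Finset.card_singleton]
      · simp only [Finset.mem_singleton, Subtype.mk.injEq]; exact hab
      · simp only [Finset.mem_insert, Finset.mem_singleton, not_or]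
        refine ⟨fun h => ha ?_, fun h => hb ?_⟩
        · exact (congrArg Subtype.val h).symm
        · exact (congrArg Subtype.val h).symm
    calc 3 = _ := hc.symm
      _ ≤ _ := Finset.card_le_univ _
  have hidx : Nat.card (center E) * (center E).index = 8 := hE ▸ Subgroup.card_mul_index _
  have hle : Nat.card (center E) ≤ 8 :=
    Nat.le_of_dvd (by norm_num) (hE ▸ Subgroup.card_subgroup_dvd_card _)
  have hi : (center E).index = 1 ∨ (center E).index = 2 := by
    generalize Nat.card (center E) = k at h3 hidx hle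
    interval_cases k <;> omega
  have hcyc : IsCyclic (E ⧸ center E) := by
    rcases hi with h1 | h2
    · have h1' : Nat.card (E ⧸ center E) = 1 := by rw [← Subgroup.index_eq_card]; exact h1
      have : Subsingleton (E ⧸ center E) := (Nat.card_eq_one_iff_unique.mp h1').1
      exact isCyclic_of_subsingleton
    · have h2' : Nat.card (E ⧸ center E) = 2 := by rw [← Subgroup.index_eq_card]; exact h2
      haveI : Fact (Nat.Prime 2) := ⟨Nat.prime_two⟩
      exact isCyclic_of_prime_card h2'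
  exact commutative_of_cyclic_center_quotient (QuotientGroup.mk' (center E))
    (by rw [QuotientGroup.ker_mk'])

lemma card_mul_le_of_inf_eq_bot {G : Type*} [Group G] [Finite G] (A B K : Subgroup G)
    (hA : A ≤ K) (hB : B ≤ K) (hAB : A ⊓ B = ⊥) :
    Nat.card A * Nat.card B ≤ Nat.card K := by
  rw [← Nat.card_prod]
  apply Nat.card_le_card_of_injective
    (fun p : A × B => (⟨(p.1 : G) * p.2, mul_mem (hA p.1.2) (hB p.2.2)⟩ : K))
  rintro ⟨a, b⟩ ⟨a', b'⟩ hab
  have h1 : (a : G) * b = a' * b' := congrArg Subtype.val hab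
  have h2 : (a' : G)⁻¹ * a = b' * (b : G)⁻¹ := by
    rw [eq_mul_inv_iff_mul_eq, mul_assoc, h1, inv_mul_cancel_left]
  have h3 : (a' : G)⁻¹ * a ∈ A ⊓ B :=
    Subgroup.mem_inf.mpr ⟨mul_mem (inv_mem a'.2) a.2, h2 ▸ mul_mem b'.2 (inv_mem b.2)⟩
  rw [hAB, mem_bot] at h3
  have ha : a = a' := by
    ext; exact (inv_mul_eq_one.mp h3).symm
  have hb : b = b' := by
    ext
    have h4 : (b' : G) * (b : G)⁻¹ = 1 := h2 ▸ h3
    exact (mul_inv_eq_one.mp h4).symm
  rw [ha, hb]

lemma le_normalizer_zpowers {G : Type*} [Group G] (H : Subgroup G) (y : G)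
    (hy : ∀ h ∈ H, h * y * h⁻¹ ∈ zpowers y) :
    H ≤ normalizer ((zpowers y : Subgroup G) : Set G) := by
  have key : ∀ h ∈ H, ∀ x ∈ zpowers y, h * x * h⁻¹ ∈ zpowers y := by
    intro h hh x hx
    obtain ⟨k, rfl⟩ := mem_zpowers_iff.mp hx
    rw [← conj_zpow]
    exact zpow_mem (hy h hh) k
  intro h hh
  rw [mem_normalizer_iff]
  intro x
  constructor
  · exact key h hh x
  · intro hx
    have := key h⁻¹ (inv_mem hh) _ hx
    simpa [mul_assoc] using this

lemma exists_noncentralizing {G : Type*} [Group G] [Finite G] (hNPC : NPCRelStmt G)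
    (hord : Nat.card G = 7920)
    (h5 : ∀ P : Sylow 5 G, Nat.card (normalizer ((P : Subgroup G) : Set G)) = 20)
    (H E : Subgroup G) (hH : Nat.card H = 120) (hEH : E ≤ H) (hE : Nat.card E = 8) :
    ∃ h ∈ H ⊓ normalizer (E : Set G), ∃ e ∈ E, h * e ≠ e * h := by
  by_contra hcon
  push_neg at hcon
  haveI : Fact (Nat.Prime 2) := ⟨Nat.prime_two⟩
  haveI : Fact (Nat.Prime 5) := ⟨by norm_num⟩
  have hNC : H ⊓ normalizer (E : Set G) ≤ centralizer (E : Set G) := by
    intro h hh
    rw [mem_centralizer_iff]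
    intro e he
    exact (hcon h hh e he).symm
  obtain ⟨K, hKH, hHK, hKcard, hKodd⟩ := hNPC H 2 E hEH
    (IsPGroup.of_card (n := 3) (by rw [hE]; norm_num)) (by rw [hH, hE]; norm_num) hNC
  have hK15 : Nat.card K = 15 := by rw [hE, hH] at hKcard; omega
  obtain ⟨y, hy⟩ := exists_prime_orderOf_dvd_card' (G := ↥H) 5 (by rw [hH]; norm_num)
  have hy5 : orderOf (y : G) = 5 := by rw [Subgroup.orderOf_coe]; exact hy
  have hyK : (y : G) ∈ K := hKodd y y.2 (by rw [hy5]; norm_num)
  have hY5 : Nat.card (zpowers (y : G)) = 5 := by rw [Nat.card_zpowers]; exact hy5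
  have hconj : ∀ h ∈ H, h * (y : G) * h⁻¹ ∈ zpowers (y : G) := by
    intro h hh
    by_contra hnot
    have hyK' : h * (y : G) * h⁻¹ ∈ K := (mem_normalizer_iff.mp (hHK hh) _).mp hyK
    have hY5' : Nat.card (zpowers (h * (y : G) * h⁻¹)) = 5 := by
      rw [Nat.card_zpowers, ← hy5]
      exact orderOf_injective (MulAut.conj h).toMonoidHom (MulAut.conj h).injective (y : G)
    have hbot : zpowers (y : G) ⊓ zpowers (h * (y : G) * h⁻¹) = ⊥ := by
      have hd : Nat.card (zpowers (y : G) ⊓ zpowers (h * (y : G) * h⁻¹) : Subgroup G) ∣ 5 :=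
        hY5' ▸ Subgroup.card_dvd_of_le inf_le_right
      rcases (Nat.dvd_prime (by norm_num)).mp hd with h1 | h5'
      · exact Subgroup.card_eq_one.mp h1
      · exfalso
        have heq : zpowers (y : G) ⊓ zpowers (h * (y : G) * h⁻¹) = zpowers (h * (y : G) * h⁻¹) :=
          Subgroup.eq_of_le_of_card_ge inf_le_right (by rw [h5', hY5'])
        have heq2 : zpowers (y : G) ⊓ zpowers (h * (y : G) * h⁻¹) = zpowers (y : G) :=
          Subgroup.eq_of_le_of_card_ge inf_le_left (by rw [h5', hY5])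
        apply hnot
        rw [← heq2, heq]
        exact mem_zpowers _
    have := card_mul_le_of_inf_eq_bot _ _ K (zpowers_le.mpr hyK) (zpowers_le.mpr hyK') hbot
    rw [hY5, hY5', hK15] at this
    omega
  have hHN := le_normalizer_zpowers H (y : G) hconj
  obtain ⟨P, hP⟩ := (IsPGroup.of_card (p := 5) (n := 1) (by rw [hY5]; norm_num) :
    IsPGroup 5 (zpowers (y : G))).exists_le_sylow
  have hP5 : Nat.card P = 5 := by
    have := Cfsg.Agent.H71.Ord7920.sylow_card_eq_pow P (k := 1) (m := 1584) (by rw [hord]; norm_num)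
      (by norm_num)
    simpa using this
  have hYP : zpowers (y : G) = P := Subgroup.eq_of_le_of_card_ge hP (by rw [hP5, hY5])
  have h20 := h5 P
  rw [← hYP] at h20
  have := Subgroup.card_le_of_le hHN
  rw [hH, h20] at this
  omega

theorem centralizer_involution_ne_120_of {G : Type*} [Group G] [Finite G]
    (hNPC : NPCRelStmt G) (hAUT : ∀ E : Subgroup G, Aut8Stmt ↥E)
    (hord : Nat.card G = 7920)
    (h5 : ∀ P : Sylow 5 G, Nat.card (normalizer ((P : Subgroup G) : Set G)) = 20)
    (t : G) (ht : orderOf t = 2) :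
    Nat.card (centralizer ({t} : Set G)) ≠ 120 := by
  intro hH
  haveI : Fact (Nat.Prime 2) := ⟨Nat.prime_two⟩
  set H := centralizer ({t} : Set G) with hHdef
  have memH : ∀ x : G, x ∈ H ↔ t * x = x * t := by
    intro x
    rw [hHdef, mem_centralizer_iff]
    simp
  have ht1 : t ≠ 1 := by
    rintro rfl
    rw [orderOf_one] at ht; omega
  have htH : t ∈ H := (memH t).mpr rfl
  -- Sylow 2-subgroup of H containing t
  have hZ : IsPGroup 2 (zpowers (⟨t, htH⟩ : ↥H)) := by
    apply IsPGroup.of_card (n := 1)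
    rw [Nat.card_zpowers, ← Subgroup.orderOf_coe]
    simpa using ht
  obtain ⟨Q, hQ⟩ := hZ.exists_le_sylow
  have hQ8 : Nat.card Q = 8 := by
    have := Cfsg.Agent.H71.Ord7920.sylow_card_eq_pow Q (k := 3) (m := 15) (by rw [hH]; norm_num)
      (by norm_num)
    simpa using this
  obtain ⟨E, hEdef⟩ : ∃ E : Subgroup G, E = (Q : Subgroup ↥H).map H.subtype := ⟨_, rfl⟩
  have hE8 : Nat.card E = 8 := by
    rw [hEdef, Subgroup.card_map_of_injective (Subgroup.subtype_injective H)]; exact hQ8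
  have hEH : E ≤ H := by rw [hEdef]; exact Subgroup.map_subtype_le _
  have htE : t ∈ E := by
    rw [hEdef]; exact Subgroup.mem_map.mpr ⟨⟨t, htH⟩, hQ (mem_zpowers _), rfl⟩
  have hE2 : IsPGroup 2 E := IsPGroup.of_card (n := 3) (by rw [hE8]; norm_num)
  obtain ⟨S, hES⟩ := hE2.exists_le_sylow
  have hS16 : Nat.card S = 16 := by
    have := Cfsg.Agent.H71.Ord7920.sylow_card_eq_pow S (k := 4) (m := 495) (by rw [hord]; norm_num)
      (by norm_num)
    simpa using this
  have hSH : (S : Subgroup G) ⊓ H = E := by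
    symm
    apply Subgroup.eq_of_le_of_card_ge (le_inf hES hEH)
    have d1 : Nat.card ((S : Subgroup G) ⊓ H : Subgroup G) ∣ 16 :=
      hS16 ▸ Subgroup.card_dvd_of_le inf_le_left
    have d2 : Nat.card ((S : Subgroup G) ⊓ H : Subgroup G) ∣ 120 :=
      hH ▸ Subgroup.card_dvd_of_le inf_le_right
    have d3 : Nat.card ((S : Subgroup G) ⊓ H : Subgroup G) ∣ 8 := Nat.dvd_gcd d1 d2
    rw [hE8]; exact Nat.le_of_dvd (by norm_num) d3
  have memE : ∀ x ∈ (S : Subgroup G), t * x = x * t → x ∈ E := by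
    intro x hx hc
    rw [← hSH]; exact Subgroup.mem_inf.mpr ⟨hx, (memH x).mpr hc⟩
  have comE : ∀ e ∈ E, t * e = e * t := fun e he => (memH e).mp (hEH he)
  -- S normalizes E
  have hSN : (S : Subgroup G) ≤ normalizer (E : Set G) := by
    have hr : E.relIndex S = 2 := by
      have := Cfsg.Agent.H69.Ord7920.card_mul_relIndex_of_le hES
      rw [hE8, hS16] at this; omega
    have hn : (E.subgroupOf S).Normal := Subgroup.normal_of_index_eq_two hr
    exact (Subgroup.normal_subgroupOf_iff_le_normalizer hES).mp hn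
  obtain ⟨s, hsS, hsE⟩ : ∃ s ∈ (S : Subgroup G), s ∉ E := by
    by_contra hcon
    push_neg at hcon
    have : Nat.card (S : Subgroup G) ≤ Nat.card E := Subgroup.card_le_of_le hcon
    rw [hS16, hE8] at this; omega
  have hnorm : ∀ n ∈ normalizer (E : Set G), ∀ e ∈ E, n * e * n⁻¹ ∈ E :=
    fun n hn e he => (mem_normalizer_iff.mp hn e).mp he
  have hsN : s ∈ normalizer (E : Set G) := hSN hsS
  obtain ⟨t', ht'def⟩ : ∃ t' : G, t' = s * t * s⁻¹ := ⟨_, rfl⟩
  have ht'E : t' ∈ E := by rw [ht'def]; exact hnorm s hsN t htE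
  have ht't : t' ≠ t := by
    intro h
    apply hsE
    apply memE s hsS
    rw [ht'def] at h
    exact (mul_inv_eq_iff_eq_mul.mp h).symm
  have ht'1 : t' ≠ 1 := by
    intro h
    apply ht1
    rw [ht'def] at h
    have := mul_inv_eq_one.mp h
    simpa using this
  have comE' : ∀ e ∈ E, e * t' = t' * e := by
    intro e he
    have h1 : s⁻¹ * e * s ∈ E := by
      have := hnorm s⁻¹ (inv_mem hsN) e he
      simpa using this
    have h2 := comE _ h1
    rw [ht'def]
    calc e * (s * t * s⁻¹) = s * ((s⁻¹ * e * s) * t) * s⁻¹ := by group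
      _ = s * (t * (s⁻¹ * e * s)) * s⁻¹ := by rw [h2]
      _ = s * t * s⁻¹ * e := by group
  -- E abelian
  have hab : ∀ a b : ↥E, a * b = b * a := by
    apply comm_of_card_eight hE8 ⟨t, htE⟩ ⟨t', ht'E⟩
    · intro h; exact ht1 (congrArg Subtype.val h)
    · intro h; exact ht'1 (congrArg Subtype.val h)
    · intro h; exact ht't (congrArg Subtype.val h).symm
    · intro x; ext; exact (comE x x.2).symm
    · intro x; ext; exact comE' x x.2
  -- noncentralizing element
  obtain ⟨h, hhM, e₀, he₀, hne₀⟩ := exists_noncentralizing hNPC hord h5 H E hH hEH hE8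
  have hhH : h ∈ H := (Subgroup.mem_inf.mp hhM).1
  have hhN : h ∈ normalizer (E : Set G) := (Subgroup.mem_inf.mp hhM).2
  obtain ⟨α, hα⟩ : ∃ α : ↥E ≃* ↥E, α = conjE E h hhN := ⟨_, rfl⟩
  have h15E : h ^ 15 ∈ E := by
    have hEM : E ≤ H ⊓ normalizer (E : Set G) := le_inf hEH Subgroup.le_normalizer
    haveI hn : (E.subgroupOf (H ⊓ normalizer (E : Set G))).Normal :=
      (Subgroup.normal_subgroupOf_iff_le_normalizer hEM).mpr inf_le_right
    have h1 := Subgroup.pow_index_mem (E.subgroupOf (H ⊓ normalizer (E : Set G))) ⟨h, hhM⟩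
    have h2 : h ^ E.relIndex (H ⊓ normalizer (E : Set G)) ∈ E := by
      have := Subgroup.mem_subgroupOf.mp h1
      simpa [Subgroup.relIndex] using this
    have h3 := Cfsg.Agent.H69.Ord7920.card_mul_relIndex_of_le hEM
    have h4 : Nat.card (H ⊓ normalizer (E : Set G) : Subgroup G) ∣ 120 :=
      hH ▸ Subgroup.card_dvd_of_le inf_le_left
    rw [hE8] at h3
    have h5' : E.relIndex (H ⊓ normalizer (E : Set G)) ∣ 15 := by
      rw [← h3] at h4
      exact Nat.dvd_of_mul_dvd_mul_left (by norm_num : 0 < 8) h4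
    obtain ⟨c, hc⟩ := h5'
    rw [hc, pow_mul]; exact pow_mem h2 c
  have hα15 : ∀ e : ↥E, (α ^ 15) e = e := by
    intro e
    ext
    rw [hα, conjE_pow_apply]
    have := hab ⟨h ^ 15, h15E⟩ e
    have h' : h ^ 15 * (e : G) = e * h ^ 15 := congrArg Subtype.val this
    rw [h']; simp
  have hαne : ∃ e : ↥E, α e ≠ e := by
    refine ⟨⟨e₀, he₀⟩, fun hc => hne₀ ?_⟩
    rw [hα] at hc
    have : h * e₀ * h⁻¹ = e₀ := congrArg Subtype.val hc
    exact mul_inv_eq_iff_eq_mul.mp this
  have hαt : α ⟨t, htE⟩ = ⟨t, htE⟩ := by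
    rw [hα]
    ext
    show h * t * h⁻¹ = t
    rw [mul_inv_eq_iff_eq_mul]; exact ((memH h).mp hhH).symm
  obtain ⟨A1, A2, A3⟩ := hAUT E hE8 hab α hα15 hαne ⟨t, htE⟩
    (fun hc => ht1 (congrArg Subtype.val hc)) hαt
  -- central element of S
  haveI : Nontrivial ↥(S : Subgroup G) := by
    apply (Finite.one_lt_card_iff_nontrivial).mp; rw [hS16]; norm_num
  haveI := S.isPGroup'.center_nontrivial
  obtain ⟨z', hz'⟩ := exists_ne (1 : center ↥(S : Subgroup G))
  obtain ⟨z, hzdef⟩ : ∃ z : G, z = ((z' : ↥(S : Subgroup G)) : G) := ⟨_, rfl⟩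
  have hzS : z ∈ (S : Subgroup G) := by rw [hzdef]; exact (z' : ↥(S : Subgroup G)).2
  have hz1 : z ≠ 1 := by
    intro hc
    apply hz'
    apply Subtype.ext
    apply Subtype.ext
    rw [← hzdef]; exact hc
  have hzc : ∀ x ∈ (S : Subgroup G), x * z = z * x := by
    intro x hx
    have := Subgroup.mem_center_iff.mp z'.2 ⟨x, hx⟩
    rw [hzdef]
    exact congrArg Subtype.val this
  have hzE : z ∈ E := memE z hzS (hzc t (hES htE))
  have hzt : z ≠ t := by
    intro hc
    apply hsE
    apply memE s hsS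
    rw [← hc]; exact (hzc s hsS).symm
  have hzconj : ∀ g : G, g * t * g⁻¹ ≠ z := by
    intro g hg
    have hle : (S : Subgroup G).map (MulAut.conj g⁻¹).toMonoidHom ≤ H := by
      rintro _ ⟨x, hx, rfl⟩
      rw [memH]
      have := hzc x hx
      rw [← hg] at this
      simp only [MulEquiv.coe_toMonoidHom, MulAut.conj_apply, inv_inv]
      calc t * (g⁻¹ * x * g) = g⁻¹ * ((g * t * g⁻¹) * x) * g := by group
        _ = g⁻¹ * (x * (g * t * g⁻¹)) * g := by rw [this]
        _ = g⁻¹ * x * g * t := by group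
    have := Subgroup.card_dvd_of_le hle
    rw [Subgroup.card_map_of_injective (MulAut.conj g⁻¹).injective, hS16, hH] at this
    omega
  have hzconj' : ∀ a b : G, a * t * a⁻¹ ≠ b * z * b⁻¹ := by
    intro a b hc
    apply hzconj (b⁻¹ * a)
    calc b⁻¹ * a * t * (b⁻¹ * a)⁻¹ = b⁻¹ * (a * t * a⁻¹) * b := by group
      _ = b⁻¹ * (b * z * b⁻¹) * b := by rw [hc]
      _ = z := by group
  obtain ⟨tE, htEdef⟩ : ∃ tE : ↥E, tE = ⟨t, htE⟩ := ⟨_, rfl⟩
  obtain ⟨u, hudef⟩ : ∃ u : ↥E, u = ⟨t', ht'E⟩ := ⟨_, rfl⟩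
  obtain ⟨w, hwdef⟩ : ∃ w : ↥E, w = ⟨z, hzE⟩ := ⟨_, rfl⟩
  rw [← htEdef] at A1 A3 hαt
  have htEv : (tE : G) = t := by rw [htEdef]
  have huv : (u : G) = t' := by rw [hudef]
  have hwv : (w : G) = z := by rw [hwdef]
  have hu1 : u ≠ 1 := fun hc => ht'1 (huv ▸ congrArg Subtype.val hc)
  have hut : u ≠ tE := fun hc => ht't (by rw [← huv, ← htEv, hc])
  have hw1 : w ≠ 1 := fun hc => hz1 (hwv ▸ congrArg Subtype.val hc)
  have hwt : w ≠ tE := fun hc => hzt (by rw [← hwv, ← htEv, hc])
  have hαu : ((α u : ↥E) : G) = (h * s) * t * (h * s)⁻¹ := by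
    rw [hα, conjE_apply, huv, ht'def]; group
  have hα2u : (((α ^ 2) u : ↥E) : G) = (h ^ 2 * s) * t * (h ^ 2 * s)⁻¹ := by
    rw [hα, conjE_pow_apply, huv, ht'def]; group
  have hαw : ((α w : ↥E) : G) = h * z * h⁻¹ := by rw [hα, conjE_apply, hwv]
  have hα2w : (((α ^ 2) w : ↥E) : G) = h ^ 2 * z * (h ^ 2)⁻¹ := by
    rw [hα, conjE_pow_apply, hwv]
  have hwu : w ≠ u := by
    intro hc
    have : z = s * t * s⁻¹ := by rw [← hwv, hc, huv, ht'def]
    exact hzconj s this.symm
  have hwαu : w ≠ α u := by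
    intro hc
    have : z = (h * s) * t * (h * s)⁻¹ := by rw [← hwv, hc]; exact hαu
    exact hzconj _ this.symm
  have hwα2u : w ≠ (α ^ 2) u := by
    intro hc
    have : z = (h ^ 2 * s) * t * (h ^ 2 * s)⁻¹ := by rw [← hwv, hc]; exact hα2u
    exact hzconj _ this.symm
  have A3' := A3 u w hu1 hut hw1 hwt hwu hwαu hwα2u
  -- the orbit of t under the normalizer of E
  obtain ⟨N, hNdef⟩ : ∃ N : Subgroup G, N = normalizer (E : Set G) := ⟨_, rfl⟩
  rw [← hNdef] at hsN hhN hnorm
  letI act : MulAction ↥N G :=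
    { smul := fun n x => (n : G) * x * (n : G)⁻¹
      one_smul := fun x => by
        show ((1 : ↥N) : G) * x * ((1 : ↥N) : G)⁻¹ = x
        simp
      mul_smul := fun a b x => by
        show ((a * b : ↥N) : G) * x * ((a * b : ↥N) : G)⁻¹
          = (a : G) * ((b : G) * x * (b : G)⁻¹) * (a : G)⁻¹
        simp [mul_assoc] }
  have hsmul : ∀ (n : ↥N) (x : G), n • x = (n : G) * x * (n : G)⁻¹ := fun _ _ => rfl
  have horb : MulAction.orbit ↥N t
      = {t, t', ((α u : ↥E) : G), (((α ^ 2) u : ↥E) : G)} := by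
    ext x
    simp only [MulAction.mem_orbit_iff, Set.mem_insert_iff, Set.mem_singleton_iff]
    constructor
    · rintro ⟨n, rfl⟩
      rw [hsmul]
      have hxE : (n : G) * t * (n : G)⁻¹ ∈ E := hnorm n n.2 t htE
      rcases A3' ⟨_, hxE⟩ with hc | hc | hc | hc | hc | hc | hc | hc
      · exfalso
        have h1 : (n : G) * t * (n : G)⁻¹ = 1 := congrArg Subtype.val hc
        apply ht1
        have := mul_inv_eq_one.mp h1
        simpa using this
      · left; exact (congrArg Subtype.val hc).trans htEv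
      · right; left; exact (congrArg Subtype.val hc).trans huv
      · right; right; left; exact congrArg Subtype.val hc
      · right; right; right; exact congrArg Subtype.val hc
      · exfalso
        have h1 : (n : G) * t * (n : G)⁻¹ = z := (congrArg Subtype.val hc).trans hwv
        exact hzconj _ h1
      · exfalso
        have h1 : (n : G) * t * (n : G)⁻¹ = h * z * h⁻¹ := (congrArg Subtype.val hc).trans hαw
        exact hzconj' _ _ h1
      · exfalso
        have h1 : (n : G) * t * (n : G)⁻¹ = h ^ 2 * z * (h ^ 2)⁻¹ :=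
          (congrArg Subtype.val hc).trans hα2w
        exact hzconj' _ _ h1
    · rintro (hx | hx | hx | hx)
      · exact ⟨1, by rw [hsmul, hx]; simp⟩
      · exact ⟨⟨s, hsN⟩, by rw [hsmul, hx, ht'def]⟩
      · exact ⟨⟨h * s, mul_mem hhN hsN⟩, by rw [hsmul, hx, hαu]⟩
      · exact ⟨⟨h ^ 2 * s, mul_mem (pow_mem hhN 2) hsN⟩, by rw [hsmul, hx, hα2u]⟩
  have hd1 : t ≠ t' := fun hc => ht't hc.symm
  have hαinj := α.injective
  have hd2 : t ≠ ((α u : ↥E) : G) := by
    intro hc
    have : α tE = α u := by rw [hαt]; ext; rw [htEv]; exact hc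
    exact hut (hαinj this).symm
  have hα2t : (α ^ 2) tE = tE := by
    have : (α ^ 2) tE = α (α tE) := by rw [pow_two]; rfl
    rw [this, hαt, hαt]
  have hα2inj := (α ^ 2).injective
  have hd3 : t ≠ (((α ^ 2) u : ↥E) : G) := by
    intro hc
    have : (α ^ 2) tE = (α ^ 2) u := by rw [hα2t]; ext; rw [htEv]; exact hc
    exact hut (hα2inj this).symm
  have hαu_ne : α u ≠ u := by
    intro hc
    rcases A1 u hc with h1 | h1
    · exact hu1 h1
    · exact hut h1
  have hd4 : t' ≠ ((α u : ↥E) : G) := by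
    intro hc
    apply hαu_ne; ext; rw [huv]; exact hc.symm
  have hα2u' : (α ^ 2) u = α (α u) := by rw [pow_two]; rfl
  have hα3u : α ((α ^ 2) u) = u := by
    have : (α ^ 3) u = α ((α ^ 2) u) := by rw [pow_succ']; rfl
    rw [← this]; exact A2 u
  have hd5 : t' ≠ (((α ^ 2) u : ↥E) : G) := by
    intro hc
    have h1 : u = (α ^ 2) u := by ext; rw [huv]; exact hc
    apply hαu_ne
    have := hα3u
    rw [← h1] at this; exact this
  have hd6 : ((α u : ↥E) : G) ≠ (((α ^ 2) u : ↥E) : G) := by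
    intro hc
    have h1 : α u = (α ^ 2) u := by ext; exact hc
    rw [hα2u'] at h1
    exact hαu_ne (hαinj h1).symm
  have hcard4 : (MulAction.orbit ↥N t).ncard = 4 := by
    rw [horb]
    rw [Set.ncard_insert_of_notMem, Set.ncard_insert_of_notMem, Set.ncard_pair hd6]
    · simp only [Set.mem_insert_iff, Set.mem_singleton_iff, not_or]; exact ⟨hd4, hd5⟩
    · simp only [Set.mem_insert_iff, Set.mem_singleton_iff, not_or]; exact ⟨hd1, hd2, hd3⟩
  have hidx : (MulAction.stabilizer ↥N t).index = 4 := by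
    rw [MulAction.index_stabilizer]; exact hcard4
  have hcardN : Nat.card (MulAction.stabilizer ↥N t) * 4 = Nat.card ↥N := by
    rw [← hidx]; exact Subgroup.card_mul_index _
  have hEN : E ≤ N := by rw [hNdef]; exact Subgroup.le_normalizer
  have h8 : 8 ∣ Nat.card (MulAction.stabilizer ↥N t) := by
    have hle : E.subgroupOf N ≤ MulAction.stabilizer ↥N t := by
      intro n hn
      rw [MulAction.mem_stabilizer_iff, hsmul]
      have := comE (n : G) (Subgroup.mem_subgroupOf.mp hn)
      rw [← this]; simp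
    have := Subgroup.card_dvd_of_le hle
    rwa [Nat.card_congr (Subgroup.subgroupOfEquivOfLe hEN).toEquiv, hE8] at this
  have hNdvd : Nat.card ↥N ∣ 7920 := hord ▸ Subgroup.card_subgroup_dvd_card N
  obtain ⟨c, hc⟩ := h8
  rw [hc] at hcardN
  have h32 : 32 ∣ 7920 := (Dvd.intro c (by rw [← hcardN]; ring) : 32 ∣ Nat.card ↥N).trans hNdvd
  omega

/-- S4429-H120. -/
theorem centralizer_involution_ne_120 {G : Type*} [Group G] [Finite G]
    (hord : Nat.card G = 7920)
    (h5 : ∀ P : Sylow 5 G, Nat.card (normalizer ((P : Subgroup G) : Set G)) = 20)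
    (t : G) (ht : orderOf t = 2) :
    Nat.card (centralizer ({t} : Set G)) ≠ 120 :=
  centralizer_involution_ne_120_of
    (fun H p _ S hSH hS hSyl hNC =>
      Cfsg.Agent.H64.Ord7920.exists_compl_in_subgroup H p S hSH hS hSyl hNC)
    (fun E hE hab α h15 hne t ht hαt =>
      Cfsg.Agent.H92.Ord7920.aut_order8 hE hab α h15 hne t ht hαt)
    hord h5 t ht

example {G : Type*} [Group G] [Finite G]
    (hord : Nat.card G = 7920)
    (h5 : ∀ P : Sylow 5 G, Nat.card (normalizer ((P : Subgroup G) : Set G)) = 20)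
    (t : G) (ht : orderOf t = 2) :
    Nat.card (centralizer ({t} : Set G)) ≠ 120 :=
  centralizer_involution_ne_120 hord h5 t ht

end Cfsg.Agent.H32.Ord7920
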