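import Cfsg.Agent.H26.SE2

/-!
# A strongly embedded subgroup is transitive on its involutions

`H` strongly embedded in the finite group `G` (`Cfsg.IsStronglyEmbedded H`).  Then any two
involutions of `H` are conjugate by an element of `H`, there is an involution outside `H`,
and every involution of `G` is conjugate to any involution of `H`.
(Thin wrappers around `Cfsg.Agent.H26.se_D_trans` / `se_all_conj`, which need an involution
outside `H` as an argument.)
-/

set_option autoImplicit false

namespace Cfsg.Agent.H32.SeT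

variable {G : Type*} [Group G] [Finite G]

/-- A strongly embedded subgroup misses some involution of `G`. -/
theorem exists_inv_not_mem {H : Subgroup G} (hH : Cfsg.IsStronglyEmbedded H) :
    ∃ u : G, orderOf u = 2 ∧ u ∉ H := by
  obtain ⟨s, hs, hsH⟩ := Cfsg.Agent.H26.se_exists_inv hH
  have hne : H ≠ ⊤ := hH.1
  have hex : ∃ g : G, g ∉ H := by
    by_contra hcon
    push Not at hcon
    exact hne (eq_top_iff.mpr fun x _ => hcon x)
  obtain ⟨g, hg⟩ := hex
  refine ⟨g * s * g⁻¹, ?_, ?_⟩
  · rw [Cfsg.Agent.H26.orderOf_conj_eq]; exact hs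
  · intro hmem
    have hodd := hH.2.2 g hg
    have hin : g * s * g⁻¹ ∈ H ⊓ H.map (MulAut.conj g).toMonoidHom := by
      refine Subgroup.mem_inf.mpr ⟨hmem, ?_⟩
      exact Subgroup.mem_map.mpr ⟨s, hsH, rfl⟩
    have hev := Cfsg.Agent.H26.even_card_of_inv_mem
      (H ⊓ H.map (MulAut.conj g).toMonoidHom)
      (by rw [Cfsg.Agent.H26.orderOf_conj_eq]; exact hs) hin
    exact (Nat.not_even_iff_odd.mpr hodd) hev

/-- **A strongly embedded subgroup is transitive on its involutions.** -/
theorem trans_inv {H : Subgroup G} (hH : Cfsg.IsStronglyEmbedded H) {s t : G}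
    (hs : orderOf s = 2) (hsH : s ∈ H) (ht : orderOf t = 2) (htH : t ∈ H) :
    ∃ d ∈ H, d * s * d⁻¹ = t := by
  obtain ⟨u, hu, huH⟩ := exists_inv_not_mem hH
  obtain ⟨d, hd, hdst⟩ := Cfsg.Agent.H26.se_D_trans hH hu huH hs hsH ht htH
  exact ⟨d, (Subgroup.mem_inf.mp hd).1, hdst⟩

/-- In a group with a strongly embedded subgroup `H`, every involution of `G` is conjugate
to any given involution of `H`. -/
theorem all_conj {H : Subgroup G} (hH : Cfsg.IsStronglyEmbedded H) {s a : G}
    (hs : orderOf s = 2) (hsH : s ∈ H) (ha : orderOf a = 2) : IsConj s a := by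
  obtain ⟨u, hu, huH⟩ := exists_inv_not_mem hH
  exact Cfsg.Agent.H26.se_all_conj hH hu huH hs hsH ha

/-- Any two involutions of a group with a strongly embedded subgroup are conjugate. -/
theorem all_conj' {H : Subgroup G} (hH : Cfsg.IsStronglyEmbedded H) {a b : G}
    (ha : orderOf a = 2) (hb : orderOf b = 2) : IsConj a b := by
  obtain ⟨s, hs, hsH⟩ := Cfsg.Agent.H26.se_exists_inv hH
  exact (all_conj hH hs hsH ha).symm.trans (all_conj hH hs hsH hb)

end Cfsg.Agent.H32.SeT
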