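import Mathlib
import Cfsg.Agent.H42.SqDefs
import Cfsg.Agent.H52.Basic
import Cfsg.Agent.H75.SoWid

/-!
# SQ-CNT (piece of S2945): the counting argument

Route (helper17's short proof, post 9809): the pairwise dichotomy for `a ∈ A`
(`a ∈ N(W)`, or `W ∩ W^a = 1` and `K` centralizes `W^a`), then an injective non-surjective map
`A → V' ⊔ B'` for a suitable `V' ≤ V`, `B' ≤ C_A(V')`.
-/

set_option autoImplicit false
open Cfsg

namespace Cfsg.Agent.H32.SqC

open Cfsg.Agent.H42.Sq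
open scoped commutatorElement

universe u

variable {G : Type u} [Group G]

/-- The action data: `V` elementary abelian, normalized by `K`, cubes of `K` centralize `V`,
`[V, K]` of order 4. -/
structure Act (V K : Subgroup G) : Prop where
  hVab : ∀ a ∈ V, ∀ b ∈ V, a * b = b * a
  hV2 : ∀ a ∈ V, a * a = 1
  hKV : ∀ k ∈ K, ∀ v ∈ V, k * v * k⁻¹ ∈ V
  hk3 : ∀ k ∈ K, ∀ v ∈ V, k ^ 3 * v = v * k ^ 3
  hW4 : Nat.card ↥⁅V, K⁆ = 4

theorem Act.W_le {V K : Subgroup G} (h : Act V K) : ⁅V, K⁆ ≤ V := by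
  rw [Subgroup.commutator_le]
  intro v hv k hk
  have : ⁅v, k⁆ = v * (k * v⁻¹ * k⁻¹) := by simp only [commutatorElement_def]; group
  rw [this]
  exact mul_mem hv (h.hKV k hk _ (inv_mem hv))

theorem Act.K_norm_W {V K : Subgroup G} (h : Act V K) :
    ∀ k ∈ K, ∀ w ∈ ⁅V, K⁆, k * w * k⁻¹ ∈ ⁅V, K⁆ := by
  intro k hk w hw
  exact Cfsg.Agent.H52.conj_mem_commutator_of_mem_normalizer
    (Cfsg.Agent.H52.le_normalizer_of_conj_mem h.hKV hk) (Subgroup.le_normalizer hk) hw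

theorem Act.W_le_comm {V K : Subgroup G} (h : Act V K) : ⁅V, K⁆ ≤ ⁅⁅V, K⁆, K⁆ := by
  rw [Subgroup.commutator_le]
  intro v hv k hk
  have hkv' : ∀ x ∈ V, k⁻¹ * x * k ∈ V := by
    intro x hx
    have := h.hKV k⁻¹ (inv_mem hk) x hx
    simpa using this
  rw [← Cfsg.Agent.H75.SoW.comm_id V h.hVab h.hV2 k v hv (h.hKV k hk) hkv' (h.hk3 k hk v hv)]
  exact Subgroup.commutator_mem_commutator
    (Subgroup.commutator_mem_commutator (hkv' v hv) hk) (pow_mem hk 2)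

/-- A `K`-invariant subgroup of `W = [V, K]` is trivial or all of `W`. -/
theorem Act.inv_sub [Finite G] {V K : Subgroup G} (h : Act V K) (M : Subgroup G)
    (hM : M ≤ ⁅V, K⁆) (hKM : ∀ k ∈ K, ∀ m ∈ M, k * m * k⁻¹ ∈ M) : M = ⊥ ∨ M = ⁅V, K⁆ := by
  have hdvd : Nat.card ↥M ∣ 4 := h.hW4 ▸ Subgroup.card_dvd_of_le hM
  have hle : Nat.card ↥M ≤ 4 := Nat.le_of_dvd (by norm_num) hdvd
  have hpos : 0 < Nat.card ↥M := Nat.card_pos
  have hn3 : Nat.card ↥M ≠ 3 := by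
    intro h3
    rw [h3] at hdvd
    omega
  have hn2 : Nat.card ↥M ≠ 2 := by
    intro h2
    have hidx : (M.subgroupOf ⁅V, K⁆).index = 2 := by
      have h1 := Subgroup.relIndex_mul_relIndex ⊥ M ⁅V, K⁆ bot_le hM
      rw [Subgroup.relIndex_bot_left, Subgroup.relIndex_bot_left, h2, h.hW4] at h1
      show M.relIndex ⁅V, K⁆ = 2
      omega
    have hD : ⁅⁅V, K⁆, K⁆ ≤ M := by
      rw [Subgroup.commutator_le]
      intro w hw k hk
      have hform : ⁅w, k⁆ = w * (k * w⁻¹ * k⁻¹) := by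
        simp only [commutatorElement_def]; group
      rw [hform]
      have hw' : k * w⁻¹ * k⁻¹ ∈ ⁅V, K⁆ := h.K_norm_W k hk _ (inv_mem hw)
      have key := Subgroup.mul_mem_iff_of_index_two hidx (a := (⟨w, hw⟩ : ↥⁅V, K⁆))
        (b := (⟨k * w⁻¹ * k⁻¹, hw'⟩ : ↥⁅V, K⁆))
      have hmem : ((⟨w, hw⟩ : ↥⁅V, K⁆) * ⟨k * w⁻¹ * k⁻¹, hw'⟩) ∈ M.subgroupOf ⁅V, K⁆ := by
        rw [key]
        simp only [Subgroup.mem_subgroupOf]
        constructor
        · intro hh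
          exact hKM k hk _ (inv_mem hh)
        · intro hh
          have e := hKM k⁻¹ (inv_mem hk) _ hh
          have e2 : k⁻¹ * (k * w⁻¹ * k⁻¹) * k⁻¹⁻¹ = w⁻¹ := by group
          rw [e2] at e
          simpa using e
      exact Subgroup.mem_subgroupOf.mp hmem
    have hle2 := Subgroup.card_le_of_le (h.W_le_comm.trans hD)
    rw [h.hW4, h2] at hle2
    omega
  have h14 : Nat.card ↥M = 1 ∨ Nat.card ↥M = 4 := by omega
  rcases h14 with h1 | h4
  · left; exact Subgroup.card_eq_one.mp h1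
  · right; exact Subgroup.eq_of_le_of_card_ge hM (by rw [h.hW4, h4])

/-- `C_W(K) = 1`. -/
theorem Act.fix_eq_one [Finite G] {V K : Subgroup G} (h : Act V K) {t : G} (ht : t ∈ ⁅V, K⁆)
    (hfix : ∀ k ∈ K, k * t * k⁻¹ = t) : t = 1 := by
  have hM : Subgroup.zpowers t ≤ ⁅V, K⁆ := Subgroup.zpowers_le.mpr ht
  have hinv : ∀ k ∈ K, ∀ m ∈ Subgroup.zpowers t, k * m * k⁻¹ ∈ Subgroup.zpowers t := by
    intro k hk m hm
    obtain ⟨n, rfl⟩ := Subgroup.mem_zpowers_iff.mp hm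
    have : k * t ^ n * k⁻¹ = (k * t * k⁻¹) ^ n := by rw [conj_zpow]
    rw [this, hfix k hk]
    exact Subgroup.zpow_mem_zpowers t n
  rcases h.inv_sub (Subgroup.zpowers t) hM hinv with h1 | h1
  · have : t ∈ Subgroup.zpowers t := Subgroup.mem_zpowers t
    rw [h1] at this; exact Subgroup.mem_bot.mp this
  · exfalso
    have hc : Nat.card ↥(Subgroup.zpowers t) ≤ 2 := by
      rw [Nat.card_zpowers]
      have : t ^ 2 = 1 := by rw [pow_two]; exact h.hV2 t (h.W_le ht)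
      exact Nat.le_of_dvd (by norm_num) (orderOf_dvd_of_pow_eq_one this)
    rw [h1, h.hW4] at hc
    omega

/-- An element normalizing `V` and commuting with `K` modulo `C(V)` normalizes `[V, K]`. -/
theorem Act.conj_W_of_comm {V K : Subgroup G} (h : Act V K) {g : G}
    (hgV : ∀ v ∈ V, g * v * g⁻¹ ∈ V)
    (hgK : ∀ k ∈ K, ⁅g, k⁆ ∈ Subgroup.centralizer (V : Set G)) :
    ∀ w ∈ ⁅V, K⁆, g * w * g⁻¹ ∈ ⁅V, K⁆ := by
  intro w hw
  rw [Subgroup.commutator_def] at hw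
  induction hw using Subgroup.closure_induction with
  | mem x hx =>
    obtain ⟨v, hv, k, hk, rfl⟩ := hx
    have hv' : g * v * g⁻¹ ∈ V := hgV v hv
    have hz := hgK k hk
    have hc1 : ⁅g, k⁆ * (g * v * g⁻¹) = (g * v * g⁻¹) * ⁅g, k⁆ :=
      ((Subgroup.mem_centralizer_iff.mp hz) _ hv').symm
    have hcomV : ⁅g * v * g⁻¹, k⁆ ∈ V := by
      have : ⁅g * v * g⁻¹, k⁆ = (g * v * g⁻¹) * (k * (g * v * g⁻¹)⁻¹ * k⁻¹) := by
        simp only [commutatorElement_def]; group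
      rw [this]
      exact mul_mem hv' (h.hKV k hk _ (inv_mem hv'))
    have hc2 : ⁅g, k⁆ * ⁅g * v * g⁻¹, k⁆ = ⁅g * v * g⁻¹, k⁆ * ⁅g, k⁆ :=
      ((Subgroup.mem_centralizer_iff.mp hz) _ hcomV).symm
    have e : g * ⁅v, k⁆ * g⁻¹ = ⁅g * v * g⁻¹, k⁆ := by
      calc g * ⁅v, k⁆ * g⁻¹
          = ((g * v * g⁻¹) * ⁅g, k⁆) * (k * (g * v * g⁻¹)⁻¹ * k⁻¹) * ⁅g, k⁆⁻¹ := by
            simp only [commutatorElement_def]; group
        _ = (⁅g, k⁆ * (g * v * g⁻¹)) * (k * (g * v * g⁻¹)⁻¹ * k⁻¹) * ⁅g, k⁆⁻¹ := by rw [← hc1]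
        _ = ⁅g, k⁆ * ⁅g * v * g⁻¹, k⁆ * ⁅g, k⁆⁻¹ := by
            simp only [commutatorElement_def]; group
        _ = ⁅g * v * g⁻¹, k⁆ := by rw [hc2, mul_inv_cancel_right]
    rw [e]
    exact Subgroup.commutator_mem_commutator hv' hk
  | one => simp
  | mul a b _ _ ha hb =>
    have e : g * (a * b) * g⁻¹ = (g * a * g⁻¹) * (g * b * g⁻¹) := by group
    rw [e]; exact Subgroup.mul_mem _ ha hb
  | inv a _ ha =>
    have e : g * a⁻¹ * g⁻¹ = (g * a * g⁻¹)⁻¹ := by group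
    rw [e]; exact Subgroup.inv_mem _ ha

/-- The dichotomy. -/
theorem dich [Finite G] {V K A : Subgroup G} (h : Act V K)
    (hAV : ∀ a ∈ A, ∀ v ∈ V, a * v * a⁻¹ ∈ V)
    (hcomm : ∀ a ∈ A, ⁅K, K.map (MulAut.conj a).toMonoidHom⁆ ≤
      Subgroup.centralizer (V : Set G))
    {a : G} (ha : a ∈ A) :
    a ∈ Subgroup.normalizer ((⁅V, K⁆ : Subgroup G) : Set G) ∨
      ((∀ w ∈ ⁅V, K⁆, a * w * a⁻¹ ∈ ⁅V, K⁆ → w = 1) ∧
        ∀ k ∈ K, ∀ w ∈ ⁅V, K⁆, k * (a * w * a⁻¹) * k⁻¹ = a * w * a⁻¹) := by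
  have hainv : a⁻¹ ∈ A := inv_mem ha
  have hg : ∀ k ∈ K, ∀ w ∈ ⁅V, K⁆, (a⁻¹ * k * a) * w * (a⁻¹ * k * a)⁻¹ ∈ ⁅V, K⁆ := by
    intro k hk
    apply h.conj_W_of_comm
    · intro v hv
      have h1 : a * v * a⁻¹ ∈ V := hAV a ha v hv
      have h2 := h.hKV k hk _ h1
      have h3 := hAV a⁻¹ hainv _ h2
      have e : a⁻¹ * k * a * v * (a⁻¹ * k * a)⁻¹ = a⁻¹ * (k * (a * v * a⁻¹) * k⁻¹) * a⁻¹⁻¹ := by
        group
      rw [e]; exact h3
    · intro k₁ hk₁
      have hmem : a⁻¹ * k * a ∈ K.map (MulAut.conj a⁻¹).toMonoidHom :=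
        ⟨k, hk, by simp⟩
      have h1 := hcomm a⁻¹ hainv (Subgroup.commutator_mem_commutator hk₁ hmem)
      rw [← commutatorElement_inv]
      exact inv_mem h1
  have hKWa : ∀ k ∈ K, ∀ w ∈ ⁅V, K⁆,
      k * (a * w * a⁻¹) * k⁻¹ ∈ (⁅V, K⁆).map (MulAut.conj a).toMonoidHom := by
    intro k hk w hw
    refine ⟨(a⁻¹ * k * a) * w * (a⁻¹ * k * a)⁻¹, hg k hk w hw, ?_⟩
    simp only [MulEquiv.coe_toMonoidHom, MulAut.conj_apply]
    group
  have hKM : ∀ k ∈ K, ∀ m ∈ ⁅V, K⁆ ⊓ (⁅V, K⁆).map (MulAut.conj a).toMonoidHom,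
      k * m * k⁻¹ ∈ ⁅V, K⁆ ⊓ (⁅V, K⁆).map (MulAut.conj a).toMonoidHom := by
    intro k hk m hm
    obtain ⟨hm1, w, hw, rfl⟩ := hm
    refine Subgroup.mem_inf.mpr ⟨h.K_norm_W k hk _ hm1, ?_⟩
    simp only [MulEquiv.coe_toMonoidHom, MulAut.conj_apply]
    exact hKWa k hk w hw
  rcases h.inv_sub _ inf_le_left hKM with hbot | htop
  · right
    refine ⟨fun w hw hw' => ?_, fun k hk w hw => ?_⟩
    · have hmem : a * w * a⁻¹ ∈ ⁅V, K⁆ ⊓ (⁅V, K⁆).map (MulAut.conj a).toMonoidHom :=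
        Subgroup.mem_inf.mpr ⟨hw', ⟨w, hw, by simp⟩⟩
      rw [hbot, Subgroup.mem_bot] at hmem
      exact conj_eq_one_iff.mp hmem
    · have hxV : a * w * a⁻¹ ∈ V := hAV a ha _ (h.W_le hw)
      have hmem : ⁅a * w * a⁻¹, k⁆ ∈ ⁅V, K⁆ ⊓ (⁅V, K⁆).map (MulAut.conj a).toMonoidHom := by
        refine Subgroup.mem_inf.mpr ⟨Subgroup.commutator_mem_commutator hxV hk, ?_⟩
        have e : ⁅a * w * a⁻¹, k⁆ = (a * w * a⁻¹) * (k * (a * w⁻¹ * a⁻¹) * k⁻¹) := by
          simp only [commutatorElement_def]; group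
        rw [e]
        exact mul_mem ⟨w, hw, by simp⟩ (hKWa k hk _ (inv_mem hw))
      rw [hbot, Subgroup.mem_bot] at hmem
      have hc : Commute (a * w * a⁻¹) k := commutatorElement_eq_one_iff_commute.mp hmem
      rw [← hc.eq, mul_inv_cancel_right]
  · left
    have hle : ⁅V, K⁆ ≤ (⁅V, K⁆).map (MulAut.conj a).toMonoidHom := by
      intro x hx
      have : x ∈ ⁅V, K⁆ ⊓ (⁅V, K⁆).map (MulAut.conj a).toMonoidHom := by rw [htop]; exact hx
      exact (Subgroup.mem_inf.mp this).2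
    have hcard : Nat.card ↥((⁅V, K⁆).map (MulAut.conj a).toMonoidHom) = Nat.card ↥⁅V, K⁆ :=
      Subgroup.card_map_of_injective (MulAut.conj a).injective
    have heq : ⁅V, K⁆ = (⁅V, K⁆).map (MulAut.conj a).toMonoidHom :=
      Subgroup.eq_of_le_of_card_ge hle (by rw [hcard])
    rw [Subgroup.mem_normalizer_iff]
    intro x
    constructor
    · intro hx
      rw [heq]
      exact ⟨x, hx, by simp⟩
    · intro hx
      rw [heq] at hx
      obtain ⟨w, hw, hwx⟩ := hx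
      simp only [MulEquiv.coe_toMonoidHom, MulAut.conj_apply] at hwx
      have : w = x := by
        have := congrArg (fun y => a⁻¹ * y * a) hwx
        simpa [mul_assoc] using this
      rw [← this]; exact hw

theorem conj_fix_of_prod {k t p q r : G} (e : p * q = t * r) (hsq : r * r = 1)
    (e1 : k * p * k⁻¹ = p) (e2 : k * q * k⁻¹ = q) (e3 : k * r * k⁻¹ = r) :
    k * t * k⁻¹ = t := by
  have ht : t = p * q * r := by rw [e, mul_assoc, hsq, mul_one]
  have h1 : k * (p * q * r) * k⁻¹ = (k * p * k⁻¹) * (k * q * k⁻¹) * (k * r * k⁻¹) := by group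
  rw [e1, e2, e3, ← ht] at h1
  exact h1

theorem alg_alpha {t p Q R : G} (e : p * Q = t * R) (hp2 : p * p = 1) (hR2 : R * R = 1)
    (hRp : R * p = p * R) (hRt : R * t = t * R) (hpt : p * t = t * p) : R * Q = t * p := by
  have hQ : Q = p * (t * R) := by
    calc Q = p * (p * Q) := by rw [← mul_assoc, hp2, one_mul]
      _ = p * (t * R) := by rw [e]
  rw [hQ]
  calc R * (p * (t * R)) = (R * p) * t * R := by group
    _ = p * (R * t) * R := by rw [hRp]; group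
    _ = p * t * (R * R) := by rw [hRt]; group
    _ = t * p := by rw [hR2, mul_one, hpt]

/-- The orbit injection: an element `t ∈ V \ A` with `(I)` contradicts the maximality of `A`. -/
theorem orbit_inj [Finite G] {V A : Subgroup G}
    (hV2 : ∀ a ∈ V, a * a = 1)
    (hAab : ∀ a ∈ A, ∀ b ∈ A, a * b = b * a)
    (hAV : ∀ a ∈ A, ∀ v ∈ V, a * v * a⁻¹ ∈ V)
    (hmax : ∀ V' B' : Subgroup G, V' ≤ V → B' ≤ A → B' ≤ Subgroup.centralizer (V' : Set G) →
      Nat.card ↥(V' ⊔ B') ≤ Nat.card ↥A)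
    {t : G} (htV : t ∈ V) (htA : t ∉ A)
    (hI : ∀ u ∈ A, u * t * u⁻¹ ≠ t → t * (u * t * u⁻¹) ∉ A) : False := by
  classical
  set V' : Subgroup G := Subgroup.closure {s | ∃ y ∈ A, y * t * y⁻¹ = s} with hV'
  set B' : Subgroup G := A ⊓ Subgroup.centralizer ({t} : Set G) with hB'
  have hV'V : V' ≤ V := by
    rw [hV', Subgroup.closure_le]
    rintro s ⟨y, hy, rfl⟩
    exact hAV y hy t htV
  have hB'A : B' ≤ A := inf_le_left
  have hB'c : ∀ b ∈ B', t * b = b * t := by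
    intro b hb
    have := (Subgroup.mem_inf.mp hb).2
    rw [Subgroup.mem_centralizer_iff] at this
    exact this t rfl
  have hB'C : B' ≤ Subgroup.centralizer (V' : Set G) := by
    rw [Subgroup.le_centralizer_iff, hV', Subgroup.closure_le]
    rintro s ⟨y, hy, rfl⟩
    rw [SetLike.mem_coe, Subgroup.mem_centralizer_iff]
    intro b hb
    have c1 : Commute b y := hAab b (hB'A hb) y hy
    have c2 : Commute b t := (hB'c b hb).symm
    exact ((c1.mul_right c2).mul_right c1.inv_right).eq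
  let r : G → G := fun s => if hs : ∃ y ∈ A, y * t * y⁻¹ = s then hs.choose else 1
  have hr : ∀ y ∈ A, r (y * t * y⁻¹) ∈ A ∧
      r (y * t * y⁻¹) * t * (r (y * t * y⁻¹))⁻¹ = y * t * y⁻¹ := by
    intro y hy
    have hs : ∃ y' ∈ A, y' * t * y'⁻¹ = y * t * y⁻¹ := ⟨y, hy, rfl⟩
    simp only [r, dif_pos hs]
    exact hs.choose_spec
  have hbmem : ∀ y ∈ A, (r (y * t * y⁻¹))⁻¹ * y ∈ B' := by
    intro y hy
    obtain ⟨h1, h2⟩ := hr y hy
    refine Subgroup.mem_inf.mpr ⟨mul_mem (inv_mem h1) hy, ?_⟩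
    rw [Subgroup.mem_centralizer_iff]
    intro x hx
    rw [Set.mem_singleton_iff] at hx
    subst hx
    have e : x * ((r (y * x * y⁻¹))⁻¹ * y) =
        (r (y * x * y⁻¹))⁻¹ * (r (y * x * y⁻¹) * x * (r (y * x * y⁻¹))⁻¹) * y := by group
    rw [e, h2]; group
  have hfmem : ∀ y : ↥A, ((y : G) * t * (y : G)⁻¹) * ((r ((y : G) * t * (y : G)⁻¹))⁻¹ * (y : G)) ∈
      V' ⊔ B' := by
    intro y
    refine mul_mem (Subgroup.mem_sup_left ?_) (Subgroup.mem_sup_right (hbmem y y.2))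
    exact Subgroup.subset_closure ⟨y, y.2, rfl⟩
  let f : ↥A → ↥(V' ⊔ B') := fun y => ⟨_, hfmem y⟩
  have hfinj : Function.Injective f := by
    intro y y' hyy
    have heq : ((y : G) * t * (y : G)⁻¹) * ((r ((y : G) * t * (y : G)⁻¹))⁻¹ * (y : G)) =
        ((y' : G) * t * (y' : G)⁻¹) * ((r ((y' : G) * t * (y' : G)⁻¹))⁻¹ * (y' : G)) :=
      congrArg Subtype.val hyy
    have hbA := hB'A (hbmem y y.2)
    have hb'A := hB'A (hbmem y' y'.2)
    have h1 : ((y' : G) * t * (y' : G)⁻¹)⁻¹ * ((y : G) * t * (y : G)⁻¹) ∈ A := by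
      have e : ((y' : G) * t * (y' : G)⁻¹)⁻¹ * ((y : G) * t * (y : G)⁻¹) =
          ((r ((y' : G) * t * (y' : G)⁻¹))⁻¹ * (y' : G)) *
            ((r ((y : G) * t * (y : G)⁻¹))⁻¹ * (y : G))⁻¹ := by
        rw [eq_mul_inv_iff_mul_eq, mul_assoc, heq]; group
      rw [e]; exact mul_mem hb'A (inv_mem hbA)
    have htt : t⁻¹ = t := inv_eq_of_mul_eq_one_left (hV2 t htV)
    have h2 : t * (((y' : G)⁻¹ * (y : G)) * t * ((y' : G)⁻¹ * (y : G))⁻¹) ∈ A := by
      have e : t * (((y' : G)⁻¹ * (y : G)) * t * ((y' : G)⁻¹ * (y : G))⁻¹) =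
          (y' : G)⁻¹ * (((y' : G) * t⁻¹ * (y' : G)⁻¹)⁻¹⁻¹ * ((y : G) * t * (y : G)⁻¹)) * (y' : G) := by
        rw [htt]; group
      rw [e]
      refine mul_mem (mul_mem (inv_mem y'.2) ?_) y'.2
      have e2 : ((y' : G) * t⁻¹ * (y' : G)⁻¹)⁻¹⁻¹ = ((y' : G) * t * (y' : G)⁻¹)⁻¹ := by group
      rw [e2]; exact h1
    have h3 : ((y' : G)⁻¹ * (y : G)) * t * ((y' : G)⁻¹ * (y : G))⁻¹ = t := by
      by_contra hne
      exact hI _ (mul_mem (inv_mem y'.2) y.2) hne h2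
    have hs : (y : G) * t * (y : G)⁻¹ = (y' : G) * t * (y' : G)⁻¹ := by
      have e : (y : G) * t * (y : G)⁻¹ =
          (y' : G) * (((y' : G)⁻¹ * (y : G)) * t * ((y' : G)⁻¹ * (y : G))⁻¹) * (y' : G)⁻¹ := by
        group
      rw [e, h3]
    rw [hs] at heq
    have := mul_left_cancel (mul_left_cancel heq)
    exact Subtype.ext this
  have hnot : (1 : ↥(V' ⊔ B')) ∉ Set.range f := by
    rintro ⟨y, hy⟩
    have heq : ((y : G) * t * (y : G)⁻¹) * ((r ((y : G) * t * (y : G)⁻¹))⁻¹ * (y : G)) = 1 :=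
      congrArg Subtype.val hy
    have hbA := hB'A (hbmem y y.2)
    have h1 : (y : G) * t * (y : G)⁻¹ ∈ A := by
      have e : (y : G) * t * (y : G)⁻¹ = ((r ((y : G) * t * (y : G)⁻¹))⁻¹ * (y : G))⁻¹ :=
        eq_inv_of_mul_eq_one_left heq
      rw [e]; exact inv_mem hbA
    apply htA
    have e : t = (y : G)⁻¹ * ((y : G) * t * (y : G)⁻¹) * (y : G) := by group
    rw [e]; exact mul_mem (mul_mem (inv_mem y.2) h1) y.2
  have hlt : Nat.card ↥A < Nat.card ↥(V' ⊔ B') := by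
    haveI : Fintype ↥A := Fintype.ofFinite _
    haveI : Fintype ↥(V' ⊔ B') := Fintype.ofFinite _
    rw [Nat.card_eq_fintype_card, Nat.card_eq_fintype_card]
    exact Fintype.card_lt_of_injective_of_notMem f hfinj hnot
  have := hmax V' B' hV'V hB'A hB'C
  omega

/-- SQ-CNT. -/
theorem cnt : StCnt.{u} := by
  intro G _ _ V K O A hV hA hAV hKV hOK hOV h3 hW4 hcomm hmax
  classical
  have hVab : ∀ a ∈ V, ∀ b ∈ V, a * b = b * a := by
    intro a ha b hb
    have := hV.1.is_comm.comm (⟨a, ha⟩ : ↥V) ⟨b, hb⟩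
    exact congrArg Subtype.val this
  have hV2 : ∀ a ∈ V, a * a = 1 := by
    intro a ha
    have := hV.2 a ha
    rwa [pow_two] at this
  have hAab : ∀ a ∈ A, ∀ b ∈ A, a * b = b * a := by
    intro a ha b hb
    have := hA.1.is_comm.comm (⟨a, ha⟩ : ↥A) ⟨b, hb⟩
    exact congrArg Subtype.val this
  have hKV' : ∀ k ∈ K, ∀ v ∈ V, k * v * k⁻¹ ∈ V := by
    intro k hk v hv
    exact (Subgroup.mem_normalizer_iff.mp (hKV hk) v).mp hv
  have hAV' : ∀ a ∈ A, ∀ v ∈ V, a * v * a⁻¹ ∈ V := by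
    intro a ha v hv
    exact (Subgroup.mem_normalizer_iff.mp (hAV ha) v).mp hv
  have hk3 : ∀ k ∈ K, k ^ 3 ∈ Subgroup.centralizer (V : Set G) := by
    intro k hk
    haveI hCn : ((Subgroup.centralizer (V : Set G)).subgroupOf K).Normal := by
      refine ⟨fun n hn g => ?_⟩
      rw [Subgroup.mem_subgroupOf] at hn ⊢
      rw [Subgroup.mem_centralizer_iff] at hn ⊢
      intro v hv
      have hv' : (g : G)⁻¹ * v * (g : G) ∈ V := by
        have := hKV' (g : G)⁻¹ (inv_mem g.2) v hv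
        simpa using this
      have hc := hn _ hv'
      simp only [Subgroup.coe_mul, Subgroup.coe_inv]
      calc v * ((g : G) * (n : G) * (g : G)⁻¹)
          = (g : G) * (((g : G)⁻¹ * v * (g : G)) * (n : G)) * (g : G)⁻¹ := by group
        _ = (g : G) * ((n : G) * ((g : G)⁻¹ * v * (g : G))) * (g : G)⁻¹ := by rw [hc]
        _ = (g : G) * (n : G) * (g : G)⁻¹ * v := by group
    have hdvd : ((Subgroup.centralizer (V : Set G)).subgroupOf K).index ∣ 3 := by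
      have := Subgroup.relIndex_dvd_of_le_left K hOV
      rw [h3] at this
      exact this
    have hpow := Subgroup.pow_index_mem ((Subgroup.centralizer (V : Set G)).subgroupOf K)
      (⟨k, hk⟩ : ↥K)
    rcases (Nat.dvd_prime Nat.prime_three).mp hdvd with h1 | h3'
    · rw [h1, pow_one] at hpow
      exact pow_mem (Subgroup.mem_subgroupOf.mp hpow) 3
    · rw [h3'] at hpow
      exact Subgroup.mem_subgroupOf.mp hpow
  have hact : Act V K :=
    ⟨hVab, hV2, hKV', fun k hk v hv =>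
      ((Subgroup.mem_centralizer_iff.mp (hk3 k hk)) v hv).symm, hW4⟩
  have hD := fun (a : G) (ha : a ∈ A) => dich hact hAV' hcomm ha
  have hWV : ⁅V, K⁆ ≤ V := hact.W_le
  by_contra hnot
  obtain ⟨z, hzA, hzN⟩ := SetLike.not_le_iff_exists.mp hnot
  -- `W ∩ A = 1`
  have hWA : ∀ w ∈ ⁅V, K⁆, w ∈ A → w = 1 := by
    intro w hw hwA
    rcases hD z hzA with h | ⟨h1, -⟩
    · exact absurd h hzN
    · apply h1 w hw
      have : z * w * z⁻¹ = w := by rw [hAab z hzA w hwA, mul_inv_cancel_right]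
      rw [this]; exact hw
  have hinvW : ∀ w ∈ ⁅V, K⁆, w⁻¹ = w := fun w hw => inv_eq_of_mul_eq_one_left (hV2 w (hWV hw))
  -- the common part of `(I)`
  have hI_of : ∀ t ∈ ⁅V, K⁆,
      (∀ u ∈ A, u ∉ Subgroup.normalizer ((⁅V, K⁆ : Subgroup G) : Set G) →
        t * (u * t * u⁻¹) ∈ A → False) →
      ∀ u ∈ A, u * t * u⁻¹ ≠ t → t * (u * t * u⁻¹) ∉ A := by
    intro t ht hout u hu hne hs
    by_cases huN : u ∈ Subgroup.normalizer ((⁅V, K⁆ : Subgroup G) : Set G)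
    · have h1 : t * (u * t * u⁻¹) ∈ ⁅V, K⁆ :=
        mul_mem ht ((Subgroup.mem_normalizer_iff.mp huN t).mp ht)
      have h2 := hWA _ h1 hs
      apply hne
      have : u * t * u⁻¹ = t⁻¹ := eq_inv_of_mul_eq_one_right h2
      rw [this, hinvW t ht]
    · exact hout u hu huN hs
  have hstar : ∀ t u : G, t * (u * t * u⁻¹) ∈ A → ∀ y ∈ A,
      (y * t * y⁻¹) * ((y * u) * t * (y * u)⁻¹) = t * (u * t * u⁻¹) := by
    intro t u hs y hy
    have hc : y * (t * (u * t * u⁻¹)) = (t * (u * t * u⁻¹)) * y := hAab y hy _ hs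
    have e : (y * t * y⁻¹) * ((y * u) * t * (y * u)⁻¹) = y * (t * (u * t * u⁻¹)) * y⁻¹ := by
      group
    rw [e, hc, mul_inv_cancel_right]
  by_cases hβ : ∀ u ∈ A, u ∉ Subgroup.normalizer ((⁅V, K⁆ : Subgroup G) : Set G) →
      ∃ y ∈ A, y ∉ Subgroup.normalizer ((⁅V, K⁆ : Subgroup G) : Set G) ∧
        y * u ∉ Subgroup.normalizer ((⁅V, K⁆ : Subgroup G) : Set G)
  · -- every `t ≠ 1` of `W` works
    obtain ⟨t, ht, ht1⟩ : ∃ t ∈ ⁅V, K⁆, t ≠ 1 := by
      by_contra hcon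
      push Not at hcon
      have : (⁅V, K⁆ : Subgroup G) = ⊥ := (Subgroup.eq_bot_iff_forall _).mpr hcon
      rw [this] at hW4
      simp at hW4
    refine orbit_inj hV2 hAab hAV' hmax (hWV ht) (fun h => ht1 (hWA t ht h)) (hI_of t ht ?_)
    intro u hu huN hs
    obtain ⟨y, hy, hyN, hyuN⟩ := hβ u hu huN
    obtain ⟨-, P2u⟩ := (hD u hu).resolve_left huN
    obtain ⟨-, P2y⟩ := (hD y hy).resolve_left hyN
    obtain ⟨-, P2yu⟩ := (hD (y * u) (mul_mem hy hu)).resolve_left hyuN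
    apply ht1
    apply hact.fix_eq_one ht
    intro k hk
    have hsq : (u * t * u⁻¹) * (u * t * u⁻¹) = 1 := hV2 _ (hAV' u hu t (hWV ht))
    exact conj_fix_of_prod (hstar t u hs y hy) hsq (P2y k hk t ht) (P2yu k hk t ht)
      (P2u k hk t ht)
  · push Not at hβ
    obtain ⟨u, hu, huN, hall⟩ := hβ
    by_cases hα : ∃ b ∈ A, b ∈ Subgroup.normalizer ((⁅V, K⁆ : Subgroup G) : Set G) ∧
        ∃ t ∈ ⁅V, K⁆, b * t * b⁻¹ ≠ t
    · obtain ⟨b, hb, hbN, t, ht, hbt⟩ := hα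
      have ht1 : t ≠ 1 := by
        rintro rfl
        apply hbt
        simp
      refine orbit_inj hV2 hAab hAV' hmax (hWV ht) (fun h => ht1 (hWA t ht h)) (hI_of t ht ?_)
      intro u' hu' hu'N hs
      obtain ⟨P1, -⟩ := (hD u' hu').resolve_left hu'N
      have e := hstar t u' hs b hb
      have hpW : b * t * b⁻¹ ∈ ⁅V, K⁆ := (Subgroup.mem_normalizer_iff.mp hbN t).mp ht
      have hpV := hWV hpW
      have hRV : u' * t * u'⁻¹ ∈ V := hAV' u' hu' t (hWV ht)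
      have e2 := alg_alpha e (hV2 _ hpV) (hV2 _ hRV) (hVab _ hRV _ hpV) (hVab _ hRV _ (hWV ht))
        (hVab _ hpV _ (hWV ht))
      have heW : t * (b * t * b⁻¹) ∈ ⁅V, K⁆ := mul_mem ht hpW
      have hconj : u' * (t * (b * t * b⁻¹)) * u'⁻¹ = t * (b * t * b⁻¹) := by
        have hbu : b * u' = u' * b := hAab b hb u' hu'
        calc u' * (t * (b * t * b⁻¹)) * u'⁻¹
            = u' * t * u'⁻¹ * (u' * b * t * (u' * b)⁻¹) := by group
          _ = u' * t * u'⁻¹ * (b * u' * t * (b * u')⁻¹) := by rw [hbu]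
          _ = t * (b * t * b⁻¹) := e2
      have h1 := P1 _ heW (by rw [hconj]; exact heW)
      apply hbt
      have : b * t * b⁻¹ = t⁻¹ := eq_inv_of_mul_eq_one_right h1
      rw [this, hinvW t ht]
    · push Not at hα
      -- `N` centralizes `W` and `A = N ∪ N u`
      obtain ⟨t₁, ht₁, ht₁1⟩ : ∃ t ∈ ⁅V, K⁆, t ≠ 1 := by
        by_contra hcon
        push Not at hcon
        have : (⁅V, K⁆ : Subgroup G) = ⊥ := (Subgroup.eq_bot_iff_forall _).mpr hcon
        rw [this] at hW4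
        simp at hW4
      obtain ⟨t₂, ht₂, ht₂z⟩ : ∃ t ∈ ⁅V, K⁆, t ∉ Subgroup.zpowers t₁ := by
        by_contra hcon
        push Not at hcon
        have hle : (⁅V, K⁆ : Subgroup G) ≤ Subgroup.zpowers t₁ := hcon
        have hc := Subgroup.card_le_of_le hle
        rw [hW4, Nat.card_zpowers] at hc
        have h2 : orderOf t₁ ∣ 2 :=
          orderOf_dvd_of_pow_eq_one (by rw [pow_two]; exact hV2 t₁ (hWV ht₁))
        have := Nat.le_of_dvd (by norm_num) h2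
        omega
      have ht₂1 : t₂ ≠ 1 := fun h => ht₂z (h ▸ one_mem _)
      have ht₂t₁ : t₂ ≠ t₁ := fun h => ht₂z (h ▸ Subgroup.mem_zpowers t₁)
      set B' : Subgroup G := A ⊓ Subgroup.normalizer ((⁅V, K⁆ : Subgroup G) : Set G) with hB'
      have hB'C : B' ≤ Subgroup.centralizer ((⁅V, K⁆ : Subgroup G) : Set G) := by
        intro b hb
        obtain ⟨hbA, hbN⟩ := Subgroup.mem_inf.mp hb
        rw [Subgroup.mem_centralizer_iff]
        intro w hw
        have := hα b hbA hbN w hw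
        rw [← this, inv_mul_cancel_right]
        rw [this]
      have hgmem : ∀ y : ↥A, (if (y : G) ∈ Subgroup.normalizer ((⁅V, K⁆ : Subgroup G) : Set G)
          then (y : G) else t₁ * ((y : G) * u)) ∈ ⁅V, K⁆ ⊔ B' := by
        intro y
        split_ifs with hy
        · exact Subgroup.mem_sup_right (Subgroup.mem_inf.mpr ⟨y.2, hy⟩)
        · exact mul_mem (Subgroup.mem_sup_left ht₁)
            (Subgroup.mem_sup_right (Subgroup.mem_inf.mpr ⟨mul_mem y.2 hu, hall y y.2 hy⟩))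
      let g : ↥A → ↥(⁅V, K⁆ ⊔ B') := fun y => ⟨_, hgmem y⟩
      have hginj : Function.Injective g := by
        intro y y' hyy
        have heq : (if (y : G) ∈ Subgroup.normalizer ((⁅V, K⁆ : Subgroup G) : Set G)
            then (y : G) else t₁ * ((y : G) * u)) =
            (if (y' : G) ∈ Subgroup.normalizer ((⁅V, K⁆ : Subgroup G) : Set G)
            then (y' : G) else t₁ * ((y' : G) * u)) := congrArg Subtype.val hyy
        by_cases hy : (y : G) ∈ Subgroup.normalizer ((⁅V, K⁆ : Subgroup G) : Set G) <;>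
          by_cases hy' : (y' : G) ∈ Subgroup.normalizer ((⁅V, K⁆ : Subgroup G) : Set G)
        · rw [if_pos hy, if_pos hy'] at heq
          exact Subtype.ext heq
        · rw [if_pos hy, if_neg hy'] at heq
          exfalso
          apply ht₁1
          apply hWA t₁ ht₁
          have e : t₁ = (y : G) * ((y' : G) * u)⁻¹ := by rw [heq]; group
          rw [e]; exact mul_mem y.2 (inv_mem (mul_mem y'.2 hu))
        · rw [if_neg hy, if_pos hy'] at heq
          exfalso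
          apply ht₁1
          apply hWA t₁ ht₁
          have e : t₁ = (y' : G) * ((y : G) * u)⁻¹ := by rw [← heq]; group
          rw [e]; exact mul_mem y'.2 (inv_mem (mul_mem y.2 hu))
        · rw [if_neg hy, if_neg hy'] at heq
          exact Subtype.ext (mul_right_cancel (mul_left_cancel heq))
      have hgnot : (⟨t₂, Subgroup.mem_sup_left ht₂⟩ : ↥(⁅V, K⁆ ⊔ B')) ∉ Set.range g := by
        rintro ⟨y, hy⟩
        have heq : (if (y : G) ∈ Subgroup.normalizer ((⁅V, K⁆ : Subgroup G) : Set G)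
            then (y : G) else t₁ * ((y : G) * u)) = t₂ := congrArg Subtype.val hy
        by_cases hyN : (y : G) ∈ Subgroup.normalizer ((⁅V, K⁆ : Subgroup G) : Set G)
        · rw [if_pos hyN] at heq
          exact ht₂1 (hWA t₂ ht₂ (heq ▸ y.2))
        · rw [if_neg hyN] at heq
          have e : t₁⁻¹ * t₂ = (y : G) * u := by rw [← heq]; group
          have h1 : t₁⁻¹ * t₂ = 1 :=
            hWA _ (mul_mem (inv_mem ht₁) ht₂) (e ▸ mul_mem y.2 hu)
          exact ht₂t₁ (inv_mul_eq_one.mp h1).symm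
      have hlt : Nat.card ↥A < Nat.card ↥(⁅V, K⁆ ⊔ B') := by
        haveI : Fintype ↥A := Fintype.ofFinite _
        haveI : Fintype ↥(⁅V, K⁆ ⊔ B') := Fintype.ofFinite _
        rw [Nat.card_eq_fintype_card, Nat.card_eq_fintype_card]
        exact Fintype.card_lt_of_injective_of_notMem g hginj hgnot
      have := hmax ⁅V, K⁆ B' hWV inf_le_left hB'C
      omega

end Cfsg.Agent.H32.SqC

universe u in
example : Cfsg.Agent.H42.Sq.StCnt.{u} := Cfsg.Agent.H32.SqC.cnt.{u}
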