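import Cfsg.Agent.H52.SrDefs

/-!
# SR-PERM (piece of the `S₃^r` picture for S2951 / S2952)

`V = ⨆ W i` with all `W i` of order 4, `A` generated by elements of odd order and normalizing
every `W i`, `|[V, A]| = 4`.  Then `[V, A]` is one of the `W i`.

Proof.  `A` does not centralize `V`, so some generator `y` of odd order does not centralize some
`W i`.  Put `C = W i ⊓ [V, A]`; `y` acts trivially on `W i / C` (commutators lie in `C`).  If
`|C| ≤ 2` then `y` centralizes `C` and `y²` centralizes `W i`, so `y` does: contradiction.  So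
`C = W i`, i.e. `W i ≤ [V, A]`, and they are equal by cardinality.
-/

set_option autoImplicit false
open Cfsg

namespace Cfsg.Agent.H32.Sr

universe u

/-- An element of odd order normalizing a group `W` of order 4, not centralizing it, with all
commutators `[w, y]` in `D`: then `W ≤ D`. -/
theorem four_le_of_odd_act {X : Type u} [Group X] [Finite X] (W D : Subgroup X)
    (hW : Nat.card W = 4) (y : X) (hy : Odd (orderOf y))
    (hyN : ∀ w ∈ W, y * w * y⁻¹ ∈ W)
    (hcomm : ∀ w ∈ W, w * y * w⁻¹ * y⁻¹ ∈ D)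
    (hnc : ∃ w ∈ W, y * w ≠ w * y) : W ≤ D := by
  classical
  set C := W ⊓ D with hC
  have hd : ∀ w ∈ W, w⁻¹ * (y * w * y⁻¹) ∈ C := by
    intro w hw
    refine Subgroup.mem_inf.mpr ⟨W.mul_mem (W.inv_mem hw) (hyN w hw), ?_⟩
    have h := hcomm w⁻¹ (W.inv_mem hw)
    have e : w⁻¹ * y * w⁻¹⁻¹ * y⁻¹ = w⁻¹ * (y * w * y⁻¹) := by group
    rw [e] at h
    exact h
  have hdvd : Nat.card C ∣ 4 := by
    rw [← hW]; exact Subgroup.card_dvd_of_le inf_le_left
  have hpos : 0 < Nat.card C := Nat.card_pos
  have hcases : Nat.card C = 1 ∨ Nat.card C = 2 ∨ Nat.card C = 4 := by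
    have hle := Nat.le_of_dvd (by norm_num) hdvd
    interval_cases h : Nat.card C <;> omega
  by_cases h4 : Nat.card C = 4
  · have hCW : C = W := Subgroup.eq_of_le_of_card_ge inf_le_left (by rw [h4, hW])
    rw [← hCW]; exact inf_le_right
  exfalso
  have h12 : Nat.card C = 1 ∨ Nat.card C = 2 := by omega
  have hsq : ∀ c ∈ C, c * c = 1 := by
    intro c hc
    have h := pow_card_eq_one' (G := C) (x := ⟨c, hc⟩)
    rcases h12 with h1 | h2
    · rw [h1, pow_one] at h
      have hc1 : c = 1 := by simpa using congrArg Subtype.val h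
      rw [hc1, one_mul]
    · rw [h2, pow_two] at h
      simpa using congrArg Subtype.val h
  have hfix : ∀ c ∈ C, y * c * y⁻¹ = c := by
    intro c hc
    have hcW : c ∈ W := (Subgroup.mem_inf.mp hc).1
    have hyc : y * c * y⁻¹ ∈ C := by
      have h := C.mul_mem hc (hd c hcW)
      have e : c * (c⁻¹ * (y * c * y⁻¹)) = y * c * y⁻¹ := by group
      rw [e] at h; exact h
    rcases h12 with h1 | h2
    · have hbot : C = ⊥ := Subgroup.card_eq_one.mp h1
      rw [hbot, Subgroup.mem_bot] at hc
      rw [hc]; group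
    · by_cases hc1 : c = 1
      · rw [hc1]; group
      · obtain ⟨z, hz, hzu⟩ := (Nat.card_eq_two_iff' (1 : C)).mp h2
        have e1 : (⟨c, hc⟩ : C) = z := hzu _ (by
          intro h; exact hc1 (by simpa using congrArg Subtype.val h))
        have e2 : (⟨y * c * y⁻¹, hyc⟩ : C) = z := hzu _ (by
          intro h
          have hval : y * c * y⁻¹ = 1 := by simpa using congrArg Subtype.val h
          apply hc1
          have e3 : c = y⁻¹ * (y * c * y⁻¹) * y := by group
          rw [hval] at e3
          simpa using e3)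
        have e4 := e2.trans e1.symm
        simpa using congrArg Subtype.val e4
  obtain ⟨w, hw, hne⟩ := hnc
  apply hne
  set d := w⁻¹ * (y * w * y⁻¹) with hdd
  have hdC : d ∈ C := hd w hw
  have hywy : y * w * y⁻¹ = w * d := by rw [hdd]; group
  have h2 : y * (y * w * y⁻¹) * y⁻¹ = w := by
    calc y * (y * w * y⁻¹) * y⁻¹ = y * (w * d) * y⁻¹ := by rw [hywy]
      _ = (y * w * y⁻¹) * (y * d * y⁻¹) := by group
      _ = w * d * d := by rw [hywy, hfix d hdC]
      _ = w := by rw [mul_assoc, hsq d hdC, mul_one]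
  have hsqc : Commute (y ^ 2) w := by
    show y ^ 2 * w = w * y ^ 2
    calc y ^ 2 * w = (y * (y * w * y⁻¹) * y⁻¹) * y ^ 2 := by rw [pow_two]; group
      _ = w * y ^ 2 := by rw [h2]
  obtain ⟨m, hm⟩ := hy
  have hk : y = (y ^ 2) ^ (m + 1) := by
    have h1 : y ^ (2 * m + 1) = 1 := by rw [← hm]; exact pow_orderOf_eq_one y
    calc y = y * 1 := (mul_one y).symm
      _ = y * y ^ (2 * m + 1) := by rw [h1]
      _ = y ^ (2 * m + 2) := by rw [← pow_succ']
      _ = (y ^ 2) ^ (m + 1) := by rw [← pow_mul]; congr 1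
  have hcomm' : Commute y w := by rw [hk]; exact hsqc.pow_left (m + 1)
  exact hcomm'

/-- SR-PERM. -/
theorem perm : Cfsg.Agent.H52.Sr.StPerm.{u} := by
  intro X _ _ ι V W A hsup hW4 hgen hnorm hcard
  have hex : ∃ i, ¬ A ≤ Subgroup.centralizer (W i : Set X) := by
    by_contra hcon
    push Not at hcon
    have hVA : V ≤ Subgroup.centralizer (A : Set X) := by
      rw [← hsup]
      apply iSup_le
      intro i
      exact Subgroup.le_centralizer_iff.mp (hcon i)
    have hbot : ⁅V, A⁆ = ⊥ := Subgroup.commutator_eq_bot_iff_le_centralizer.mpr hVA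
    rw [hbot] at hcard
    simp at hcard
  obtain ⟨i, hi⟩ := hex
  have hex2 : ∃ y, y ∈ A ∧ Odd (orderOf y) ∧ y ∉ Subgroup.centralizer (W i : Set X) := by
    by_contra hcon
    push Not at hcon
    apply hi
    rw [← hgen, Subgroup.closure_le]
    intro g hg
    exact hcon g hg.1 hg.2
  obtain ⟨y, hyA, hyodd, hyc⟩ := hex2
  refine ⟨i, ?_⟩
  have hWV : W i ≤ V := by rw [← hsup]; exact le_iSup W i
  have hle : W i ≤ ⁅V, A⁆ := by
    apply four_le_of_odd_act (W i) ⁅V, A⁆ (hW4 i) y hyodd
    · intro w hw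
      have hyn := hnorm i hyA
      exact (Subgroup.mem_normalizer_iff.mp hyn w).mp hw
    · intro w hw
      have h := Subgroup.commutator_mem_commutator (hWV hw) hyA
      rw [commutatorElement_def] at h
      exact h
    · by_contra hcon
      push Not at hcon
      apply hyc
      rw [Subgroup.mem_centralizer_iff]
      intro w hw
      exact (hcon w hw).symm
  exact (Subgroup.eq_of_le_of_card_ge hle (by rw [hcard, hW4])).symm

example : Cfsg.Agent.H52.Sr.StPerm.{u} := perm

end Cfsg.Agent.H32.Sr
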