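import Mathlib
import Cfsg.Agent.H77.TqDefs
import Cfsg.Agent.H45.OmInvol
import Cfsg.Agent.H49.CD
import Cfsg.Agent.H27.TqDiag

set_option autoImplicit false
open scoped MatrixGroups
open scoped Matrix

/-!
# S5978-ADJB (piece of the S5978 team project, for helper77), helper32

For `-1` a nonsquare and `|ι| = 2 n`, `n` odd, the isometries commuting with or inverting an
isometry `y` of square `-1` cover `O/Ω`.
-/

namespace Cfsg.Agent.H32.Tq

open Module Cfsg.Agent.H77.Tq Cfsg.Agent.H49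

universe u

theorem pow_odd_of_sq_one {M : Type*} [Monoid M] {x : M} (hx : x * x = 1) {n : ℕ} (hn : Odd n) :
    x ^ n = x := by
  obtain ⟨k, rfl⟩ := hn
  rw [pow_succ, pow_mul, pow_two, hx, one_pow, one_mul]

theorem zpow_of_sq_one {M : Type*} [Group M] {x : M} (hx : x * x = 1) (m : ℤ) :
    x ^ m = 1 ∨ x ^ m = x := by
  rcases Int.even_or_odd' m with ⟨k, rfl | rfl⟩
  · left
    rw [zpow_mul, zpow_two, hx, one_zpow]
  · right
    rw [zpow_add_one, zpow_mul, zpow_two, hx, one_zpow, one_mul]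

section
variable {ι : Type} [Fintype ι] [DecidableEq ι] {F : Type u} [Field F] [Fintype F] [DecidableEq F]

/-- A product of `n` (odd) reflections in pairwise orthogonal vectors `u l` of the same norm such
that the `u l` and `y (u l)` are orthogonal and span: it inverts `y` (`y² = -1`), and its class
in the abelianisation is that of one reflection of the same norm class. -/
theorem sType (Q : QuadraticForm F (ι → F)) (h2 : (2 : F) ≠ 0)
    (y : ↥(Cfsg.isometryGroup F (⇑Q))) (hyy : ∀ x, act y (act y x) = -x) (n : ℕ) (hn : Odd n)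
    (u : Fin n → ι → F) (N : F) (hN : N ≠ 0) (hQ : ∀ l, Q (u l) = N)
    (horth : ∀ l l', l ≠ l' → QuadraticMap.polar (⇑Q) (u l) (u l') = 0)
    (horth2 : ∀ l l', QuadraticMap.polar (⇑Q) (u l) (act y (u l')) = 0)
    (hspan : Submodule.span F (Set.range u ∪ Set.range (fun l => act y (u l))) = ⊤)
    (v₀ : ι → F) (hv₀ : Q v₀ ≠ 0) (hchar : quadraticChar F (Q v₀) = quadraticChar F N) :
    ∃ t : ↥(Cfsg.isometryGroup F (⇑Q)), t * y * t⁻¹ = y⁻¹ ∧
      (Abelianization.of t : Abelianization ↥(Cfsg.isometryGroup F (⇑Q))) =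
        Abelianization.of (reflG Q v₀) := by
  obtain ⟨vs, hvsdef⟩ : ∃ vs : List (ι → F), vs = (List.finRange n).map u := ⟨_, rfl⟩
  have hmem : ∀ v, v ∈ vs ↔ ∃ l, v = u l := by
    intro v
    rw [hvsdef, List.mem_map]
    constructor
    · rintro ⟨l, -, rfl⟩; exact ⟨l, rfl⟩
    · rintro ⟨l, rfl⟩; exact ⟨l, List.mem_finRange l, rfl⟩
  have hpw : vs.Pairwise (fun a b => QuadraticMap.polar (⇑Q) a b = 0) := by
    rw [hvsdef, List.pairwise_map]
    exact (List.nodup_finRange n).imp (fun hne => horth _ _ hne)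
  have hne : ∀ v ∈ vs, Q v ≠ 0 := by
    intro v hv
    obtain ⟨l, rfl⟩ := (hmem v).mp hv
    rw [hQ]; exact hN
  obtain ⟨t, ht⟩ : ∃ t : ↥(Cfsg.isometryGroup F (⇑Q)), t = (vs.map (reflG Q)).prod := ⟨_, rfl⟩
  have hact : ∀ x, act t x = (vs.map (fun v => Cfsg.reflectionMatrix (⇑Q) v)).prod *ᵥ x := by
    intro x
    rw [ht, ← coe_prod_reflG]
    rfl
  have h1 : ∀ l, act t (u l) = -u l := fun l => by
    rw [hact]
    exact Cfsg.Agent.H45.prod_refl_neg Q vs hpw hne _ ((hmem _).mpr ⟨l, rfl⟩)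
  have h2' : ∀ l, act t (act y (u l)) = act y (u l) := fun l => by
    rw [hact]
    apply Cfsg.Agent.H45.prod_refl_fix
    intro w hw
    obtain ⟨l', rfl⟩ := (hmem w).mp hw
    exact horth2 l' l
  have htt : t * t = 1 := by rw [ht]; exact Cfsg.Agent.H45.prod_reflG_sq Q vs hpw
  have hkey : t * y * t * y = 1 := by
    apply act_ext
    intro x
    have hx : x ∈ Submodule.span F (Set.range u ∪ Set.range (fun l => act y (u l))) := by
      rw [hspan]; exact Submodule.mem_top
    rw [act_one]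
    induction hx using Submodule.span_induction with
    | mem x hx =>
      rcases hx with ⟨l, rfl⟩ | ⟨l, rfl⟩
      · rw [act_mul, act_mul, act_mul, h2', hyy, act_neg, h1, neg_neg]
      · rw [act_mul, act_mul, act_mul, hyy, act_neg, h1, neg_neg, h2']
    | zero => rw [act_zero]
    | add a b _ _ ha hb => rw [act_add, ha, hb]
    | smul c a _ ha => rw [act_smul, ha]
  refine ⟨t, ?_, ?_⟩
  · have htinv : t⁻¹ = t := inv_eq_of_mul_eq_one_right htt
    rw [htinv]
    exact eq_inv_of_mul_eq_one_left hkey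
  · rw [ht, map_list_prod, List.map_map]
    have hall : ∀ z ∈ vs.map (⇑(Abelianization.of (G := ↥(Cfsg.isometryGroup F (⇑Q)))) ∘ reflG Q),
        z = Abelianization.of (reflG Q v₀) := by
      intro z hz
      obtain ⟨v, hv, rfl⟩ := List.mem_map.mp hz
      obtain ⟨l, rfl⟩ := (hmem v).mp hv
      exact abel_reflG_eq Q h2 (u l) v₀ (by rw [hQ]; exact hN) hv₀ (by rw [hQ, hchar])
    rw [List.prod_eq_pow_card _ _ hall, List.length_map, hvsdef, List.length_map,
      List.length_finRange]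
    apply pow_odd_of_sq_one _ hn
    rw [← map_mul, reflG_mul_self, map_one]

end

theorem adjB (hAd : StBAdapt.{u}) : StAdjB.{u} := by
  classical
  intro F _ _ ι _ _ Q n h2 hnd hm1 hcard hn y g hy hg hyy
  obtain ⟨n', b, hb1, hb2, hb3⟩ := hAd F ι Q h2 hnd y hy hyy
  have hn' : n' = n := by
    have h1 : Module.finrank F (ι → F) = Fintype.card (Fin n' ⊕ Fin n') :=
      Module.finrank_eq_card_basis b
    rw [Module.finrank_fintype_fun_eq_card, hcard] at h1
    simp only [Fintype.card_sum, Fintype.card_fin] at h1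
    omega
  subst hn'
  obtain ⟨yO, hyO⟩ : ∃ yO : ↥(Cfsg.isometryGroup F (⇑Q)), yO = ⟨y, hy⟩ := ⟨_, rfl⟩
  obtain ⟨gO, hgO⟩ : ∃ gO : ↥(Cfsg.isometryGroup F (⇑Q)), gO = ⟨g, hg⟩ := ⟨_, rfl⟩
  have hyyact : ∀ x, act yO (act yO x) = -x := by
    intro x
    rw [hyO]
    show (y : Matrix ι ι F) *ᵥ ((y : Matrix ι ι F) *ᵥ x) = -x
    rw [Matrix.mulVec_mulVec, hyy, Matrix.neg_mulVec, Matrix.one_mulVec]
  have hbr : ∀ l, b (Sum.inr l) = act yO (b (Sum.inl l)) := by
    intro l
    rw [hyO]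
    exact hb1 l
  have hyr : ∀ l, act yO (b (Sum.inr l)) = -b (Sum.inl l) := by
    intro l
    rw [hbr, hyyact]
  obtain ⟨s₁, s₂, hs⟩ : ∃ s₁ s₂ : F, s₁ ^ 2 + s₂ ^ 2 = -1 := by
    obtain ⟨x, z, hxz⟩ := Cfsg.Agent.H27.Tq.diag_quad_solve F h2 1 1 (-1) one_ne_zero one_ne_zero
    exact ⟨x, z, by rw [← hxz]; ring⟩
  have hl0 : 0 < n' := hn.pos
  -- polar values on the basis
  have hpself : ∀ i, QuadraticMap.polar (⇑Q) (b i) (b i) = 2 := by
    intro i
    rw [polar_self', hb2, mul_one]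
  -- first family
  obtain ⟨c₁, hc₁, hc₁'⟩ := sType Q h2 yO hyyact n' hn (fun l => b (Sum.inl l)) 1 one_ne_zero
    (fun l => hb2 _) (fun l l' hne => hb3 _ _ (by simpa using hne))
    (fun l l' => by rw [← hbr]; exact hb3 _ _ (by simp))
    (by
      rw [eq_top_iff, ← b.span_eq, Submodule.span_le]
      rintro _ ⟨i, rfl⟩
      apply Submodule.subset_span
      rcases i with l | l
      · exact Or.inl ⟨l, rfl⟩
      · exact Or.inr ⟨l, (hbr l).symm⟩)
    (b (Sum.inl ⟨0, hl0⟩)) (by rw [hb2]; exact one_ne_zero) (by rw [hb2])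
  -- second family
  obtain ⟨u₂, hu₂⟩ : ∃ u₂ : Fin n' → ι → F,
      ∀ l, u₂ l = s₁ • b (Sum.inl l) + s₂ • b (Sum.inr l) := ⟨_, fun _ => rfl⟩
  have hyu₂ : ∀ l, act yO (u₂ l) = s₁ • b (Sum.inr l) - s₂ • b (Sum.inl l) := by
    intro l
    rw [hu₂, act_add, act_smul, act_smul, ← hbr, hyr]
    module
  have hQu₂ : ∀ l, Q (u₂ l) = -1 := by
    intro l
    rw [hu₂, QuadraticMap.map_add Q, QuadraticMap.map_smul, QuadraticMap.map_smul, hb2, hb2,
      QuadraticMap.polar_smul_left, QuadraticMap.polar_smul_right, hb3 _ _ (by simp)]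
    simp only [smul_eq_mul, mul_one, mul_zero, add_zero]
    rw [← hs]; ring
  have hm1ne : (-1 : F) ≠ 0 := neg_ne_zero.mpr one_ne_zero
  obtain ⟨c₂, hc₂, hc₂'⟩ := sType Q h2 yO hyyact n' hn u₂ (-1) hm1ne hQu₂
    (fun l l' hne => by
      rw [hu₂, hu₂]
      simp only [QuadraticMap.polar_add_left, QuadraticMap.polar_add_right,
        QuadraticMap.polar_smul_left, QuadraticMap.polar_smul_right, smul_eq_mul]
      rw [hb3 _ _ (by simpa using hne), hb3 (Sum.inl l) (Sum.inr l') (by simp),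
        hb3 (Sum.inr l) (Sum.inl l') (by simp), hb3 (Sum.inr l) (Sum.inr l') (by simpa using hne)]
      ring)
    (fun l l' => by
      rw [hyu₂, hu₂]
      simp only [QuadraticMap.polar_add_left, QuadraticMap.polar_sub_right,
        QuadraticMap.polar_smul_left, QuadraticMap.polar_smul_right, smul_eq_mul]
      rw [hb3 (Sum.inl l) (Sum.inr l') (by simp), hb3 (Sum.inr l) (Sum.inl l') (by simp)]
      by_cases hll : l = l'
      · subst hll
        rw [hpself, hpself]; ring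
      · rw [hb3 (Sum.inl l) (Sum.inl l') (by simpa using hll),
          hb3 (Sum.inr l) (Sum.inr l') (by simpa using hll)]
        ring)
    (by
      rw [eq_top_iff, ← b.span_eq, Submodule.span_le]
      rintro _ ⟨i, rfl⟩
      have hmu : ∀ l, u₂ l ∈ Submodule.span F (Set.range u₂ ∪ Set.range (fun l => act yO (u₂ l))) :=
        fun l => Submodule.subset_span (Or.inl ⟨l, rfl⟩)
      have hmy : ∀ l, act yO (u₂ l) ∈
          Submodule.span F (Set.range u₂ ∪ Set.range (fun l => act yO (u₂ l))) :=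
        fun l => Submodule.subset_span (Or.inr ⟨l, rfl⟩)
      rcases i with l | l
      · have e : b (Sum.inl l) = s₂ • act yO (u₂ l) - s₁ • u₂ l := by
          rw [hyu₂, hu₂]
          have e1 : s₂ • (s₁ • b (Sum.inr l) - s₂ • b (Sum.inl l)) -
              s₁ • (s₁ • b (Sum.inl l) + s₂ • b (Sum.inr l)) =
              (-(s₁ ^ 2 + s₂ ^ 2)) • b (Sum.inl l) := by module
          rw [e1, hs, neg_neg, one_smul]
        show b (Sum.inl l) ∈ _
        rw [e]
        exact Submodule.sub_mem _ (Submodule.smul_mem _ _ (hmy l)) (Submodule.smul_mem _ _ (hmu l))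
      · have e : b (Sum.inr l) = -(s₂ • u₂ l + s₁ • act yO (u₂ l)) := by
          rw [hyu₂, hu₂]
          have e1 : s₂ • (s₁ • b (Sum.inl l) + s₂ • b (Sum.inr l)) +
              s₁ • (s₁ • b (Sum.inr l) - s₂ • b (Sum.inl l)) =
              (s₁ ^ 2 + s₂ ^ 2) • b (Sum.inr l) := by module
          rw [e1, hs, neg_smul, one_smul, neg_neg]
        show b (Sum.inr l) ∈ _
        rw [e]
        exact Submodule.neg_mem _
          (Submodule.add_mem _ (Submodule.smul_mem _ _ (hmu l)) (Submodule.smul_mem _ _ (hmy l))))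
    (u₂ ⟨0, hl0⟩) (by rw [hQu₂]; exact hm1ne) (by rw [hQu₂])
  -- the two classes
  obtain ⟨xa, hxa⟩ : ∃ xa : Abelianization ↥(Cfsg.isometryGroup F (⇑Q)),
      xa = Abelianization.of (reflG Q (b (Sum.inl ⟨0, hl0⟩))) := ⟨_, rfl⟩
  obtain ⟨xb, hxb⟩ : ∃ xb : Abelianization ↥(Cfsg.isometryGroup F (⇑Q)),
      xb = Abelianization.of (reflG Q (u₂ ⟨0, hl0⟩)) := ⟨_, rfl⟩
  rw [← hxa] at hc₁'
  rw [← hxb] at hc₂'
  have hxa2 : xa * xa = 1 := by rw [hxa, ← map_mul, reflG_mul_self, map_one]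
  have hxb2 : xb * xb = 1 := by rw [hxb, ← map_mul, reflG_mul_self, map_one]
  have hgcl : gO ∈ Subgroup.closure (reflSet Q) := by
    rw [closure_reflSet_eq_top Q h2 hnd]; exact Subgroup.mem_top _
  have hgab : Abelianization.of gO ∈ Subgroup.closure ({xa, xb} : Set _) := by
    have h1 : (Subgroup.closure (reflSet Q)).map Abelianization.of ≤
        Subgroup.closure ({xa, xb} : Set (Abelianization ↥(Cfsg.isometryGroup F (⇑Q)))) := by
      rw [MonoidHom.map_closure, Subgroup.closure_le]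
      rintro _ ⟨r, ⟨v, hv, rfl⟩, rfl⟩
      apply Subgroup.subset_closure
      rcases quadraticChar_dichotomy hv with h | h
      · left
        rw [hxa]
        exact abel_reflG_eq Q h2 v _ hv (by rw [hb2]; exact one_ne_zero)
          (by rw [h, hb2, MulChar.map_one])
      · right
        rw [hxb]
        exact abel_reflG_eq Q h2 v _ hv (by rw [hQu₂]; exact hm1ne)
          (by rw [h, hQu₂]; exact (quadraticChar_neg_one_iff_not_isSquare.mpr hm1).symm)
    exact h1 (Subgroup.mem_map_of_mem _ hgcl)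
  obtain ⟨i, k, hik⟩ := Subgroup.mem_closure_pair.mp hgab
  -- finishing lemma
  have hfin : ∀ cO : ↥(Cfsg.isometryGroup F (⇑Q)),
      (cO * yO * cO⁻¹ = yO ∨ cO * yO * cO⁻¹ = yO⁻¹) →
      (Abelianization.of cO : Abelianization ↥(Cfsg.isometryGroup F (⇑Q))) *
        Abelianization.of gO = 1 →
      ∃ c ∈ Cfsg.isometryGroup F ⇑Q, (c * y * c⁻¹ = y ∨ c * y * c⁻¹ = y⁻¹) ∧
        c * g ∈ Cfsg.Geo.omegaGL ⇑Q := by
    intro cO hconj hcls
    refine ⟨cO.1, cO.2, ?_, ?_⟩
    · rw [hyO] at hconj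
      rcases hconj with h | h
      · left; exact congrArg Subtype.val h
      · right; exact congrArg Subtype.val h
    · have hmem : cO * gO ∈ commutator ↥(Cfsg.isometryGroup F (⇑Q)) := by
        rw [← Abelianization.ker_of, MonoidHom.mem_ker, map_mul]
        exact hcls
      refine ⟨cO * gO, hmem, ?_⟩
      rw [hgO]
      rfl
  rcases zpow_of_sq_one hxa2 i with hi | hi <;> rcases zpow_of_sq_one hxb2 k with hk | hk <;>
    rw [hi, hk] at hik
  · apply hfin 1
    · left; simp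
    · rw [map_one, ← hik]; simp
  · apply hfin c₂ (Or.inr hc₂)
    rw [hc₂', ← hik, one_mul, hxb2]
  · apply hfin c₁ (Or.inr hc₁)
    rw [hc₁', ← hik, mul_one, hxa2]
  · apply hfin (c₁ * c₂)
    · left
      have e : c₁ * c₂ * yO * (c₁ * c₂)⁻¹ = (c₁ * (c₂ * yO * c₂⁻¹)⁻¹ * c₁⁻¹)⁻¹ := by group
      rw [e, hc₂, inv_inv, hc₁, inv_inv]
    · rw [map_mul, hc₁', hc₂', ← hik, mul_mul_mul_comm, hxa2, hxb2, one_mul]

end Cfsg.Agent.H32.Tq
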