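import Mathlib
import Cfsg.Agent.H64.TtDefs

/-!
# TT-XDATA (helper32, for helper64, S3385)

From a chain of conjugates `H_j = g^j H g^-j` with the right intersection orders, the bi-infinite
sequence of involutions.
-/

set_option autoImplicit false

namespace Cfsg.Agent.H32.Tt

open Cfsg.Agent.H64.Tt

universe u

section
variable {G : Type u} [Group G]

theorem mem_Hs (H : Subgroup G) (g : G) (j : ℤ) (y : G) :
    y ∈ Hs H g j ↔ (g ^ j)⁻¹ * y * g ^ j ∈ H := by
  unfold Hs
  rw [Subgroup.mem_map_equiv, MulAut.conj_symm_apply]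

/-- `St a b = ⋂_{a ≤ j ≤ b} H_j`. -/
def St (H : Subgroup G) (g : G) (a b : ℤ) : Subgroup G :=
  ⨅ j : ℤ, ⨅ (_ : a ≤ j ∧ j ≤ b), Hs H g j

theorem mem_St (H : Subgroup G) (g : G) (a b : ℤ) (y : G) :
    y ∈ St H g a b ↔ ∀ j : ℤ, a ≤ j → j ≤ b → (g ^ j)⁻¹ * y * g ^ j ∈ H := by
  unfold St
  simp only [Subgroup.mem_iInf, mem_Hs, and_imp]

theorem St_anti (H : Subgroup G) (g : G) {a b a' b' : ℤ} (h1 : a ≤ a') (h2 : b' ≤ b) :
    St H g a b ≤ St H g a' b' := by
  intro y hy
  rw [mem_St] at hy ⊢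
  intro j hj1 hj2
  exact hy j (by omega) (by omega)

theorem St_inf (H : Subgroup G) (g : G) {a b a' b' : ℤ} (h1 : a' ≤ b + 1) (y : G)
    (hy : y ∈ St H g a b) (hy' : y ∈ St H g a' b') : y ∈ St H g a b' := by
  rw [mem_St] at hy hy' ⊢
  intro j hj1 hj2
  by_cases h : j ≤ b
  · exact hy j hj1 h
  · exact hy' j (by omega) hj2

theorem St_self (H : Subgroup G) (g : G) (a : ℤ) : St H g a a = Hs H g a := by
  ext y
  rw [mem_St, mem_Hs]
  constructor
  · intro h
    exact h a le_rfl le_rfl
  · intro h j h1 h2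
    have e : j = a := by omega
    rw [e]
    exact h

theorem St_conj (H : Subgroup G) (g : G) (a b i : ℤ) (y : G) :
    g ^ i * y * (g ^ i)⁻¹ ∈ St H g (a + i) (b + i) ↔ y ∈ St H g a b := by
  rw [mem_St, mem_St]
  constructor
  · intro h j h1 h2
    have h3 := h (j + i) (by omega) (by omega)
    have e : (g ^ (j + i))⁻¹ * (g ^ i * y * (g ^ i)⁻¹) * g ^ (j + i) = (g ^ j)⁻¹ * y * g ^ j := by
      group
    rwa [e] at h3
  · intro h j h1 h2
    have h3 := h (j - i) (by omega) (by omega)
    have e : (g ^ j)⁻¹ * (g ^ i * y * (g ^ i)⁻¹) * g ^ j =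
        (g ^ (j - i))⁻¹ * y * g ^ (j - i) := by
      group
    rwa [e]

theorem St_eq_map (H : Subgroup G) (g : G) (a b i : ℤ) :
    St H g (a + i) (b + i) = (St H g a b).map (MulAut.conj (g ^ i)).toMonoidHom := by
  ext y
  rw [Subgroup.mem_map_equiv, ← St_conj H g a b i]
  have e : g ^ i * ((MulAut.conj (g ^ i)).symm y) * (g ^ i)⁻¹ = y := by
    rw [MulAut.conj_symm_apply]
    group
  rw [e]

theorem St_card_conj (H : Subgroup G) (g : G) (a b i : ℤ) :
    Nat.card (St H g (a + i) (b + i)) = Nat.card (St H g a b) := by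
  rw [St_eq_map]
  exact Subgroup.card_map_of_injective (MulAut.conj (g ^ i)).injective

theorem iInf_range_eq_St (H : Subgroup G) (g : G) (n : ℕ) :
    (⨅ j ∈ Finset.range (n + 1), Hs H g (j : ℤ)) = St H g 0 n := by
  ext y
  simp only [Subgroup.mem_iInf, Finset.mem_range, mem_St, mem_Hs]
  constructor
  · intro h j h0 hj
    have h3 := h j.toNat (by omega)
    rwa [Int.toNat_of_nonneg h0] at h3
  · intro h j hj
    exact h j (by omega) (by omega)

theorem Hs_card (H : Subgroup G) (g : G) (j : ℤ) : Nat.card (Hs H g j) = Nat.card H := by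
  unfold Hs
  exact Subgroup.card_map_of_injective (MulAut.conj (g ^ j)).injective

/-- A subgroup strictly between `A` and `C` with `|C| = p |A|` does not exist. -/
theorem eq_of_lt_of_prime [Finite G] (A B C : Subgroup G) (p : ℕ) (hp : p.Prime) (hAB : A < B)
    (hBC : B ≤ C) (hc : Nat.card C = p * Nat.card A) : B = C := by
  obtain ⟨t, ht⟩ := Subgroup.card_dvd_of_le hAB.le
  obtain ⟨s, hs⟩ := Subgroup.card_dvd_of_le hBC
  have hA : 0 < Nat.card A := Nat.card_pos
  have hts : p = t * s := by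
    have h1 : Nat.card A * p = Nat.card A * (t * s) := by
      rw [mul_comm, ← hc, hs, ht, mul_assoc]
    exact Nat.eq_of_mul_eq_mul_left hA h1
  have ht1 : t ≠ 1 := by
    rintro rfl
    rw [mul_one] at ht
    exact hAB.ne (Subgroup.eq_of_le_of_card_ge hAB.le ht.le)
  have htp : t = p := by
    rcases (Nat.dvd_prime hp).1 ⟨s, hts⟩ with h | h
    · exact absurd h ht1
    · exact h
  have hs1 : s = 1 := by
    have hp0 := hp.pos
    rw [htp] at hts
    have h1 : p * s = p * 1 := by omega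
    exact Nat.eq_of_mul_eq_mul_left hp0 h1
  exact Subgroup.eq_of_le_of_card_ge hBC (by rw [hs, hs1, mul_one])

end

theorem xdata : XDataStmt.{u} := by
  intro G _ _ H g k hk hH hcard
  classical
  have hSc : ∀ (a b : ℤ) (n : ℕ), b = a + n → 1 ≤ n → n ≤ k + 1 →
      Nat.card (St H g a b) = 2 ^ (k + 1 - n) := by
    intro a b n hb h1 h2
    have h3 := St_card_conj H g 0 n a
    rw [zero_add, add_comm (n : ℤ) a, ← hb] at h3
    rw [h3, ← iInf_range_eq_St]
    exact hcard n h1 h2
  have h2 : Nat.card (St H g 0 k) = 2 := by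
    have h3 := hSc 0 k k (by omega) hk (by omega)
    have e : k + 1 - k = 1 := by omega
    rw [h3, e, pow_one]
  obtain ⟨x0, hx0m, hx01⟩ : ∃ x0 ∈ St H g 0 k, x0 ≠ 1 := by
    by_contra hcon
    push_neg at hcon
    have hbot : St H g 0 k = ⊥ := by
      rw [eq_bot_iff]
      intro y hy
      rw [Subgroup.mem_bot]
      exact hcon y hy
    rw [hbot, Subgroup.card_bot] at h2
    omega
  have hx0sq : x0 * x0 = 1 := by
    have h3 : (⟨x0, hx0m⟩ : St H g 0 k) ^ Nat.card (St H g 0 k) = 1 := pow_card_eq_one'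
    rw [h2] at h3
    have h4 := congrArg Subtype.val h3
    simpa [pow_two] using h4
  obtain ⟨x, hx⟩ : ∃ x : ℤ → G, x = fun i => g ^ i * x0 * (g ^ i)⁻¹ := ⟨_, rfl⟩
  have hxi : ∀ i, x i = g ^ i * x0 * (g ^ i)⁻¹ := fun i => by rw [hx]
  have hinv : ∀ i, x i * x i = 1 := by
    intro i
    rw [hxi]
    calc g ^ i * x0 * (g ^ i)⁻¹ * (g ^ i * x0 * (g ^ i)⁻¹)
        = g ^ i * (x0 * x0) * (g ^ i)⁻¹ := by group
      _ = 1 := by rw [hx0sq]; group
  have hshift : ∀ i, g * x i * g⁻¹ = x (i + 1) := by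
    intro i
    rw [hxi, hxi]
    group
  have hxm : ∀ i, x i ∈ St H g i (i + k) := by
    intro i
    rw [hxi]
    have h3 := (St_conj H g 0 k i x0).2 hx0m
    rwa [zero_add, add_comm (k : ℤ) i] at h3
  have hxne : ∀ i, x i ≠ 1 := by
    intro i h
    apply hx01
    rw [hxi] at h
    have e : x0 = (g ^ i)⁻¹ * (g ^ i * x0 * (g ^ i)⁻¹) * g ^ i := by group
    rw [e, h]
    group
  have htriv : ∀ (a b : ℤ), b = a + k + 1 → ∀ y, y ∈ St H g a b → y = 1 := by
    intro a b hb y hy
    have hc := hSc a b (k + 1) (by push_cast; omega) (by omega) le_rfl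
    have hc' : Nat.card (St H g a b) = 1 := by
      rw [hc]
      simp
    rw [Subgroup.card_eq_one.1 hc'] at hy
    exact Subgroup.mem_bot.1 hy
  have hnot : ∀ m : ℤ, m ≤ k + 1 → x m ∉ St H g (m - 1) k := by
    intro m h2 hmem
    have h3 := St_inf H g (a := m - 1) (b := k) (a' := m) (b' := m + k) (by omega) (x m) hmem
      (hxm m)
    exact hxne m (htriv (m - 1) (m + k) (by omega) _ h3)
  have hXle : ∀ m : ℤ, X x 0 m ≤ St H g m k := by
    intro m
    rw [X_le_iff]
    intro i h1 h2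
    exact St_anti H g (by omega) (by omega) (hxm i)
  have hclaim : ∀ m : ℕ, m ≤ k → X x 0 ((m : ℤ) - 1) = St H g ((m : ℤ) - 1) k := by
    intro m
    induction m with
    | zero =>
      intro _
      rw [X_empty x (by norm_num)]
      symm
      rw [eq_bot_iff]
      intro y hy
      rw [Subgroup.mem_bot]
      exact htriv _ _ (by push_cast; omega) y hy
    | succ m ih =>
      intro hmk
      have ih' := ih (by omega)
      have e1 : ((m + 1 : ℕ) : ℤ) - 1 = m := by push_cast; ring
      rw [e1]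
      have hlt : St H g ((m : ℤ) - 1) k < X x 0 m := by
        rw [← ih']
        refine lt_of_le_of_ne (X_mono x le_rfl (by omega)) ?_
        intro heq
        have h3 : x m ∈ X x 0 ((m : ℤ) - 1) := by
          rw [heq]
          exact mem_X x (by omega) le_rfl
        rw [ih'] at h3
        exact hnot m (by omega) h3
      apply eq_of_lt_of_prime _ _ _ 2 Nat.prime_two hlt (hXle m)
      rw [hSc m k (k - m) (by omega) (by omega) (by omega),
        hSc ((m : ℤ) - 1) k (k - m + 1) (by omega) (by omega) (by omega), ← pow_succ']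
      congr 1
      omega
  refine ⟨x, hinv, hshift, ?_, ?_, ?_⟩
  · intro m hm1 hmk
    rw [hclaim m hmk, hSc ((m : ℤ) - 1) k (k - m + 1) (by omega) (by omega) (by omega)]
    congr 1
    omega
  · rw [← St_self]
    have hlt : St H g ((k : ℤ) - 1) k < X x 0 k := by
      rw [← hclaim k le_rfl]
      refine lt_of_le_of_ne (X_mono x le_rfl (by omega)) ?_
      intro heq
      have h3 : x k ∈ X x 0 ((k : ℤ) - 1) := by
        rw [heq]
        exact mem_X x (by omega) le_rfl
      rw [hclaim k le_rfl] at h3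
      exact hnot k (by omega) h3
    apply eq_of_lt_of_prime _ _ _ 3 Nat.prime_three hlt (hXle k)
    rw [St_self, Hs_card, hH, hSc ((k : ℤ) - 1) k 1 (by push_cast; omega) le_rfl (by omega)]
    have e : k + 1 - 1 = k := by omega
    rw [e, mul_comm]
  · have hXk : X x 0 k = Hs H g k := by
      rw [← St_self]
      have hlt : St H g ((k : ℤ) - 1) k < X x 0 k := by
        rw [← hclaim k le_rfl]
        refine lt_of_le_of_ne (X_mono x le_rfl (by omega)) ?_
        intro heq
        have h3 : x k ∈ X x 0 ((k : ℤ) - 1) := by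
          rw [heq]
          exact mem_X x (by omega) le_rfl
        rw [hclaim k le_rfl] at h3
        exact hnot k (by omega) h3
      apply eq_of_lt_of_prime _ _ _ 3 Nat.prime_three hlt (hXle k)
      rw [St_self, Hs_card, hH, hSc ((k : ℤ) - 1) k 1 (by push_cast; omega) le_rfl (by omega)]
      have e : k + 1 - 1 = k := by omega
      rw [e, mul_comm]
    have e1 : X x 1 ((k : ℤ) + 1) = (X x 0 k).map (MulAut.conj g).toMonoidHom := by
      unfold X
      rw [MonoidHom.map_closure]
      congr 1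
      ext y
      simp only [Set.mem_image, Set.mem_Icc]
      constructor
      · rintro ⟨i, ⟨h1, h2⟩, rfl⟩
        refine ⟨x (i - 1), ⟨i - 1, ⟨by omega, by omega⟩, rfl⟩, ?_⟩
        have h3 := hshift (i - 1)
        rw [sub_add_cancel] at h3
        exact h3
      · rintro ⟨_, ⟨i, ⟨h1, h2⟩, rfl⟩, rfl⟩
        exact ⟨i + 1, ⟨by omega, by omega⟩, (hshift i).symm⟩
    have e2 : Hs H g ((k : ℤ) + 1) = (Hs H g k).map (MulAut.conj g).toMonoidHom := by
      ext y
      rw [mem_Hs, Subgroup.mem_map_equiv, mem_Hs, MulAut.conj_symm_apply]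
      have e : (g ^ ((k : ℤ) + 1))⁻¹ * y * g ^ ((k : ℤ) + 1) =
          (g ^ (k : ℤ))⁻¹ * (g⁻¹ * y * g) * g ^ (k : ℤ) := by group
      rw [e]
    rw [e1, e2, hXk]

example : XDataStmt.{u} := xdata

end Cfsg.Agent.H32.Tt
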