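import Mathlib
import Cfsg.Agent.H64.TtDefs
import Cfsg.Agent.H32.TtXData

/-!
# TT-GLUE (helper32, for helper64, S3385)

From the regular sequence of point stabilisers to Tutte data.
-/

set_option autoImplicit false

namespace Cfsg.Agent.H32.Tt

open Cfsg.Agent.H64.Tt MulAction

universe u v

theorem glue (hX : XDataStmt.{u}) : GlueStmt.{u, v} := by
  intro G _ _ Ω _ _ hprim a g k hk hcardH hcard
  classical
  obtain ⟨H, hHdef⟩ : ∃ H : Subgroup G, H = stabilizer G a := ⟨_, rfl⟩
  have hHs : ∀ j : ℤ, Hs H g j = stabilizer G (g ^ j • a) := by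
    intro j
    unfold Hs
    rw [hHdef, MulAction.stabilizer_smul_eq_stabilizer_map_conj]
  have hHsN : ∀ j : ℕ, Hs H g (j : ℤ) = stabilizer G (g ^ j • a) := by
    intro j
    rw [hHs, zpow_natCast]
  have hcard' : ∀ n : ℕ, 1 ≤ n → n ≤ k + 1 →
      Nat.card (↥(⨅ j ∈ Finset.range (n + 1), Hs H g (j : ℤ))) = 2 ^ (k + 1 - n) := by
    intro n h1 h2
    simp only [hHsN]
    exact hcard n h1 h2
  obtain ⟨x, hinv, hshift, hc, hX0, hX1⟩ := hX H g k hk (by rw [hHdef]; exact hcardH) hcard'
  have hpos : 0 < 2 ^ k := pos_of_ne_zero (by positivity)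
  haveI : Nontrivial Ω := by
    by_contra hnt
    rw [not_nontrivial_iff_subsingleton] at hnt
    have hG : ∀ h : G, h = 1 := by
      intro h
      apply FaithfulSMul.eq_of_smul_eq_smul (α := Ω)
      intro b
      exact Subsingleton.elim _ _
    have h1 : Nat.card (stabilizer G a) = 1 := by
      rw [Subgroup.card_eq_one, eq_bot_iff]
      intro h _
      rw [Subgroup.mem_bot]
      exact hG h
    rw [h1] at hcardH
    omega
  haveI : IsPreprimitive G Ω := hprim
  refine ⟨x, ⟨hinv, hshift, hc, ?_, ?_⟩⟩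
  · rw [hX0, hX1, hHs, hHs]
    have hco : IsCoatom (stabilizer G (g ^ (k : ℤ) • a)) :=
      IsPreprimitive.isCoatom_stabilizer_of_isPreprimitive G _
    by_contra hne
    have hle : stabilizer G (g ^ (k : ℤ) • a) ≤
        stabilizer G (g ^ (k : ℤ) • a) ⊔ stabilizer G (g ^ ((k : ℤ) + 1) • a) := le_sup_left
    rcases hco.le_iff.1 hle with h | h
    · exact hne h
    · have hle2 : stabilizer G (g ^ ((k : ℤ) + 1) • a) ≤ stabilizer G (g ^ (k : ℤ) • a) := by
        rw [← h]
        exact le_sup_right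
      have h3 : Hs H g ((k : ℤ) + 1) ≤ St H g k ((k : ℤ) + 1) := by
        intro y hy
        have hy' : y ∈ Hs H g k := by
          rw [hHs]
          rw [hHs] at hy
          exact hle2 hy
        rw [mem_St]
        intro j h1 h2
        rcases (by omega : j = k ∨ j = (k : ℤ) + 1) with rfl | rfl
        · exact (mem_Hs H g _ y).1 hy'
        · exact (mem_Hs H g _ y).1 hy
      have h4 := Subgroup.card_le_of_le h3
      rw [Hs_card] at h4
      have h5 : Nat.card (St H g k ((k : ℤ) + 1)) = 2 ^ k := by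
        have h6 := St_card_conj H g 0 1 k
        rw [zero_add, add_comm (1 : ℤ) k] at h6
        rw [h6]
        have h7 := hcard' 1 le_rfl (by omega)
        rw [iInf_range_eq_St] at h7
        simpa using h7
      rw [h5, hHdef, hcardH] at h4
      omega
  · intro R hR hRle
    rw [hX0, hHs] at hRle
    rw [eq_bot_iff]
    intro r hr
    rw [Subgroup.mem_bot]
    apply FaithfulSMul.eq_of_smul_eq_smul (α := Ω)
    intro ω
    rw [one_smul]
    haveI : IsPretransitive G Ω := hprim.toIsPretransitive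
    obtain ⟨h, rfl⟩ := MulAction.exists_smul_eq G (g ^ (k : ℤ) • a) ω
    have h1 : h⁻¹ * r * h ∈ R := by
      have h2 := hR.conj_mem r hr h⁻¹
      rwa [inv_inv] at h2
    have h2 := hRle h1
    rw [MulAction.mem_stabilizer_iff] at h2
    calc r • h • (g ^ (k : ℤ) • a) = h • ((h⁻¹ * r * h) • (g ^ (k : ℤ) • a)) := by
          simp [mul_smul]
      _ = h • (g ^ (k : ℤ) • a) := by rw [h2]

example (hX : XDataStmt.{u}) : GlueStmt.{u, v} := glue hX

end Cfsg.Agent.H32.Tt
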