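import Mathlib
import Cfsg.Agent.H81.TypePDefs
import Cfsg.Agent.H32.Dual
import Cfsg.Agent.H32.SNC2
import Cfsg.Agent.H4.BrauerBasic
import Cfsg.Agent.Lib.Clifford

/-!
# helper32: piece S1511-LINEQ of helper81's project (Peterfalvi (4.3))

If the linear character `φ ≠ 1` of `W`, trivial on `W₂`, is the restriction of a linear character
`Λ` of `L`, then `χ φ = Λ`.
-/

set_option autoImplicit false

namespace Cfsg.Agent.H32.TyP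

open Cfsg Cfsg.Agent.H4 Cfsg.Agent.H32 Cfsg.Agent.H81.TyP

universe u

theorem linEq : StmtLinEq.{u} := by
  intro L _ _ W₁ W₂ hW χ hχ φ ψ₁ ψ₂ hφ hφ₂ hψ₁ hψ₂ hψ₁₂ hψ₁W hψ₂W Λ hΛ
  classical
  have : Fintype ↥(W₁ ⊔ W₂) := Fintype.ofFinite _
  have hΛirr : IsIrrCharacter L (fun x => ((Λ x : ℂˣ) : ℂ)) := isIrrCharacter_of_hom Λ
  have hΛc : IsClassFunction L (fun x => ((Λ x : ℂˣ) : ℂ)) :=
    isClassFunction_of_isCharacter (isCharacter_of_hom Λ)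
  have h1W₂ : ∀ w : ↥(W₁ ⊔ W₂), (w : L) ∈ W₂ → (1 : ↥(W₁ ⊔ W₂) →* ℂˣ) w = 1 := fun _ _ => rfl
  have h1W₁ : ∀ w : ↥(W₁ ⊔ W₂), (w : L) ∈ W₁ → (1 : ↥(W₁ ⊔ W₂) →* ℂˣ) w = 1 := fun _ _ => rfl
  have one_mul' : ∀ ψ : ↥(W₁ ⊔ W₂) →* ℂˣ, (1 : ↥(W₁ ⊔ W₂) →* ℂˣ) * ψ = ψ := fun ψ => by
    ext x
    simp
  have mul_one' : ∀ φ : ↥(W₁ ⊔ W₂) →* ℂˣ, φ * (1 : ↥(W₁ ⊔ W₂) →* ℂˣ) = φ := fun φ => by
    ext x
    simp
  have hΛ1 : Λ ≠ 1 := by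
    intro h
    apply hφ
    ext w
    rw [← hΛ w, h]
    rfl
  -- the values `⟨χ ω, Λ⟩`
  have hv : ∀ ω, classInner (χ ω) (fun x => ((Λ x : ℂˣ) : ℂ)) = 0 ∨
      (classInner (χ ω) (fun x => ((Λ x : ℂˣ) : ℂ)) = 1 ∧ χ ω = fun x => ((Λ x : ℂˣ) : ℂ)) ∨
      (classInner (χ ω) (fun x => ((Λ x : ℂˣ) : ℂ)) = -1 ∧
        -χ ω = fun x => ((Λ x : ℂˣ) : ℂ)) := by
    intro ω
    rcases hχ.irr_or_neg ω with h | h
    · have h1 := Cfsg.Agent.Clifford.classInner_irr_irr h hΛirr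
      by_cases h2 : χ ω = fun x => ((Λ x : ℂˣ) : ℂ)
      · rw [if_pos h2] at h1
        exact Or.inr (Or.inl ⟨h1, h2⟩)
      · rw [if_neg h2] at h1
        exact Or.inl h1
    · have h1 := Cfsg.Agent.Clifford.classInner_irr_irr h hΛirr
      rw [classInner_neg_left] at h1
      by_cases h2 : -χ ω = fun x => ((Λ x : ℂˣ) : ℂ)
      · rw [if_pos h2] at h1
        exact Or.inr (Or.inr ⟨by linear_combination -h1, h2⟩)
      · rw [if_neg h2] at h1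
        exact Or.inl (by linear_combination -h1)
  have hΛΛ : classInner (fun x => ((Λ x : ℂˣ) : ℂ)) (fun x => ((Λ x : ℂˣ) : ℂ)) = 1 := by
    rw [Cfsg.Agent.Clifford.classInner_irr_irr hΛirr hΛirr, if_pos rfl]
  -- at most one index has a nonzero product
  have huniq : ∀ ω ω', classInner (χ ω) (fun x => ((Λ x : ℂˣ) : ℂ)) ≠ 0 →
      classInner (χ ω') (fun x => ((Λ x : ℂˣ) : ℂ)) ≠ 0 → ω = ω' := by
    intro ω ω' h h'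
    by_contra hne
    have h0 := hχ.orthonormal ω ω'
    rw [if_neg hne] at h0
    rcases hv ω with h1 | ⟨-, h1⟩ | ⟨-, h1⟩
    · exact h h1
    · rcases hv ω' with h2 | ⟨-, h2⟩ | ⟨-, h2⟩
      · exact h' h2
      · rw [h1, h2, hΛΛ] at h0
        exact one_ne_zero h0
      · have h3 : classInner (χ ω) (-χ ω') = 1 := by rw [h1, h2, hΛΛ]
        rw [classInner_neg_right, h0, neg_zero] at h3
        exact zero_ne_one h3
    · rcases hv ω' with h2 | ⟨-, h2⟩ | ⟨-, h2⟩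
      · exact h' h2
      · have h3 : classInner (-χ ω) (χ ω') = 1 := by rw [h1, h2, hΛΛ]
        rw [classInner_neg_left, h0, neg_zero] at h3
        exact zero_ne_one h3
      · have h3 : classInner (-χ ω) (-χ ω') = 1 := by rw [h1, h2, hΛΛ]
        rw [classInner_neg_left, classInner_neg_right, h0, neg_zero, neg_zero] at h3
        exact zero_ne_one h3
  -- `⟨1, Λ⟩ = 0`
  have h1Λ : classInner (χ 1) (fun x => ((Λ x : ℂˣ) : ℂ)) = 0 := by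
    have e : χ 1 = fun x => (((1 : L →* ℂˣ) x : ℂˣ) : ℂ) := by
      rw [hχ.map_one]
      funext x
      simp
    rw [e, classInner_unitsHom, if_neg (Ne.symm hΛ1)]
  -- the equation for a `ψ`
  have heq : ∀ ψ : ↥(W₁ ⊔ W₂) →* ℂˣ, ψ ≠ 1 →
      (∀ w : ↥(W₁ ⊔ W₂), (w : L) ∈ W₁ → ψ w = 1) →
      classInner (χ φ) (fun x => ((Λ x : ℂˣ) : ℂ)) +
        classInner (χ ψ) (fun x => ((Λ x : ℂˣ) : ℂ)) -
        classInner (χ (φ * ψ)) (fun x => ((Λ x : ℂˣ) : ℂ)) = 1 := by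
    intro ψ hψ hψW
    have hind := hχ.induced_eq φ ψ hφ hψ hφ₂ hψW
    have e : (fun g => 1 - χ φ g - χ ψ g + χ (φ * ψ) g) = χ 1 - χ φ - χ ψ + χ (φ * ψ) := by
      ext g
      simp [hχ.map_one]
    have h0 : classInner (indFun (W₁ ⊔ W₂)
        (fun w => 1 - (φ w : ℂ) - (ψ w : ℂ) + (φ w : ℂ) * (ψ w : ℂ)))
        (fun x => ((Λ x : ℂˣ) : ℂ)) =
        0 - classInner (χ φ) (fun x => ((Λ x : ℂˣ) : ℂ)) -
          classInner (χ ψ) (fun x => ((Λ x : ℂˣ) : ℂ)) +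
          classInner (χ (φ * ψ)) (fun x => ((Λ x : ℂˣ) : ℂ)) := by
      rw [hind, e, classInner_add_left, classInner_sub_left, classInner_sub_left, h1Λ]
    rw [frobenius_reciprocity _ _ _ hΛc] at h0
    have e2 : (fun w : ↥(W₁ ⊔ W₂) => 1 - (φ w : ℂ) - (ψ w : ℂ) + (φ w : ℂ) * (ψ w : ℂ)) =
        (fun w => (((1 : ↥(W₁ ⊔ W₂) →* ℂˣ) w : ℂˣ) : ℂ)) - (fun w => ((φ w : ℂˣ) : ℂ)) -
          (fun w => ((ψ w : ℂˣ) : ℂ)) + (fun w => (((φ * ψ) w : ℂˣ) : ℂ)) := by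
      ext w
      simp
    have e3 : (fun h : ↥(W₁ ⊔ W₂) => ((Λ (h : L) : ℂˣ) : ℂ)) = fun w => ((φ w : ℂˣ) : ℂ) := by
      funext w
      rw [hΛ w]
    have hne1 : (1 : ↥(W₁ ⊔ W₂) →* ℂˣ) ≠ φ := Ne.symm hφ
    have hne2 : ψ ≠ φ := by
      intro h
      have h3 : (1 : ↥(W₁ ⊔ W₂) →* ℂˣ) * ψ = φ * 1 := by rw [one_mul', mul_one', h]
      exact hφ (snc_mul_eq_mul W₁ W₂ 1 φ ψ 1 h1W₂ hφ₂ hψW h1W₁ h3).1.symm
    have hne3 : φ * ψ ≠ φ := by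
      intro h
      have h3 : φ * ψ = φ * 1 := by rw [mul_one', h]
      exact hψ (snc_mul_eq_mul W₁ W₂ φ φ ψ 1 hφ₂ hφ₂ hψW h1W₁ h3).2
    rw [e2, e3, classInner_add_left, classInner_sub_left, classInner_sub_left,
      classInner_unitsHom, classInner_unitsHom, classInner_unitsHom, classInner_unitsHom,
      if_neg hne1, if_pos rfl, if_neg hne2, if_neg hne3] at h0
    linear_combination h0
  have e1 := heq ψ₁ hψ₁ hψ₁W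
  have e2 := heq ψ₂ hψ₂ hψ₂W
  -- distinctness of the indices
  have d1 : ψ₁ ≠ φ := by
    intro h
    have h3 : (1 : ↥(W₁ ⊔ W₂) →* ℂˣ) * ψ₁ = φ * 1 := by rw [one_mul', mul_one', h]
    exact hφ (snc_mul_eq_mul W₁ W₂ 1 φ ψ₁ 1 h1W₂ hφ₂ hψ₁W h1W₁ h3).1.symm
  have d2 : φ * ψ₁ ≠ φ := by
    intro h
    have h3 : φ * ψ₁ = φ * 1 := by rw [mul_one', h]
    exact hψ₁ (snc_mul_eq_mul W₁ W₂ φ φ ψ₁ 1 hφ₂ hφ₂ hψ₁W h1W₁ h3).2
  have d3 : ψ₁ ≠ φ * ψ₂ := by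
    intro h
    have h3 : (1 : ↥(W₁ ⊔ W₂) →* ℂˣ) * ψ₁ = φ * ψ₂ := by rw [one_mul', h]
    exact hφ (snc_mul_eq_mul W₁ W₂ 1 φ ψ₁ ψ₂ h1W₂ hφ₂ hψ₁W hψ₂W h3).1.symm
  have d4 : φ * ψ₁ ≠ ψ₂ := by
    intro h
    have h3 : φ * ψ₁ = (1 : ↥(W₁ ⊔ W₂) →* ℂˣ) * ψ₂ := by rw [one_mul', h]
    exact hφ (snc_mul_eq_mul W₁ W₂ φ 1 ψ₁ ψ₂ hφ₂ h1W₂ hψ₁W hψ₂W h3).1
  have d5 : φ * ψ₁ ≠ φ * ψ₂ := by
    intro h
    exact hψ₁₂ (snc_mul_eq_mul W₁ W₂ φ φ ψ₁ ψ₂ hφ₂ hφ₂ hψ₁W hψ₂W h).2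
  -- `⟨χ φ, Λ⟩ ≠ 0`
  have ha : classInner (χ φ) (fun x => ((Λ x : ℂˣ) : ℂ)) ≠ 0 := by
    intro ha
    rw [ha, zero_add] at e1 e2
    have hb1 : classInner (χ ψ₁) (fun x => ((Λ x : ℂˣ) : ℂ)) ≠ 0 ∨
        classInner (χ (φ * ψ₁)) (fun x => ((Λ x : ℂˣ) : ℂ)) ≠ 0 := by
      by_contra hcon
      push Not at hcon
      rw [hcon.1, hcon.2, sub_zero] at e1
      exact zero_ne_one e1
    have hb2 : classInner (χ ψ₂) (fun x => ((Λ x : ℂˣ) : ℂ)) ≠ 0 ∨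
        classInner (χ (φ * ψ₂)) (fun x => ((Λ x : ℂˣ) : ℂ)) ≠ 0 := by
      by_contra hcon
      push Not at hcon
      rw [hcon.1, hcon.2, sub_zero] at e2
      exact zero_ne_one e2
    rcases hb1 with h1 | h1 <;> rcases hb2 with h2 | h2
    · exact hψ₁₂ (huniq _ _ h1 h2)
    · exact d3 (huniq _ _ h1 h2)
    · exact d4 (huniq _ _ h1 h2)
    · exact d5 (huniq _ _ h1 h2)
  have hb : classInner (χ ψ₁) (fun x => ((Λ x : ℂˣ) : ℂ)) = 0 := by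
    by_contra h
    exact d1 (huniq _ _ h ha)
  have hc : classInner (χ (φ * ψ₁)) (fun x => ((Λ x : ℂˣ) : ℂ)) = 0 := by
    by_contra h
    exact d2 (huniq _ _ h ha)
  rw [hb, hc, add_zero, sub_zero] at e1
  rcases hv φ with h | ⟨-, h⟩ | ⟨h, -⟩
  · exact absurd h ha
  · exact h
  · rw [e1] at h
    norm_num at h

example : Cfsg.Agent.H81.TyP.StmtLinEq.{u} := linEq

end Cfsg.Agent.H32.TyP
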